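import Groth.Agent.Lib.Comod.Alg
import Mathlib.RingTheory.HopfAlgebra.Convolution
import Mathlib.LinearAlgebra.LinearIndependent.Lemmas

/-!
The structure theorem for Hopf modules over the regular comodule algebra.
-/

universe u v w

open TensorProduct Groth.Agent.Lib.Comod.Basic Groth.Agent.Lib.Comod.Reynolds
  Groth.Agent.Lib.Comod.Alg

namespace Groth.Agent.H60.HopfMod

set_option linter.unusedSectionVars false

noncomputable section

variable {k : Type u} [Field k] {A : Type v} [CommRing A] [HopfAlgebra k A]

theorem includeRight_mul_antipode (a : A) :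
    LinearMap.mul' k (A ⊗[k] A)
      (TensorProduct.map (Algebra.TensorProduct.includeRight : A →ₐ[k] A ⊗[k] A).toLinearMap
        (CoalgebraStruct.comul (R := k) (A := A) ∘ₗ HopfAlgebraStruct.antipode (R := k) (A := A))
        (CoalgebraStruct.comul (R := k) a)) =
      HopfAlgebraStruct.antipode (R := k) a ⊗ₜ[k] (1 : A) := by
  let iL : WithConv (A →ₐ[k] A ⊗[k] A) := WithConv.toConv Algebra.TensorProduct.includeLeft
  let iR : WithConv (A →ₐ[k] A ⊗[k] A) := WithConv.toConv Algebra.TensorProduct.includeRight
  let dl : WithConv (A →ₐ[k] A ⊗[k] A) := WithConv.toConv (Bialgebra.comulAlgHom k A)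
  have key : dl = iL * iR := by
    apply WithConv.ofConv_injective
    apply AlgHom.toLinearMap_injective
    refine LinearMap.ext fun b => ?_
    change CoalgebraStruct.comul (R := k) b = Algebra.TensorProduct.lmul' k
      (Algebra.TensorProduct.map Algebra.TensorProduct.includeLeft Algebra.TensorProduct.includeRight
        (Bialgebra.comulAlgHom k A b))
    rw [Bialgebra.comulAlgHom_apply]
    induction CoalgebraStruct.comul (R := k) b using TensorProduct.induction_on with
    | zero => simp
    | tmul x y => simp [Algebra.TensorProduct.tmul_mul_tmul]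
    | add x y hx hy => simp only [map_add, ← hx, ← hy]
  have h : iR * dl⁻¹ = iL⁻¹ := by
    refine eq_inv_of_mul_eq_one_right (a := iL) ?_
    rw [← mul_assoc, ← key]
    exact mul_inv_cancel dl
  have h' : (iR * dl⁻¹).ofConv a = iL⁻¹.ofConv a := by rw [h]
  refine Eq.trans ?_ (h'.trans ?_)
  · change _ = Algebra.TensorProduct.lmul' k
      (Algebra.TensorProduct.map Algebra.TensorProduct.includeRight
        ((Bialgebra.comulAlgHom k A).comp (HopfAlgebra.antipodeAlgHom k A)) (Bialgebra.comulAlgHom k A a))
    rw [Bialgebra.comulAlgHom_apply]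
    induction CoalgebraStruct.comul (R := k) a using TensorProduct.induction_on with
    | zero => simp
    | tmul x y => simp
    | add x y hx hy => simp only [map_add, hx, hy]
  · rfl

variable (M : Type w) [AddCommGroup M] [Module k M] [Module A M] [IsScalarTower k A M]
  [HopfRep.Comod k A M] [TameAct.IsHopfMod k A A M]

/-- `m ⊗ a ↦ a • m`. -/
def sm : M ⊗[k] A →ₗ[k] M := TensorProduct.lift (Algebra.lsmul k k M).toLinearMap.flip

@[simp] theorem sm_tmul (m : M) (a : A) : sm M (m ⊗ₜ[k] a) = a • m := by simp [sm]

/-- The projection on the fixed vectors. -/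
def P : M →ₗ[k] M :=
  sm M ∘ₗ (HopfAlgebraStruct.antipode (R := k) (A := A)).lTensor M ∘ₗ
    HopfRep.Comod.coact (k := k) (A := A)

theorem P_mem_fixedPts (m : M) : P (k := k) (A := A) M m ∈ HopfRep.fixedPts k A M := by
  change HopfRep.Comod.coact (k := k) (A := A) (P M m) = P M m ⊗ₜ[k] (1 : A)
  let H : M ⊗[k] (A ⊗[k] A) →ₗ[k] M ⊗[k] A :=
    TensorProduct.lift ((LinearMap.llcomp k (A ⊗[k] A) (A ⊗[k] A) (M ⊗[k] A)).flip
      (LinearMap.mul' k (A ⊗[k] A) ∘ₗ
        TensorProduct.map (Algebra.TensorProduct.includeRight : A →ₐ[k] A ⊗[k] A).toLinearMap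
          (CoalgebraStruct.comul (R := k) (A := A) ∘ₗ HopfAlgebraStruct.antipode (R := k) (A := A))) ∘ₗ
      (LinearMap.rTensorHom A : (A →ₗ[k] M) →ₗ[k] _) ∘ₗ (Algebra.lsmul k k M).toLinearMap.flip)
  have e1 : ∀ z : M ⊗[k] A, HopfRep.Comod.coact (k := k) (A := A)
      (sm M ((HopfAlgebraStruct.antipode (R := k) (A := A)).lTensor M z)) =
      H (TensorProduct.assoc k M A A ((HopfRep.Comod.coact (k := k) (A := A)).rTensor A z)) := by
    intro z
    induction z using TensorProduct.induction_on with
    | zero => simp
    | add x y hx hy => simp only [map_add, hx, hy]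
    | tmul n c =>
      rw [LinearMap.lTensor_tmul, sm_tmul, coact_smul (R := A), LinearMap.rTensor_tmul]
      induction HopfRep.Comod.coact (k := k) (A := A) n using TensorProduct.induction_on with
      | zero => simp
      | add x y hx hy => simp only [map_add, TensorProduct.add_tmul, hx, hy]
      | tmul n' b' =>
        simp only [H, TensorProduct.assoc_tmul, TensorProduct.lift.tmul, LinearMap.comp_apply,
          LinearMap.flip_apply, LinearMap.llcomp_apply, LinearMap.coe_rTensorHom,
          TensorProduct.map_tmul, AlgHom.toLinearMap_apply, Algebra.TensorProduct.includeRight_apply,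
          LinearMap.mul'_apply]
        change TameAct.hmSMul k A A M (CoalgebraStruct.comul (R := k) _) _ = _
        induction CoalgebraStruct.comul (R := k) (HopfAlgebraStruct.antipode (R := k) c)
          using TensorProduct.induction_on with
        | zero => simp
        | add x y hx hy => simp only [map_add, LinearMap.add_apply, mul_add, hx, hy]
        | tmul x y => simp [Algebra.TensorProduct.tmul_mul_tmul, mul_comm]
  have h := LinearMap.congr_fun (HopfRep.Comod.coassoc (k := k) (A := A) (V := M)) m
  simp only [LinearMap.comp_apply, LinearEquiv.coe_coe] at h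
  simp only [P, LinearMap.comp_apply]
  rw [e1, h]
  induction HopfRep.Comod.coact (k := k) (A := A) m using TensorProduct.induction_on with
  | zero => simp
  | add x y hx hy => simp only [map_add, TensorProduct.add_tmul, hx, hy]
  | tmul n c =>
    simp only [H, LinearMap.lTensor_tmul, TensorProduct.lift.tmul, LinearMap.comp_apply,
      LinearMap.flip_apply, LinearMap.llcomp_apply, LinearMap.coe_rTensorHom, sm_tmul]
    rw [includeRight_mul_antipode]
    simp

theorem sum_smul_P (m : M) :
    sm M ((P (k := k) (A := A) M).rTensor A (HopfRep.Comod.coact (k := k) (A := A) m)) = m := by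
  let Q : M ⊗[k] (A ⊗[k] A) →ₗ[k] M :=
    sm M ∘ₗ (LinearMap.mul' k A ∘ₗ (HopfAlgebraStruct.antipode (R := k) (A := A)).rTensor A).lTensor M
  have e : ∀ z : M ⊗[k] A, sm M ((P (k := k) (A := A) M).rTensor A z) =
      Q (TensorProduct.assoc k M A A ((HopfRep.Comod.coact (k := k) (A := A)).rTensor A z)) := by
    intro z
    induction z using TensorProduct.induction_on with
    | zero => simp
    | add x y hx hy => simp only [map_add, hx, hy]
    | tmul n c =>
      simp only [LinearMap.rTensor_tmul, sm_tmul, P, LinearMap.comp_apply]
      induction HopfRep.Comod.coact (k := k) (A := A) n using TensorProduct.induction_on with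
      | zero => simp
      | add x y hx hy => simp only [map_add, TensorProduct.add_tmul, smul_add, hx, hy]
      | tmul n' b' => simp [Q, smul_smul, mul_comm]
  have h := LinearMap.congr_fun (HopfRep.Comod.coassoc (k := k) (A := A) (V := M)) m
  have h' := LinearMap.congr_fun (HopfRep.Comod.counit_comp (k := k) (A := A) (V := M)) m
  simp only [LinearMap.comp_apply, LinearEquiv.coe_coe] at h h'
  rw [e, h]
  simp only [Q, LinearMap.comp_apply]
  rw [← LinearMap.lTensor_comp_apply, LinearMap.comp_assoc, HopfAlgebra.mul_antipode_rTensor_comul,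
    LinearMap.lTensor_comp_apply, h']
  simp

theorem P_smul_fixed (c : A) {v : M} (hv : v ∈ HopfRep.fixedPts k A M) :
    P (k := k) (A := A) M (c • v) = CoalgebraStruct.counit (R := k) c • v := by
  have h := LinearMap.congr_fun (HopfAlgebra.mul_antipode_lTensor_comul (R := k) (A := A)) c
  simp only [LinearMap.comp_apply] at h
  simp only [P, LinearMap.comp_apply]
  rw [coact_smul (R := A), show HopfRep.Comod.coact (k := k) (A := A) v = v ⊗ₜ[k] 1 from hv]
  change sm M (_ : M ⊗[k] A) = _
  rw [show CoalgebraStruct.counit (R := k) c • v = (Algebra.linearMap k A (CoalgebraStruct.counit (R := k) c)) • v by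
    simp, ← h]
  change sm M ((HopfAlgebraStruct.antipode (R := k) (A := A)).lTensor M
    (TameAct.hmSMul k A A M (CoalgebraStruct.comul (R := k) c) (v ⊗ₜ[k] 1))) = _
  induction CoalgebraStruct.comul (R := k) c using TensorProduct.induction_on with
  | zero => simp
  | add x y hx hy => simp only [map_add, LinearMap.add_apply, add_smul, hx, hy]
  | tmul x y => simp [smul_smul, mul_comm]

theorem basis_of_fixedPts {ι : Type*} (v : ι → M) (hli : LinearIndependent k v)
    (hsp : Submodule.span k (Set.range v) = HopfRep.fixedPts k A M) :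
    LinearIndependent A v ∧ Submodule.span A (Set.range v) = ⊤ := by
  classical
  have hv : ∀ i, v i ∈ HopfRep.fixedPts k A M := fun i => hsp ▸ Submodule.subset_span ⟨i, rfl⟩
  constructor
  · rw [linearIndependent_iff']
    intro s g hg i hi
    let J : M →ₗ[k] M ⊗[k] A :=
      (P (k := k) (A := A) M).rTensor A ∘ₗ HopfRep.Comod.coact (k := k) (A := A)
    have hJ : ∀ (c : A) i, J (c • v i) = v i ⊗ₜ[k] c := by
      intro c i
      have h' := LinearMap.congr_fun (Coalgebra.rTensor_counit_comp_comul (R := k) (A := A)) c
      simp only [LinearMap.comp_apply] at h'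
      simp only [J, LinearMap.comp_apply, coact_smul (R := A),
        show HopfRep.Comod.coact (k := k) (A := A) (v i) = v i ⊗ₜ[k] 1 from hv i]
      have e : ∀ z : A ⊗[k] A, (P (k := k) (A := A) M).rTensor A (TameAct.hmSMul k A A M z (v i ⊗ₜ[k] 1)) =
          (LinearMap.toSpanSingleton k M (v i)).rTensor A
            ((CoalgebraStruct.counit (R := k) (A := A)).rTensor A z) := by
        intro z
        induction z using TensorProduct.induction_on with
        | zero => simp
        | add x y hx hy => simp only [map_add, LinearMap.add_apply, hx, hy]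
        | tmul x y => simp [P_smul_fixed M x (hv i)]
      refine (e _).trans ?_
      rw [show HopfRep.Comod.coact (k := k) (A := A) c = CoalgebraStruct.comul (R := k) c from rfl, h']
      simp
    have h0 : ∑ i ∈ s, v i ⊗ₜ[k] g i = 0 := by
      rw [← map_zero J, ← hg, map_sum]
      exact Finset.sum_congr rfl fun i _ => (hJ _ _).symm
    refine (Module.Free.chooseBasis k A).repr.injective (Finsupp.ext fun j => ?_)
    have h1 := congrArg (contract M ((Module.Free.chooseBasis k A).coord j)) h0
    simp only [map_sum, contract_tmul, map_zero] at h1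
    rw [map_zero, Finsupp.zero_apply]
    exact linearIndependent_iff'.1 hli s _ h1 i hi
  · rw [eq_top_iff]
    rintro m -
    rw [← sum_smul_P (k := k) (A := A) M m]
    induction HopfRep.Comod.coact (k := k) (A := A) m using TensorProduct.induction_on with
    | zero => simp
    | add x y hx hy => simp only [map_add]; exact add_mem hx hy
    | tmul n c =>
      rw [LinearMap.rTensor_tmul, sm_tmul]
      refine Submodule.smul_mem _ c ?_
      exact Submodule.span_le_restrictScalars k A _ (hsp.symm ▸ P_mem_fixedPts M n)

end

end Groth.Agent.H60.HopfMod
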