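import Groth.Agent.Lib.Comod.Invariants
import Groth.Agent.H60.HopfMod
import Mathlib.RingTheory.MvPolynomial.Basic

/-! Auxiliary actions: on the product with the group and on a polynomial ring over a comodule. -/

set_option autoImplicit false
set_option linter.unusedSectionVars false
set_option linter.style.haveILetI false
universe u v w x

open TensorProduct
open Groth.Agent.Lib.Comod.Basic Groth.Agent.Lib.Comod.Reynolds Groth.Agent.Lib.Comod.Alg

namespace Groth.Agent.H60.AlgComod

noncomputable section

variable {k : Type u} [Field k] {H : Type v} [CommRing H] [HopfAlgebra k H]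
variable {A : Type w} [CommRing A] [Algebra k A] [HopfRep.Comod k H A] [GLin.IsCoactAlg k H A]
variable {W : Type x} [AddCommGroup W] [Module k W] [HopfRep.Comod k H W]

theorem natural_coassoc {V V' : Type*} [AddCommGroup V] [Module k V] [AddCommGroup V'] [Module k V']
    [HopfRep.Comod k H V] (ι : V →ₗ[k] V') (D : V' →ₗ[k] V' ⊗[k] H)
    (hD : D ∘ₗ ι = ι.rTensor H ∘ₗ HopfRep.Comod.coact (k := k) (A := H)) (v : V) :
    TensorProduct.assoc k V' H H (D.rTensor H (D (ι v))) =
      (CoalgebraStruct.comul (R := k) (A := H)).lTensor V' (D (ι v)) := by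
  have h := LinearMap.congr_fun (HopfRep.Comod.coassoc (k := k) (A := H) (V := V)) v
  simp only [LinearMap.comp_apply, LinearEquiv.coe_coe] at h
  rw [← LinearMap.comp_apply D, hD, LinearMap.comp_apply, ← LinearMap.rTensor_comp_apply, hD,
    LinearMap.rTensor_comp_apply, ← LinearMap.comp_apply ((CoalgebraStruct.comul (R := k) (A := H)).lTensor V'),
    LinearMap.lTensor_comp_rTensor, ← LinearMap.rTensor_comp_lTensor, LinearMap.comp_apply, ← h]
  generalize (HopfRep.Comod.coact (k := k) (A := H)).rTensor H (HopfRep.Comod.coact (k := k) (A := H) v) = y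
  induction y using TensorProduct.induction_on with
  | zero => simp
  | add y z hy hz => simp only [map_add, hy, hz]
  | tmul p c =>
    induction p using TensorProduct.induction_on with
    | zero => simp
    | tmul _ _ => simp
    | add y z hy hz => simp only [TensorProduct.add_tmul, map_add, hy, hz]

theorem natural_counit {V V' : Type*} [AddCommGroup V] [Module k V] [AddCommGroup V'] [Module k V']
    [HopfRep.Comod k H V] (ι : V →ₗ[k] V') (D : V' →ₗ[k] V' ⊗[k] H)
    (hD : D ∘ₗ ι = ι.rTensor H ∘ₗ HopfRep.Comod.coact (k := k) (A := H)) (v : V) :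
    (CoalgebraStruct.counit (R := k) (A := H)).lTensor V' (D (ι v)) = (ι v) ⊗ₜ[k] (1 : k) := by
  have h := LinearMap.congr_fun (HopfRep.Comod.counit_comp (k := k) (A := H) (V := V)) v
  simp only [LinearMap.comp_apply, LinearMap.flip_apply, TensorProduct.mk_apply] at h
  rw [← LinearMap.comp_apply D, hD, LinearMap.comp_apply,
    ← LinearMap.comp_apply ((CoalgebraStruct.counit (R := k) (A := H)).lTensor V'),
    LinearMap.lTensor_comp_rTensor, ← LinearMap.rTensor_comp_lTensor, LinearMap.comp_apply, h,
    LinearMap.rTensor_tmul]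

/-- The two sides of coassociativity, as algebra maps. -/
theorem coassoc_of_algHom {V : Type*} [CommRing V] [Algebra k V] (D : V →ₐ[k] V ⊗[k] H) (s : Set V)
    (hs : Algebra.adjoin k s = ⊤)
    (h : ∀ a ∈ s, TensorProduct.assoc k V H H (D.toLinearMap.rTensor H (D a)) =
      (CoalgebraStruct.comul (R := k) (A := H)).lTensor V (D a)) :
    (TensorProduct.assoc k V H H).toLinearMap ∘ₗ D.toLinearMap.rTensor H ∘ₗ D.toLinearMap =
      (CoalgebraStruct.comul (R := k) (A := H)).lTensor V ∘ₗ D.toLinearMap := by
  let l : V →ₐ[k] V ⊗[k] (H ⊗[k] H) :=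
    (Algebra.TensorProduct.assoc k k k V H H).toAlgHom.comp ((Algebra.TensorProduct.map D (AlgHom.id k H)).comp D)
  let r : V →ₐ[k] V ⊗[k] (H ⊗[k] H) :=
    (Algebra.TensorProduct.map (AlgHom.id k V) (Bialgebra.comulAlgHom k H)).comp D
  have hl : ∀ a, TensorProduct.assoc k V H H (D.toLinearMap.rTensor H (D a)) = l a := fun a => by
    simp only [l, AlgHom.comp_apply, AlgEquiv.toAlgHom_eq_coe, AlgHom.coe_coe]
    generalize D a = y
    induction y using TensorProduct.induction_on with
    | zero => simp
    | add y z hy hz => simp only [map_add, hy, hz]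
    | tmul p c =>
      simp only [LinearMap.rTensor_tmul, AlgHom.toLinearMap_apply, Algebra.TensorProduct.map_tmul, AlgHom.id_apply]
      induction D p using TensorProduct.induction_on with
      | zero => simp
      | tmul _ _ => simp
      | add y z hy hz => simp only [TensorProduct.add_tmul, map_add, hy, hz]
  have hr : ∀ a, (CoalgebraStruct.comul (R := k) (A := H)).lTensor V (D a) = r a := fun a => by
    simp only [r, AlgHom.comp_apply]
    induction D a using TensorProduct.induction_on with
    | zero => simp
    | tmul _ _ => simp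
    | add y z hy hz => simp only [map_add, hy, hz]
  have : l = r := AlgHom.ext_of_adjoin_eq_top hs fun a ha => (hl a).symm.trans ((h a ha).trans (hr a))
  refine LinearMap.ext fun a => ?_
  simp only [LinearMap.comp_apply, LinearEquiv.coe_coe, AlgHom.toLinearMap_apply]
  rw [hl, hr, this]

theorem counit_of_algHom {V : Type*} [CommRing V] [Algebra k V] (D : V →ₐ[k] V ⊗[k] H) (s : Set V)
    (hs : Algebra.adjoin k s = ⊤)
    (h : ∀ a ∈ s, (CoalgebraStruct.counit (R := k) (A := H)).lTensor V (D a) = a ⊗ₜ[k] (1 : k)) :
    (CoalgebraStruct.counit (R := k) (A := H)).lTensor V ∘ₗ D.toLinearMap =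
      (TensorProduct.mk k V k).flip 1 := by
  let r : V →ₐ[k] V ⊗[k] k :=
    (Algebra.TensorProduct.map (AlgHom.id k V) (Bialgebra.counitAlgHom k H)).comp D
  have hr : ∀ a, (CoalgebraStruct.counit (R := k) (A := H)).lTensor V (D a) = r a := fun a => by
    simp only [r, AlgHom.comp_apply]
    induction D a using TensorProduct.induction_on with
    | zero => simp
    | tmul _ _ => simp
    | add y z hy hz => simp only [map_add, hy, hz]
  have : r = (Algebra.TensorProduct.includeLeft : V →ₐ[k] V ⊗[k] k) :=
    AlgHom.ext_of_adjoin_eq_top hs fun a ha => (hr a).symm.trans (h a ha)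
  refine LinearMap.ext fun a => ?_
  simp only [LinearMap.comp_apply, AlgHom.toLinearMap_apply]
  rw [hr, this]
  rfl

section Diag

variable (k H A) in
/-- The diagonal coaction on `A ⊗ H`. -/
def diag : A ⊗[k] H →ₐ[k] (A ⊗[k] H) ⊗[k] H :=
  Algebra.TensorProduct.lift
    ((Algebra.TensorProduct.map Algebra.TensorProduct.includeLeft (AlgHom.id k H)).comp (GLin.coactAlgHom k H A))
    ((Algebra.TensorProduct.map Algebra.TensorProduct.includeRight (AlgHom.id k H)).comp (Bialgebra.comulAlgHom k H))
    fun _ _ => Commute.all _ _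

theorem diag_left :
    (diag k H A).toLinearMap ∘ₗ (Algebra.TensorProduct.includeLeft : A →ₐ[k] A ⊗[k] H).toLinearMap =
      ((Algebra.TensorProduct.includeLeft : A →ₐ[k] A ⊗[k] H).toLinearMap).rTensor H ∘ₗ
        HopfRep.Comod.coact (k := k) (A := H) := by
  refine LinearMap.ext fun a => ?_
  simp only [LinearMap.comp_apply, AlgHom.toLinearMap_apply, Algebra.TensorProduct.includeLeft_apply, diag,
    Algebra.TensorProduct.lift_tmul, map_one, mul_one, AlgHom.comp_apply, GLin.coactAlgHom_apply]
  induction HopfRep.Comod.coact (k := k) (A := H) a using TensorProduct.induction_on with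
  | zero => simp
  | tmul _ _ => simp
  | add y z hy hz => simp only [map_add, hy, hz]

theorem diag_right :
    (diag k H A).toLinearMap ∘ₗ (Algebra.TensorProduct.includeRight : H →ₐ[k] A ⊗[k] H).toLinearMap =
      ((Algebra.TensorProduct.includeRight : H →ₐ[k] A ⊗[k] H).toLinearMap).rTensor H ∘ₗ
        HopfRep.Comod.coact (k := k) (A := H) (V := H) := by
  refine LinearMap.ext fun a => ?_
  simp only [LinearMap.comp_apply, AlgHom.toLinearMap_apply, Algebra.TensorProduct.includeRight_apply, diag,
    Algebra.TensorProduct.lift_tmul, map_one, one_mul, AlgHom.comp_apply]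
  rw [Bialgebra.comulAlgHom_apply]
  change _ = ((Algebra.TensorProduct.includeRight : H →ₐ[k] A ⊗[k] H).toLinearMap).rTensor H
    (CoalgebraStruct.comul (R := k) a)
  induction CoalgebraStruct.comul (R := k) (A := H) a using TensorProduct.induction_on with
  | zero => simp
  | tmul _ _ => simp
  | add y z hy hz => simp only [map_add, hy, hz]

theorem adjoin_diag : Algebra.adjoin k (Set.range (fun a : A => a ⊗ₜ[k] (1 : H)) ∪
    Set.range (fun h : H => (1 : A) ⊗ₜ[k] h)) = ⊤ := by
  refine eq_top_iff.2 fun z _ => ?_
  induction z using TensorProduct.induction_on with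
  | zero => exact zero_mem _
  | add y z hy hz => exact add_mem (hy trivial) (hz trivial)
  | tmul a h =>
    rw [show a ⊗ₜ[k] h = (a ⊗ₜ[k] (1 : H)) * ((1 : A) ⊗ₜ[k] h) by simp]
    exact mul_mem (Algebra.subset_adjoin (.inl ⟨a, rfl⟩)) (Algebra.subset_adjoin (.inr ⟨h, rfl⟩))

variable (k H A) in
/-- The comodule `A ⊗ H`. -/
@[reducible] def diagComod : HopfRep.Comod k H (A ⊗[k] H) where
  coact := (diag k H A).toLinearMap
  coassoc := coassoc_of_algHom _ _ adjoin_diag fun z hz => by
    rcases hz with ⟨a, rfl⟩ | ⟨h, rfl⟩
    · exact natural_coassoc _ _ (diag_left (k := k) (H := H) (A := A)) a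
    · exact natural_coassoc _ _ (diag_right (k := k) (H := H) (A := A)) h
  counit_comp := counit_of_algHom _ _ adjoin_diag fun z hz => by
    rcases hz with ⟨a, rfl⟩ | ⟨h, rfl⟩
    · exact natural_counit _ _ (diag_left (k := k) (H := H) (A := A)) a
    · exact natural_counit _ _ (diag_right (k := k) (H := H) (A := A)) h

theorem antipode_mem_fixedPts (a : A) :
    letI := diagComod k H A
    (HopfAlgebraStruct.antipode (R := k) (A := H)).lTensor A (HopfRep.Comod.coact (k := k) (A := H) a) ∈
      HopfRep.fixedPts k H (A ⊗[k] H) := by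
  letI := diagComod k H A
  change diag k H A _ = _
  set S := HopfAlgebraStruct.antipode (R := k) (A := H)
  let X : A →ₗ[k] (H ⊗[k] H) →ₗ[k] (A ⊗[k] H) ⊗[k] H :=
    LinearMap.mk₂ k (fun p y => (TensorProduct.assoc k A H H).symm (p ⊗ₜ[k] y))
      (fun _ _ _ => by simp [TensorProduct.add_tmul]) (fun _ _ _ => by rw [← TensorProduct.smul_tmul']; exact map_smul _ _ _)
      (fun _ _ _ => by simp [TensorProduct.tmul_add]) (fun _ _ _ => by simp)
  let G : H ⊗[k] H →ₗ[k] H ⊗[k] H := LinearMap.mul' k (H ⊗[k] H) ∘ₗ
    TensorProduct.map (Algebra.TensorProduct.includeRight : H →ₐ[k] H ⊗[k] H).toLinearMap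
      (CoalgebraStruct.comul (R := k) (A := H) ∘ₗ S)
  have e1 : ∀ y : A ⊗[k] H, diag k H A (S.lTensor A y) =
      TensorProduct.lift X (G.lTensor A (TensorProduct.assoc k A H H
        ((HopfRep.Comod.coact (k := k) (A := H)).rTensor H y))) := by
    intro y
    induction y using TensorProduct.induction_on with
    | zero => simp
    | add y z hy hz => simp only [map_add, hy, hz]
    | tmul p c =>
      simp only [LinearMap.lTensor_tmul, LinearMap.rTensor_tmul, diag, Algebra.TensorProduct.lift_tmul,
        AlgHom.comp_apply, GLin.coactAlgHom_apply]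
      rw [Bialgebra.comulAlgHom_apply]
      induction HopfRep.Comod.coact (k := k) (A := H) p using TensorProduct.induction_on with
      | zero => simp
      | add y z hy hz => simp only [TensorProduct.add_tmul, map_add, add_mul, hy, hz]
      | tmul q d =>
        simp only [TensorProduct.assoc_tmul, LinearMap.lTensor_tmul, G, LinearMap.comp_apply,
          TensorProduct.map_tmul, LinearMap.mul'_apply, AlgHom.toLinearMap_apply,
          Algebra.TensorProduct.includeRight_apply, TensorProduct.lift.tmul, X, LinearMap.mk₂_apply]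
        induction CoalgebraStruct.comul (R := k) (A := H) (S c) using TensorProduct.induction_on with
        | zero => simp
        | add y z hy hz => simp only [map_add, mul_add, TensorProduct.tmul_add, hy, hz]
        | tmul s t => simp
  rw [e1]
  have h := LinearMap.congr_fun (HopfRep.Comod.coassoc (k := k) (A := H) (V := A)) a
  simp only [LinearMap.comp_apply, LinearEquiv.coe_coe] at h
  rw [h]
  induction HopfRep.Comod.coact (k := k) (A := H) a using TensorProduct.induction_on with
  | zero => simp
  | add y z hy hz => simp only [map_add, TensorProduct.add_tmul, hy, hz]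
  | tmul p c =>
    simp only [LinearMap.lTensor_tmul, TensorProduct.lift.tmul, X, LinearMap.mk₂_apply, G, LinearMap.comp_apply]
    rw [HopfMod.includeRight_mul_antipode]
    simp [S]

end Diag

section Poly

variable {ι : Type x} (b : Module.Basis ι k W)

/-- The linear forms. -/
def lin : W →ₗ[k] MvPolynomial ι A := b.constr k MvPolynomial.X

variable (A) in
/-- The coaction on the polynomial ring. -/
def polyHom : MvPolynomial ι A →ₐ[k] MvPolynomial ι A ⊗[k] H :=
  { toRingHom := MvPolynomial.eval₂Hom
      ((Algebra.TensorProduct.map (IsScalarTower.toAlgHom k A (MvPolynomial ι A)) (AlgHom.id k H)).comp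
        (GLin.coactAlgHom k H A)).toRingHom
      fun j => (lin b).rTensor H (HopfRep.Comod.coact (k := k) (A := H) (b j))
    commutes' := fun c => by
      rw [IsScalarTower.algebraMap_apply k A (MvPolynomial ι A), MvPolynomial.algebraMap_eq]
      simp }

theorem polyHom_C :
    (polyHom (H := H) A b).toLinearMap ∘ₗ (IsScalarTower.toAlgHom k A (MvPolynomial ι A)).toLinearMap =
      (IsScalarTower.toAlgHom k A (MvPolynomial ι A)).toLinearMap.rTensor H ∘ₗ
        HopfRep.Comod.coact (k := k) (A := H) := by
  refine LinearMap.ext fun a => ?_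
  simp only [LinearMap.comp_apply, AlgHom.toLinearMap_apply, IsScalarTower.toAlgHom_apply,
    MvPolynomial.algebraMap_eq]
  change MvPolynomial.eval₂Hom _ _ (MvPolynomial.C a) = _
  rw [MvPolynomial.eval₂Hom_C]
  change Algebra.TensorProduct.map _ _ (GLin.coactAlgHom k H A a) = _
  rw [GLin.coactAlgHom_apply]
  induction HopfRep.Comod.coact (k := k) (A := H) a using TensorProduct.induction_on with
  | zero => simp
  | tmul _ _ => simp
  | add y z hy hz => simp only [map_add, hy, hz]

theorem polyHom_lin :
    (polyHom (H := H) A b).toLinearMap ∘ₗ lin b = (lin b).rTensor H ∘ₗ HopfRep.Comod.coact (k := k) (A := H) := by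
  refine b.ext fun j => ?_
  simp [lin, polyHom]

theorem adjoin_poly : Algebra.adjoin k (Set.range (IsScalarTower.toAlgHom k A (MvPolynomial ι A)) ∪
    Set.range (lin (A := A) b)) = ⊤ := by
  refine eq_top_iff.2 fun p _ => ?_
  induction p using MvPolynomial.induction_on with
  | C a => exact Algebra.subset_adjoin (.inl ⟨a, rfl⟩)
  | add p q hp hq => exact add_mem (hp trivial) (hq trivial)
  | mul_X p j hp => exact mul_mem (hp trivial) (Algebra.subset_adjoin (.inr ⟨b j, by simp [lin]⟩))

variable (A) in
/-- The comodule structure on the polynomial ring. -/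
@[reducible] def polyComod : HopfRep.Comod k H (MvPolynomial ι A) where
  coact := (polyHom (H := H) A b).toLinearMap
  coassoc := coassoc_of_algHom (polyHom (H := H) A b) _ (adjoin_poly (A := A) b) fun z hz => by
    rcases hz with ⟨a, rfl⟩ | ⟨h, rfl⟩
    · exact natural_coassoc (IsScalarTower.toAlgHom k A (MvPolynomial ι A)).toLinearMap _ (polyHom_C (H := H) (A := A) b) a
    · exact natural_coassoc (lin (A := A) b) _ (polyHom_lin (H := H) (A := A) b) h
  counit_comp := counit_of_algHom (polyHom (H := H) A b) _ (adjoin_poly (A := A) b) fun z hz => by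
    rcases hz with ⟨a, rfl⟩ | ⟨h, rfl⟩
    · exact natural_counit (IsScalarTower.toAlgHom k A (MvPolynomial ι A)).toLinearMap _ (polyHom_C (H := H) (A := A) b) a
    · exact natural_counit (lin (A := A) b) _ (polyHom_lin (H := H) (A := A) b) h

theorem isCoactAlg_poly :
    letI := polyComod (H := H) A b
    GLin.IsCoactAlg k H (MvPolynomial ι A) :=
  letI := polyComod (H := H) A b
  ⟨map_one (polyHom (H := H) A b), map_mul (polyHom (H := H) A b)⟩

end Poly

end

end Groth.Agent.H60.AlgComod
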