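import Groth.Agent.H60.TorsorGeom
import Groth.Prelude.Def_AlgGrp
import Groth.Prelude.Def_ChGrp

/-!
Composition of torsors under a split extension.
-/

set_option autoImplicit false
set_option backward.isDefEq.respectTransparency false
set_option backward.isDefEq.respectTransparency.types false

universe u

open CategoryTheory CategoryTheory.Limits AlgebraicGeometry MonoidalCategory CartesianMonoidalCategory
open MonObj GrpObj Groth.Agent.Lib

namespace Groth.Agent.H60.TorsorComp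

variable {S : Scheme.{u}}

/-- Uniqueness of the group element in a cartesian action square. -/
theorem act_inj {G X Y : Over S} [GrpObj G] (a : AlgGrp.Action G X) (φ : X ⟶ Y)
    (h : IsPullback a.act (snd G X) φ φ) {T : Over S} {g g' : T ⟶ G} {x : T ⟶ X}
    (e : lift g x ≫ a.act = lift g' x ≫ a.act) : g = g' := by
  simpa using congrArg (· ≫ fst G X) (h.hom_ext e (by simp))

/-- A cartesian action square from pointwise simple transitivity on fibres. -/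
theorem isPullback_of_points {G X Y : Over S} [GrpObj G] (a : AlgGrp.Action G X) (φ : X ⟶ Y)
    (w : a.act ≫ φ = snd G X ≫ φ)
    (hex : ∀ (T : Over S) (x₁ x₂ : T ⟶ X), x₁ ≫ φ = x₂ ≫ φ → ∃ g : T ⟶ G, lift g x₂ ≫ a.act = x₁)
    (huniq : ∀ (T : Over S) (g g' : T ⟶ G) (x : T ⟶ X),
      lift g x ≫ a.act = lift g' x ≫ a.act → g = g') :
    IsPullback a.act (snd G X) φ φ := by
  choose g hg using fun (s : PullbackCone φ φ) ↦ hex s.pt s.fst s.snd s.condition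
  refine ⟨⟨w⟩, ⟨PullbackCone.IsLimit.mk w (fun s ↦ lift (g s) s.snd) hg
    (fun s ↦ lift_snd _ _) fun s m h1 h2 ↦ ?_⟩⟩
  have e : m = lift (m ≫ fst G X) s.snd := by ext <;> simp [h2]
  rw [e] at h1 ⊢
  rw [huniq _ _ _ _ (h1.trans (hg s).symm)]

theorem composite {G N Q H X Y Z : Over S} [GrpObj G] [GrpObj N] [GrpObj Q] [GrpObj H]
    (iN : N ⟶ G) [IsMonHom iN] (q : G ⟶ Q) [IsMonHom q] (hker : AlgGrp.IsKernel iN q)
    (iH : H ⟶ G) [IsIso (iH ≫ q)] (a : AlgGrp.Action G X) (φ₁ : X ⟶ Y)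
    (h₁ : IsPullback (a.restrict iN).act (snd N X) φ₁ φ₁)
    (aY : AlgGrp.Action Q Y) (hequiv : (q ⊗ₘ φ₁) ≫ aY.act = a.act ≫ φ₁)
    (φ₂ : Y ⟶ Z) (h₂ : IsPullback aY.act (snd Q Y) φ₂ φ₂) :
    IsPullback a.act (snd G X) (φ₁ ≫ φ₂) (φ₁ ≫ φ₂) := by
  have heq : ∀ {T : Over S} (g : T ⟶ G) (x : T ⟶ X),
      (lift g x ≫ a.act) ≫ φ₁ = lift (g ≫ q) (x ≫ φ₁) ≫ aY.act := fun g x ↦ by
    rw [Category.assoc, ← hequiv, lift_map_assoc]
  have hres : ∀ {T : Over S} (n : T ⟶ N) (x : T ⟶ X),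
      lift n x ≫ (a.restrict iN).act = lift (n ≫ iN) x ≫ a.act := fun n x ↦ by
    simp [AlgGrp.Action.restrict]
  have w : a.act ≫ φ₁ ≫ φ₂ = snd G X ≫ φ₁ ≫ φ₂ := by
    rw [← Category.assoc, ← hequiv, Category.assoc, h₂.w, tensorHom_snd_assoc]
  refine isPullback_of_points a (φ₁ ≫ φ₂) w (fun T x₁ x₂ h ↦ ?_) fun T g g' x h ↦ ?_
  · obtain ⟨h', hh⟩ := TorsorGeom.exists_act aY φ₂ h₂ T (x₁ ≫ φ₁) (x₂ ≫ φ₁) (by simpa using h)
    let g₀ := h' ≫ inv (iH ≫ q) ≫ iH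
    have hq : g₀ ≫ q = h' := by simp [g₀]
    obtain ⟨n, hn⟩ := TorsorGeom.exists_act (a.restrict iN) φ₁ h₁ T x₁ (lift g₀ x₂ ≫ a.act)
      (by rw [heq, hq, hh])
    exact ⟨(n ≫ iN) * g₀, by rw [GrpSch.act_mul, ← hres, hn]⟩
  · have hq : g ≫ q = g' ≫ q := act_inj aY φ₂ h₂ (by rw [← heq, ← heq, h])
    have hk : (g'⁻¹ * g) ≫ q = toUnit T ≫ η[Q] := by
      have hinv : g'⁻¹ ≫ q = (g' ≫ q)⁻¹ :=
        eq_inv_of_mul_eq_one_left (by rw [← MonObj.mul_comp, inv_mul_cancel, MonObj.one_comp])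
      rw [MonObj.mul_comp, hinv, hq, inv_mul_cancel, Hom.one_def]
    obtain ⟨n, hn, -⟩ := hker.exists_lift (g'⁻¹ * g) (toUnit T) hk
    have h1 : lift n x ≫ (a.restrict iN).act = lift (1 : T ⟶ N) x ≫ (a.restrict iN).act := by
      rw [hres, hres, hn, MonObj.one_comp, GrpSch.act_mul, h, GrpSch.act_inv_act, GrpSch.act_one]
    rw [act_inj (a.restrict iN) φ₁ h₁ h1, MonObj.one_comp] at hn
    exact (inv_mul_eq_one.mp hn.symm).symm

/-- Local sections compose. -/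
theorem isLocallyTrivialFor_comp {K : Precoverage Scheme.{u}} [K.IsStableUnderBaseChange]
    [K.IsStableUnderComposition] {X Y Z : Scheme.{u}} (f : X ⟶ Y) (g : Y ⟶ Z)
    (hf : NonAbH1.IsLocallyTrivialFor K (Over.mk f)) (hg : NonAbH1.IsLocallyTrivialFor K (Over.mk g)) :
    NonAbH1.IsLocallyTrivialFor K (Over.mk (f ≫ g)) := by
  obtain ⟨R₁, hR₁, hs₁⟩ := hf
  obtain ⟨R₂, hR₂, hs₂⟩ := hg
  obtain ⟨I, U, u, rfl⟩ := R₂.exists_eq_ofArrows
  obtain ⟨κ, V, v, rfl⟩ := R₁.exists_eq_ofArrows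
  choose s hs using fun i ↦ hs₂ (u i) ⟨i⟩
  choose t ht using fun j ↦ hs₁ (v j) ⟨j⟩
  refine ⟨_, Precoverage.comp_mem_coverings u hR₂ (fun i (j : κ) ↦ pullback.fst (s i) (v j)) fun i ↦
    Precoverage.mem_coverings_of_isPullback _ hR₁ (s i) _ (fun j ↦ pullback.snd _ _)
      fun j ↦ IsPullback.of_hasPullback _ _, ?_⟩
  rintro _ _ ⟨⟨i, j⟩⟩
  refine ⟨pullback.snd (s i) (v j) ≫ t j, ?_⟩
  have e1 : t j ≫ f = v j := ht j
  have e2 : s i ≫ g = u i := hs i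
  change (pullback.snd (s i) (v j) ≫ t j) ≫ f ≫ g = pullback.fst (s i) (v j) ≫ u i
  rw [Category.assoc, reassoc_of% e1, ← pullback.condition_assoc, e2]

end Groth.Agent.H60.TorsorComp
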