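import Groth.Agent.H60.TorsorGeom
import Groth.Agent.H60.TorsorComp
import Groth.Agent.Lib.FFDesc.Effective
import Groth.Prelude.Def_ChGrp

/-!
The fibre bundle associated to an affine torsor and an affine scheme with action, by descent
along the torsor itself.
-/

set_option autoImplicit false
set_option backward.isDefEq.respectTransparency false
set_option backward.isDefEq.respectTransparency.types false

universe u

open CategoryTheory CategoryTheory.Limits AlgebraicGeometry MonoidalCategory CartesianMonoidalCategory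
open MonObj Groth.Agent.Lib

namespace Groth.Agent.H60.AssocBundle

variable {S : Scheme.{u}} {G X Y : Over S} [GrpObj G]

/-- Two points lying in one orbit. -/
def Rel {P : Over S} (c : AlgGrp.Action G P) {T : Scheme.{u}} (v v' : T ⟶ P.left) : Prop :=
  ∃ (h : T ⟶ S) (g : Over.mk h ⟶ G) (w : Over.mk h ⟶ P), w.left = v ∧ (lift g w ≫ c.act).left = v'

namespace Rel

variable {P : Over S} {c : AlgGrp.Action G P} {T : Scheme.{u}} {v v' v'' : T ⟶ P.left}

theorem refl (v : T ⟶ P.left) : Rel c v v :=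
  ⟨v ≫ P.hom, 1, Over.homMk v, rfl, by rw [GrpSch.act_one]; rfl⟩

theorem symm (h : Rel c v v') : Rel c v' v := by
  obtain ⟨h, g, w, rfl, rfl⟩ := h
  exact ⟨h, g⁻¹, lift g w ≫ c.act, rfl, by rw [GrpSch.act_inv_act]⟩

theorem trans (h : Rel c v v') (h' : Rel c v' v'') : Rel c v v'' := by
  obtain ⟨h, g, w, rfl, rfl⟩ := h
  obtain ⟨h₂, g', w', hw', rfl⟩ := h'
  obtain rfl : h₂ = h := by
    have e := congrArg (· ≫ P.hom) hw'
    simp only [Over.w] at e
    exact e
  obtain rfl : w' = lift g w ≫ c.act := Over.OverMorphism.ext hw'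
  exact ⟨_, g' * g, w, rfl, by rw [GrpSch.act_mul]⟩

theorem comp {T' : Scheme.{u}} (f : T' ⟶ T) (h : Rel c v v') : Rel c (f ≫ v) (f ≫ v') := by
  obtain ⟨h, g, w, rfl, rfl⟩ := h
  let e : Over.mk (f ≫ h) ⟶ Over.mk h := Over.homMk f
  refine ⟨f ≫ h, e ≫ g, e ≫ w, rfl, ?_⟩
  rw [← comp_lift, Category.assoc]
  rfl

end Rel

variable (a : AlgGrp.Action G X) (φ : X ⟶ Y) (hcart : IsPullback a.act (snd G X) φ φ)
  {F : Over S} (b : AlgGrp.Action G F)

include hcart in
theorem rel_unique {T : Scheme.{u}} {v v₁ v₂ : T ⟶ (X ⊗ F).left} (h₁ : Rel (a.prod b) v v₁)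
    (h₂ : Rel (a.prod b) v v₂) (e : v₁ ≫ (fst X F).left = v₂ ≫ (fst X F).left) : v₁ = v₂ := by
  obtain ⟨h, g, w, rfl, rfl⟩ := h₁
  obtain ⟨h', g', w', hw', rfl⟩ := h₂
  obtain rfl : h' = h := by
    have e := congrArg (· ≫ (X ⊗ F).hom) hw'
    simp only [Over.w] at e
    exact e
  obtain rfl : w' = w := Over.OverMorphism.ext hw'
  have e' : lift g (w' ≫ fst X F) ≫ a.act = lift g' (w' ≫ fst X F) ≫ a.act := by
    have hfst : ∀ g : Over.mk h' ⟶ G, (lift g w' ≫ (a.prod b).act) ≫ fst X F =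
        lift g (w' ≫ fst X F) ≫ a.act := fun g ↦ by
      have hp := AlgGrp.Action.lift_prod_act a b g (w' ≫ fst X F) (w' ≫ snd X F)
      rw [← comp_lift, lift_fst_snd, Category.comp_id] at hp
      rw [hp, lift_fst]
    rw [← hfst, ← hfst]
    exact Over.OverMorphism.ext e
  rw [TorsorComp.act_inj a φ hcart e']

include hcart in
theorem exists_rel {T : Scheme.{u}} (x₀ x₁ : T ⟶ X.left) (h : x₀ ≫ φ.left = x₁ ≫ φ.left)
    (v : T ⟶ (X ⊗ F).left) (hv : v ≫ (fst X F).left = x₀) :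
    ∃ v', Rel (a.prod b) v v' ∧ v' ≫ (fst X F).left = x₁ := by
  let w : Over.mk (v ≫ (X ⊗ F).hom) ⟶ X ⊗ F := Over.homMk v
  let y : Over.mk (v ≫ (X ⊗ F).hom) ⟶ X := Over.homMk x₁ (by
    change x₁ ≫ X.hom = v ≫ (X ⊗ F).hom
    rw [← Over.w φ, ← reassoc_of% h, Over.w φ, ← hv, Category.assoc, Over.w (fst X F)])
  obtain ⟨g, hg⟩ := TorsorGeom.exists_act a φ hcart _ y (w ≫ fst X F) (by
    ext
    change x₁ ≫ φ.left = (v ≫ (fst X F).left) ≫ φ.left
    rw [hv, h])
  refine ⟨(lift g w ≫ (a.prod b).act).left, ⟨_, g, w, rfl, rfl⟩, ?_⟩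
  have hp := AlgGrp.Action.lift_prod_act a b g (w ≫ fst X F) (w ≫ snd X F)
  rw [← comp_lift, lift_fst_snd, Category.comp_id] at hp
  rw [← Over.comp_left, hp, lift_fst, hg]
  rfl

include hcart in
theorem rel_transport {T : Scheme.{u}} {x₀ x₁ : T ⟶ X.left} (h : x₀ ≫ φ.left = x₁ ≫ φ.left)
    (v : Desc.Lifts (Over.mk (fst X F).left) x₀) :
    ∃ v' : Desc.Lifts (Over.mk (fst X F).left) x₁, Rel (a.prod b) v.1 v'.1 :=
  let ⟨v', h1, h2⟩ := exists_rel a φ hcart b x₀ x₁ h v.1 v.2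
  ⟨⟨v', h2⟩, h1⟩

/-- The transport of a point along the unique group element. -/
noncomputable def move {T : Scheme.{u}} {x₀ x₁ : T ⟶ X.left} (h : x₀ ≫ φ.left = x₁ ≫ φ.left)
    (v : Desc.Lifts (Over.mk (fst X F).left) x₀) : Desc.Lifts (Over.mk (fst X F).left) x₁ :=
  (rel_transport a φ hcart b h v).choose

theorem move_rel {T : Scheme.{u}} {x₀ x₁ : T ⟶ X.left} (h : x₀ ≫ φ.left = x₁ ≫ φ.left)
    (v : Desc.Lifts (Over.mk (fst X F).left) x₀) : Rel (a.prod b) v.1 (move a φ hcart b h v).1 :=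
  (rel_transport a φ hcart b h v).choose_spec

include hcart in
theorem lifts_unique {T : Scheme.{u}} {x x₁ : T ⟶ X.left} {v : Desc.Lifts (Over.mk (fst X F).left) x}
    {v₁ v₂ : Desc.Lifts (Over.mk (fst X F).left) x₁} (h₁ : Rel (a.prod b) v.1 v₁.1)
    (h₂ : Rel (a.prod b) v.1 v₂.1) : v₁ = v₂ :=
  Subtype.ext (rel_unique a φ hcart b h₁ h₂ (v₁.2.trans v₂.2.symm))

/-- The descent datum of `X × F` along the torsor. -/
noncomputable def datum : Desc.SchDD φ.left where
  obj := Over.mk (fst X F).left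
  φ T x₀ x₁ h :=
    { toFun := move a φ hcart b h
      invFun := move a φ hcart b h.symm
      left_inv := fun v ↦ lifts_unique a φ hcart b
        ((move_rel a φ hcart b h v).trans (move_rel a φ hcart b h.symm _)) (Rel.refl (c := a.prod b) v.1)
      right_inv := fun v ↦ lifts_unique a φ hcart b
        ((move_rel a φ hcart b h.symm v).trans (move_rel a φ hcart b h _)) (Rel.refl (c := a.prod b) v.1) }
  φ_natural T T' f x₀ x₁ h h' v v' e := by
    refine rel_unique a φ hcart b (move_rel a φ hcart b h' v')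
      (e ▸ (move_rel a φ hcart b h v).comp f) ?_
    exact (move a φ hcart b h' v').2.trans ((Category.assoc _ _ _).trans
      (congrArg (f ≫ ·) (move a φ hcart b h v).2)).symm
  φ_self T x v := lifts_unique a φ hcart b (move_rel a φ hcart b rfl v) (Rel.refl (c := a.prod b) v.1)
  φ_comp T x₀ x₁ x₂ h₀₁ h₁₂ v := lifts_unique a φ hcart b
    ((move_rel a φ hcart b h₀₁ v).trans (move_rel a φ hcart b h₁₂ _))
    (move_rel a φ hcart b (h₀₁.trans h₁₂) v)

theorem isQuasiAffine_of_isAffineHom {V W : Scheme.{u}} (f : V ⟶ W) [IsAffineHom f] :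
    Mor2.IsQuasiAffine f :=
  ⟨inferInstance, fun U hU ↦
    have : IsAffine (f ⁻¹ᵁ U : Scheme.{u}) := hU.preimage f
    inferInstance⟩

include hcart in
theorem bundle_of_descended (hp : FFDesc.fpqcCover φ.left) {U : Over Y.left}
    {q₀ : (X ⊗ F).left ⟶ U.left} (H : FFDesc.IsDescended (datum a φ hcart b) U q₀) :
    ∃ (Q : Over S) (q : X ⊗ F ⟶ Q) (r : Q ⟶ Y),
      IsPullback q (fst X F) r φ ∧
      q ≫ r = fst X F ≫ φ ∧
      IsPullback (a.prod b).act (snd G (X ⊗ F)) q q ∧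
      NonAbH1.IsLocallyTrivialFor Scheme.fpqcPrecoverage (Over.mk q.left : Over Q.left) := by
  let D := datum a φ hcart b
  let Q : Over S := Over.mk (U.hom ≫ Y.hom)
  have hw : (fst X F).left ≫ φ.left = q₀ ≫ U.hom := H.isPullback.w
  let q : X ⊗ F ⟶ Q := Over.homMk q₀ (by
    change q₀ ≫ U.hom ≫ Y.hom = (X ⊗ F).hom
    rw [← reassoc_of% hw, Over.w φ, Over.w (fst X F)])
  let r : Q ⟶ Y := Over.homMk U.hom
  -- points in one orbit have one image
  have hrel : ∀ {T : Scheme.{u}} {v v' : T ⟶ (X ⊗ F).left}, Rel (a.prod b) v v' →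
      v ≫ q₀ = v' ≫ q₀ := fun {T v v'} hr ↦ by
    have hφ : (v ≫ (fst X F).left) ≫ φ.left = (v' ≫ (fst X F).left) ≫ φ.left := by
      obtain ⟨h, g, w, rfl, rfl⟩ := hr
      have hp' := AlgGrp.Action.lift_prod_act a b g (w ≫ fst X F) (w ≫ snd X F)
      rw [← comp_lift, lift_fst_snd, Category.comp_id] at hp'
      have : (lift g w ≫ (a.prod b).act) ≫ fst X F ≫ φ = w ≫ fst X F ≫ φ := by
        rw [hp', lift_fst_assoc, Category.assoc, hcart.w, lift_snd_assoc, Category.assoc]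
      have h2 := congrArg CommaMorphism.left this
      simp only [Over.comp_left] at h2 ⊢
      rw [Category.assoc, Category.assoc]
      exact h2.symm
    have h1 := H.φ_comp_q (v ≫ (fst X F).left) (v' ≫ (fst X F).left) hφ ⟨v, rfl⟩
    have h2 : (D.φ (v ≫ (fst X F).left) (v' ≫ (fst X F).left) hφ ⟨v, rfl⟩).1 = v' :=
      rel_unique a φ hcart b (move_rel a φ hcart b hφ ⟨v, rfl⟩) hr
        (move a φ hcart b hφ ⟨v, rfl⟩).2
    rw [h2] at h1
    exact h1.symm
  refine ⟨Q, q, r, IsPullback.of_map (Over.forget S) (Over.OverMorphism.ext hw.symm) H.isPullback.flip,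
    Over.OverMorphism.ext hw.symm, TorsorComp.isPullback_of_points _ _ ?_ ?_ ?_, ?_⟩
  · refine Over.OverMorphism.ext (hrel (v := (snd G (X ⊗ F)).left) (v' := (a.prod b).act.left) ?_).symm
    exact ⟨(G ⊗ (X ⊗ F)).hom, fst G (X ⊗ F), snd G (X ⊗ F), rfl, by rw [lift_fst_snd]; simp⟩
  · intro T y₁ y₂ h
    have h0 : y₁.left ≫ q₀ = y₂.left ≫ q₀ := congrArg CommaMorphism.left h
    have hφ : y₁ ≫ fst X F ≫ φ = y₂ ≫ fst X F ≫ φ := by
      ext
      simp only [Over.comp_left, hw, reassoc_of% h0]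
    obtain ⟨g, hg⟩ := TorsorGeom.exists_act a φ hcart T (y₁ ≫ fst X F) (y₂ ≫ fst X F)
      (by simpa only [Category.assoc] using hφ)
    refine ⟨g, Over.OverMorphism.ext (H.isPullback.hom_ext ?_ ?_)⟩
    · have hp' := AlgGrp.Action.lift_prod_act a b g (y₂ ≫ fst X F) (y₂ ≫ snd X F)
      rw [← comp_lift, lift_fst_snd, Category.comp_id] at hp'
      change (lift g y₂ ≫ (a.prod b).act).left ≫ (fst X F).left = y₁.left ≫ (fst X F).left
      rw [← Over.comp_left, hp', lift_fst, hg, Over.comp_left]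
    · exact (hrel (Rel.symm ⟨T.hom, g, y₂, rfl, rfl⟩)).trans h0.symm
  · intro T g g' y e
    refine TorsorComp.act_inj a φ hcart (x := y ≫ fst X F) ?_
    have hp' : ∀ g : T ⟶ G, (lift g y ≫ (a.prod b).act) ≫ fst X F = lift g (y ≫ fst X F) ≫ a.act :=
      fun g ↦ by
        have hp' := AlgGrp.Action.lift_prod_act a b g (y ≫ fst X F) (y ≫ snd X F)
        rw [← comp_lift, lift_fst_snd, Category.comp_id] at hp'
        rw [hp', lift_fst]
    rw [← hp', e, hp']
  · exact ⟨_, H.cover hp, fun S' f hf ↦ by obtain ⟨⟩ := hf; exact ⟨𝟙 _, Category.id_comp _⟩⟩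

include hcart in
theorem exists_bundle' [Flat φ.left] [Surjective φ.left] [QuasiCompact φ.left] [IsAffineHom F.hom] :
    ∃ (Q : Over S) (q : X ⊗ F ⟶ Q) (r : Q ⟶ Y),
      IsPullback q (fst X F) r φ ∧
      q ≫ r = fst X F ≫ φ ∧
      IsPullback (a.prod b).act (snd G (X ⊗ F)) q q ∧
      NonAbH1.IsLocallyTrivialFor Scheme.fpqcPrecoverage (Over.mk q.left : Over Q.left) := by
  let D := datum a φ hcart b
  have hp := FFDesc.fpqcCover_of_quasiCompact φ.left
  have haff : IsAffineHom D.obj.hom := GrpSch.fst_left_of X (P := @IsAffineHom) inferInstance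
  obtain ⟨U, q₀, H, -, -⟩ := FFDesc.exists_isDescended D hp (isQuasiAffine_of_isAffineHom _)
  exact bundle_of_descended a φ hcart b hp H

include hcart in
theorem exists_bundle [Flat φ.left] [Surjective φ.left] [QuasiCompact φ.left] [IsAffineHom F.hom] :
    ∃ (Q : Over S) (q : X ⊗ F ⟶ Q) (r : Q ⟶ Y),
      q ≫ r = fst X F ≫ φ ∧
      IsPullback (a.prod b).act (snd G (X ⊗ F)) q q ∧
      NonAbH1.IsLocallyTrivialFor Scheme.fpqcPrecoverage (Over.mk q.left : Over Q.left) :=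
  let ⟨Q, q, r, _, h⟩ := exists_bundle' a φ hcart b
  ⟨Q, q, r, h⟩

omit b in
include hcart in
theorem of_group (P : MorphismProperty Scheme.{u}) [IsZariskiLocalAtTarget P]
    [P.IsStableUnderBaseChange] [P.DescendsAlong (@Surjective ⊓ @Flat ⊓ @QuasiCompact)]
    (hloc : NonAbH1.IsLocallyTrivialFor Scheme.fpqcPrecoverage (Over.mk φ.left : Over Y.left))
    (hG : P G.hom) : P φ.left := by
  obtain ⟨R, hR, hsec⟩ := hloc
  obtain ⟨𝒰, _, rfl⟩ := Scheme.mem_propQCPrecoverage_iff_exists_quasiCompactCover.mp hR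
  refine DescAlg.FpqcCover.of_fpqcCover P inferInstance φ.left 𝒰.toPreZeroHypercover
    (fun i ↦ 𝒰.map_prop i) fun i ↦ ?_
  obtain ⟨s, hs⟩ := hsec (𝒰.f i) ⟨i⟩
  have h1 : P (snd G X).left := GrpSch.snd_left_of X (P := P) hG
  have sq := (IsPullback.of_hasPullback (snd G X).left s).paste_horiz (TorsorGeom.isPullback_left a φ hcart)
  rw [show s ≫ φ.left = 𝒰.f i from hs] at sq
  rw [← sq.isoPullback_inv_snd]
  exact (P.cancel_left_of_respectsIso _ _).2 (P.pullback_snd _ _ h1)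

end Groth.Agent.H60.AssocBundle
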