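import Groth.Agent.H60.Haar
import Groth.Agent.Lib.Comod.Invariants
import Mathlib.RingTheory.TensorProduct.Basic

/-! Base change of an action along an algebra over a ring of invariants. -/

set_option autoImplicit false
set_option linter.unusedSectionVars false
set_option linter.style.haveILetI false
universe u

open TensorProduct
open Groth.Agent.Lib.Comod.Basic Groth.Agent.Lib.Comod.Reynolds Groth.Agent.Lib.Comod.Alg

namespace Groth.Agent.H60.BaseChange

noncomputable section

variable {k : Type u} [Field k] {A : Type u} [CommRing A] [HopfAlgebra k A]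
variable {S₀ S R₀ : Type u} [CommRing S₀] [Algebra k S₀] [CommRing S] [Algebra k S] [Algebra S₀ S]
  [IsScalarTower k S₀ S] [CommRing R₀] [Algebra S₀ R₀]
  [HopfRep.Comod k A S] [GLin.IsCoactAlg k A S]
variable (hfix : ∀ s₀ : S₀, algebraMap S₀ S s₀ ∈ HopfRep.fixedPts k A S)

local notation "T" => S ⊗[S₀] R₀

/-- `s ↦ s ⊗ b`. -/
def incl (b : R₀) : S →ₗ[k] T := ((TensorProduct.mk S₀ S R₀).flip b).restrictScalars k

include hfix in
/-- The base-changed coaction. -/
def coactHom : T →ₐ[k] T ⊗[k] A :=
  (Algebra.TensorProduct.lift (R := S₀) (S := S₀)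
    { toRingHom := ((Algebra.TensorProduct.map
          ((Algebra.TensorProduct.includeLeft : S →ₐ[S₀] T).restrictScalars k) (AlgHom.id k A)).comp
          (GLin.coactAlgHom k A S)).toRingHom
      commutes' := fun s₀ => by
        change Algebra.TensorProduct.map _ _ (GLin.coactAlgHom k A S (algebraMap S₀ S s₀)) = _
        rw [GLin.coactAlgHom_apply, show HopfRep.Comod.coact (k := k) (A := A) (algebraMap S₀ S s₀) = _ from hfix s₀]
        rfl }
    ((Algebra.TensorProduct.includeLeft : T →ₐ[S₀] T ⊗[k] A).comp Algebra.TensorProduct.includeRight)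
    fun _ _ => Commute.all _ _).restrictScalars k

theorem coactHom_incl (b : R₀) (s : S) :
    coactHom (A := A) hfix (incl (k := k) b s) =
      (incl (k := k) (S₀ := S₀) b).rTensor A (HopfRep.Comod.coact (k := k) (A := A) s) := by
  change coactHom (A := A) hfix (s ⊗ₜ[S₀] b) = _
  rw [coactHom, AlgHom.restrictScalars_apply, Algebra.TensorProduct.lift_tmul]
  change Algebra.TensorProduct.map _ _ (GLin.coactAlgHom k A S s) * _ = _
  rw [GLin.coactAlgHom_apply]
  induction HopfRep.Comod.coact (k := k) (A := A) s using TensorProduct.induction_on with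
  | zero => simp
  | add y z hy hz => simp only [map_add, add_mul, hy, hz]
  | tmul u a => simp [incl, Algebra.TensorProduct.tmul_mul_tmul]

theorem hom_ext {M : Type u} [AddCommGroup M] [Module k M] {f g : T →ₗ[k] M}
    (h : ∀ b : R₀, f ∘ₗ incl b = g ∘ₗ incl b) : f = g := by
  refine LinearMap.ext fun z => ?_
  induction z using TensorProduct.induction_on with
  | zero => simp
  | add y z hy hz => simp only [map_add, hy, hz]
  | tmul s b => exact LinearMap.congr_fun (h b) s

/-- The base-changed comodule. -/
@[reducible] def comod : HopfRep.Comod k A T where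
  coact := (coactHom (A := A) hfix).toLinearMap
  coassoc := hom_ext fun b => LinearMap.ext fun s => by
    simp only [LinearMap.comp_apply, LinearEquiv.coe_coe, AlgHom.toLinearMap_apply, coactHom_incl hfix]
    have h := LinearMap.congr_fun (HopfRep.Comod.coassoc (k := k) (A := A) (V := S)) s
    simp only [LinearMap.comp_apply, LinearEquiv.coe_coe] at h
    have hc : (coactHom (A := A) hfix).toLinearMap ∘ₗ incl b =
        (incl (k := k) (S₀ := S₀) b).rTensor A ∘ₗ HopfRep.Comod.coact (k := k) (A := A) :=
      LinearMap.ext fun s => coactHom_incl hfix b s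
    rw [← LinearMap.rTensor_comp_apply, hc, LinearMap.rTensor_comp_apply,
      ← LinearMap.comp_apply ((CoalgebraStruct.comul (R := k) (A := A)).lTensor T),
      LinearMap.lTensor_comp_rTensor, ← LinearMap.rTensor_comp_lTensor, LinearMap.comp_apply, ← h]
    generalize (HopfRep.Comod.coact (k := k) (A := A)).rTensor A (HopfRep.Comod.coact (k := k) (A := A) s) = y
    induction y using TensorProduct.induction_on with
    | zero => simp
    | add y z hy hz => simp only [map_add, hy, hz]
    | tmul x c =>
      induction x using TensorProduct.induction_on with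
      | zero => simp
      | tmul _ _ => simp
      | add y z hy hz => simp only [TensorProduct.add_tmul, map_add, hy, hz]
  counit_comp := hom_ext fun b => LinearMap.ext fun s => by
    simp only [LinearMap.comp_apply, AlgHom.toLinearMap_apply, coactHom_incl hfix]
    have h := LinearMap.congr_fun (HopfRep.Comod.counit_comp (k := k) (A := A) (V := S)) s
    simp only [LinearMap.comp_apply] at h
    rw [← LinearMap.comp_apply ((CoalgebraStruct.counit (R := k) (A := A)).lTensor T),
      LinearMap.lTensor_comp_rTensor, ← LinearMap.rTensor_comp_lTensor, LinearMap.comp_apply, h]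
    simp

theorem isCoactAlg :
    letI := comod (R₀ := R₀) (A := A) hfix
    GLin.IsCoactAlg k A T :=
  letI := comod (R₀ := R₀) (A := A) hfix
  ⟨map_one (coactHom (A := A) hfix), map_mul (coactHom (A := A) hfix)⟩

theorem isComodHom_incl (b : R₀) :
    letI := comod (R₀ := R₀) (A := A) hfix
    Hoch.IsComodHom A (incl (k := k) (S := S) (S₀ := S₀) b) := by
  letI := comod (R₀ := R₀) (A := A) hfix
  exact LinearMap.ext fun s => coactHom_incl hfix b s

theorem dact_tmul (φ : A →ₗ[k] k) (s : S) (b : R₀) :
    letI := comod (R₀ := R₀) (A := A) hfix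
    dact T φ (s ⊗ₜ[S₀] b) = dact S φ s ⊗ₜ[S₀] b :=
  letI := comod (R₀ := R₀) (A := A) hfix
  (map_dact (isComodHom_incl hfix b) φ s).symm

/-- The invariants of the base change come from the base. -/
theorem exists_of_fixed (hG : HopfRep.IsLinearlyReductive k A)
    (hsurj : ∀ s ∈ HopfRep.fixedPts k A S, ∃ s₀, algebraMap S₀ S s₀ = s) {z : T}
    (hz : letI := comod (R₀ := R₀) (A := A) hfix; z ∈ HopfRep.fixedPts k A T) :
    ∃ b : R₀, z = (1 : S) ⊗ₜ[S₀] b := by
  letI := comod (R₀ := R₀) (A := A) hfix
  obtain ⟨η, hη1, hη⟩ := Haar.exists_haar hG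
  rw [← one_smul k z, ← hη1, ← mem_fixedPts_iff.1 hz η]
  clear hz
  induction z using TensorProduct.induction_on with
  | zero => exact ⟨0, by simp⟩
  | add y z hy hz =>
    obtain ⟨b, hb⟩ := hy
    obtain ⟨b', hb'⟩ := hz
    exact ⟨b + b', by rw [map_add, hb, hb', TensorProduct.tmul_add]⟩
  | tmul s b =>
    obtain ⟨s₀, hs₀⟩ := hsurj _ (hη S s)
    exact ⟨s₀ • b, by
      rw [dact_tmul hfix, ← hs₀, Algebra.algebraMap_eq_smul_one, TensorProduct.smul_tmul]⟩

end

end Groth.Agent.H60.BaseChange
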