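import Groth.Agent.H60.PointConfig

/-!
# Binary forms
-/

set_option autoImplicit false
universe u
open MvPolynomial
open scoped Matrix
open Groth.Agent.H60.FormSubst Groth.Agent.H60.SLHM Groth.Agent.H60.SLApp Groth.Agent.H60.PointConfig
namespace Groth.Agent.H60.BinaryCrit

noncomputable section

variable {k : Type u} [Field k] {d : ℕ}

theorem dvd_of_coeff {G : MvPolynomial (Fin 2) k} {j : Fin 2} {m : ℕ}
    (h : ∀ e, G.coeff e ≠ 0 → m ≤ e j) : (X j : MvPolynomial (Fin 2) k) ^ m ∣ G := by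
  classical
  rw [← support_sum_monomial_coeff G]
  refine Finset.dvd_sum fun e he => ⟨monomial (e - Finsupp.single j m) (G.coeff e), ?_⟩
  rw [X_pow_eq_monomial, monomial_mul, one_mul,
    add_tsub_cancel_of_le (Finsupp.single_le_iff.2 (h e (mem_support_iff.1 he)))]

theorem coeff_of_dvd {G : MvPolynomial (Fin 2) k} {j : Fin 2} {m : ℕ}
    (h : (X j : MvPolynomial (Fin 2) k) ^ m ∣ G) {e : Fin 2 →₀ ℕ} (he : G.coeff e ≠ 0) : m ≤ e j := by
  classical
  obtain ⟨Q, rfl⟩ := h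
  rw [X_pow_eq_monomial, coeff_monomial_mul'] at he
  split_ifs at he with h1
  · exact Finsupp.single_le_iff.1 h1
  · exact absurd rfl he

theorem eq_linForm {N : ℕ} {ℓ : MvPolynomial (Fin N) k} (h : ℓ.IsHomogeneous 1) :
    ℓ = linForm fun j => ℓ.coeff (Finsupp.single j 1) := by
  classical
  refine MvPolynomial.ext _ _ fun e => ?_
  by_cases he : e.degree = 1
  · obtain ⟨j, rfl⟩ : ∃ j, e = Finsupp.single j 1 := by
      obtain ⟨j, hj⟩ : ∃ j, 0 < e j := by
        by_contra hcon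
        push Not at hcon
        rw [degree_eq_sum, Finset.sum_eq_zero fun i _ => Nat.le_zero.1 (hcon i)] at he
        omega
      refine ⟨j, Finsupp.ext fun i => ?_⟩
      have hle := Finset.single_le_sum (f := fun i => e i) (fun i _ => Nat.zero_le _) (Finset.mem_univ j)
      rw [← degree_eq_sum, he] at hle
      by_cases hij : i = j
      · subst hij; rw [Finsupp.single_eq_same]; omega
      · rw [Finsupp.single_eq_of_ne hij]
        have h2 := Finset.sum_le_sum_of_subset (f := fun i => e i) (Finset.subset_univ {i, j})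
        rw [Finset.sum_pair hij, ← degree_eq_sum, he] at h2
        omega
    simp only [linForm, coeff_sum, coeff_C_mul, coeff_X']
    simp [Finsupp.single_left_inj]
  · rw [h.coeff_eq_zero he]
    simp only [linForm, coeff_sum, coeff_C_mul, coeff_X']
    refine (Finset.sum_eq_zero fun j _ => ?_).symm
    rw [if_neg fun h' => he (by rw [← h', Finsupp.degree_single]), mul_zero]

/-- A root of multiplicity `m` in suitable coordinates. -/
theorem exists_chart {F : MvPolynomial (Fin 2) k} {ℓ : MvPolynomial (Fin 2) k} (hl : ℓ.IsHomogeneous 1)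
    (hl0 : ℓ ≠ 0) {m : ℕ} (hdvd : ℓ ^ m ∣ F) :
    ∃ M : Matrix (Fin 2) (Fin 2) k, M.det = 1 ∧ ∀ e, (sub M F).coeff e ≠ 0 → m ≤ e 0 := by
  set q : Fin 2 → k := fun j => ℓ.coeff (Finsupp.single j 1) with hq
  have hq0 : q ≠ 0 := fun h => hl0 (by rw [eq_linForm hl, ← hq, h]; simp [linForm])
  obtain ⟨P, hP, hPq⟩ := exists_rows (s := 1) (n := 2) one_lt_two (fun _ => q) (LinearIndependent.of_subsingleton 0 hq0)
  have hPu : IsUnit P.det := by rw [hP]; exact isUnit_one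
  refine ⟨P⁻¹, by rw [Matrix.det_nonsing_inv, hP, Ring.inverse_one], fun e he => coeff_of_dvd ?_ he⟩
  have h1 : sub P⁻¹ ℓ = X 0 := by
    rw [eq_linForm hl, sub_linForm]
    have h2 : q ᵥ* P⁻¹ = Pi.single 0 1 := by
      have h0 := hPq 0
      rw [← h0, show P (Fin.castLE one_lt_two.le (0 : Fin 1)) = Pi.single 0 1 ᵥ* P from
        (Matrix.single_one_vecMul _ _).symm, Matrix.vecMul_vecMul, Matrix.mul_nonsing_inv _ hPu, Matrix.vecMul_one]
    rw [← hq, h2]
    simp [linForm, Fin.sum_univ_two]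
  have h3 := map_dvd (sub P⁻¹) hdvd
  rwa [map_pow, h1] at h3

theorem binary_weight {r : Fin 2 → ℤ} (hr : ∑ i, r i = 0) (e : Fin 2 →₀ ℕ) :
    wt r e = r 1 * ((e 1 : ℤ) - (e 0 : ℤ)) := by
  rw [Fin.sum_univ_two] at hr
  rw [wt, Fin.sum_univ_two, show r 0 = -r 1 by linarith]
  ring

/-- From a destabilising subgroup to a root of high multiplicity. -/
theorem exists_root {a : CoordGrp.FormIdx 2 d → k} (P : ℤ → Prop) (m : ℕ)
    (hP : ∀ c : ℤ, 0 < c → ∀ e0 e1 : ℕ, e0 + e1 = d → P (c * ((e1 : ℤ) - (e0 : ℤ))) → m ≤ e1)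
    (h : ∃ (M : Matrix (Fin 2) (Fin 2) k) (r : Fin 2 → ℤ), M.det = 1 ∧ r ≠ 0 ∧ ∑ i, r i = 0 ∧
      ∀ e : Fin 2 →₀ ℕ, (sub M (CoordGrp.formPoly a)).coeff e ≠ 0 → P (wt r e)) :
    ∃ ℓ : MvPolynomial (Fin 2) k, ℓ.IsHomogeneous 1 ∧ ℓ ≠ 0 ∧ ℓ ^ m ∣ CoordGrp.formPoly a := by
  obtain ⟨M₁, r₁, hM₁, hr₁0, hr₁, hw₁⟩ := h
  obtain ⟨M, r, hM, hmono, hr0, hr, hw⟩ := exists_sorted P hM₁ hr₁0 hr₁ hw₁
  have hr1 : 0 < r 1 := by
    have h01 : r 0 ≤ r 1 := hmono (by decide)
    have hr' := hr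
    rw [Fin.sum_univ_two] at hr'
    by_contra hc
    refine hr0 (funext fun i => ?_)
    fin_cases i <;> simp <;> omega
  have hMu : IsUnit M.det := by rw [hM]; exact isUnit_one
  have hdvd : (X 1 : MvPolynomial (Fin 2) k) ^ m ∣ sub M (CoordGrp.formPoly a) := dvd_of_coeff fun e he => by
    have hdeg := exists_idx (isHomogeneous_sub M (isHomogeneous_formPoly a)) he
    rw [degree_eq_sum, Fin.sum_univ_two] at hdeg
    exact hP (r 1) hr1 _ _ hdeg (binary_weight hr e ▸ hw e he)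
  refine ⟨sub M⁻¹ (X 1), isHomogeneous_sub _ (isHomogeneous_X k 1), fun h0 => ?_, ?_⟩
  · refine X_ne_zero (R := k) (1 : Fin 2) (sub_injective (g := M⁻¹) ?_ (h0.trans (map_zero _).symm))
    exact Matrix.isUnit_nonsing_inv_det _ hMu
  · have h3 := map_dvd (sub M⁻¹) hdvd
    rwa [map_pow, sub_comp, Matrix.mul_nonsing_inv _ hMu, sub_one] at h3

theorem not_dest_iff [IsAlgClosed k] (a : CoordGrp.FormIdx 2 d → k) :
    ¬ Dest a ↔ ∀ ℓ : MvPolynomial (Fin 2) k, ℓ.IsHomogeneous 1 → ℓ ≠ 0 →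
      ∀ m : ℕ, ℓ ^ m ∣ CoordGrp.formPoly a → 2 * m < d := by
  constructor
  · intro hD ℓ hl hl0 m hdvd
    by_contra hm
    obtain ⟨M, hM, hMe⟩ := exists_chart hl hl0 hdvd
    refine hD ⟨M, ![1, -1], hM, fun h => by simpa using congrFun h 0, by simp [Fin.sum_univ_two], fun e he => ?_⟩
    have hdeg := exists_idx (isHomogeneous_sub M (isHomogeneous_formPoly a)) he
    rw [degree_eq_sum, Fin.sum_univ_two] at hdeg
    have := hMe e he
    simp [wt, Fin.sum_univ_two]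
    omega
  · intro h hD
    obtain ⟨ℓ, hl, hl0, hdvd⟩ := exists_root (0 ≤ ·) ((d + 1) / 2) (fun c hc e0 e1 he hP => by
      have := nonneg_of_mul_nonneg_right hP hc
      omega) hD
    have := h ℓ hl hl0 _ hdvd
    omega

theorem not_unst_iff [IsAlgClosed k] (a : CoordGrp.FormIdx 2 d → k) :
    ¬ Unst a ↔ ∀ ℓ : MvPolynomial (Fin 2) k, ℓ.IsHomogeneous 1 → ℓ ≠ 0 →
      ∀ m : ℕ, ℓ ^ m ∣ CoordGrp.formPoly a → 2 * m ≤ d := by
  constructor
  · intro hD ℓ hl hl0 m hdvd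
    by_contra hm
    obtain ⟨M, hM, hMe⟩ := exists_chart hl hl0 hdvd
    refine hD ⟨M, ![1, -1], hM, fun h => by simpa using congrFun h 0, by simp [Fin.sum_univ_two], fun e he => ?_⟩
    have hdeg := exists_idx (isHomogeneous_sub M (isHomogeneous_formPoly a)) he
    rw [degree_eq_sum, Fin.sum_univ_two] at hdeg
    have := hMe e he
    simp [wt, Fin.sum_univ_two]
    omega
  · intro h hD
    obtain ⟨ℓ, hl, hl0, hdvd⟩ := exists_root (0 < ·) (d / 2 + 1) (fun c hc e0 e1 he hP => by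
      have := pos_of_mul_pos_right hP hc.le
      omega) hD
    have := h ℓ hl hl0 _ hdvd
    omega

end

end Groth.Agent.H60.BinaryCrit
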