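import Groth.Agent.H60.LunaCart
import Mathlib.RingTheory.Etale.Locus
import Mathlib.RingTheory.Localization.BaseChange
import Mathlib.RingTheory.Smooth.Flat
import Mathlib.RingTheory.Spectrum.Prime.Chevalley
import Mathlib.RingTheory.LocalRing.ResidueField.Ideal
import Mathlib.RingTheory.Ideal.GoingDown

/-! Consequences of a quotient square being cartesian after inverting a function on the base. -/

set_option autoImplicit false
set_option linter.style.haveILetI false
universe u

open TensorProduct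
open Groth.Agent.H60.LunaCart

namespace Groth.Agent.H60.CartLoc

/-- Two primes over the same prime come from a prime of the tensor product. -/
theorem exists_prime_tensor {S₀ S B : Type u} [CommRing S₀] [CommRing S] [CommRing B] [Algebra S₀ S]
    [Algebra S₀ B] (P : Ideal S) [P.IsPrime] (q : Ideal B) [q.IsPrime]
    (h : P.comap (algebraMap S₀ S) = q.comap (algebraMap S₀ B)) :
    ∃ Q : Ideal (S ⊗[S₀] B), Q.IsPrime ∧
      Q.comap (Algebra.TensorProduct.includeLeft (R := S₀) (S := S₀) (A := S) (B := B)) = P ∧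
      Q.comap (Algebra.TensorProduct.includeRight (R := S₀) (A := S) (B := B)) = q := by
  set p := P.comap (algebraMap S₀ S)
  let f₁ := Ideal.ResidueField.map p P (algebraMap S₀ S) rfl
  let f₂ := Ideal.ResidueField.map p q (algebraMap S₀ B) h
  letI := f₁.toAlgebra
  letI := f₂.toAlgebra
  haveI : Nontrivial (P.ResidueField ⊗[p.ResidueField] q.ResidueField) :=
    (Algebra.TensorProduct.includeLeft_injective (R := p.ResidueField) (S := p.ResidueField)
      (A := P.ResidueField) (B := q.ResidueField) f₂.injective).nontrivial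
  obtain ⟨F, _, g₁, g₂, hg⟩ : ∃ (F : Type u) (_ : Field F) (g₁ : P.ResidueField →+* F) (g₂ : q.ResidueField →+* F),
      ∀ a, g₂ (f₂ a) = g₁ (f₁ a) := by
    obtain ⟨m, hm⟩ := Ideal.exists_maximal (P.ResidueField ⊗[p.ResidueField] q.ResidueField)
    exact ⟨_, Ideal.Quotient.field m, (Ideal.Quotient.mk m).comp Algebra.TensorProduct.includeLeftRingHom,
      (Ideal.Quotient.mk m).comp (Algebra.TensorProduct.includeRight (R := p.ResidueField)
        (A := P.ResidueField) (B := q.ResidueField)).toRingHom,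
      fun a => congrArg (Ideal.Quotient.mk m) (AlgHom.commutes (Algebra.TensorProduct.includeRight
        (R := p.ResidueField) (A := P.ResidueField) (B := q.ResidueField)) a)⟩
  letI : Algebra S₀ F := ((g₁.comp (algebraMap S P.ResidueField)).comp (algebraMap S₀ S)).toAlgebra
  let φ : S ⊗[S₀] B →ₐ[S₀] F :=
    Algebra.TensorProduct.lift
      { toRingHom := g₁.comp (algebraMap S P.ResidueField), commutes' := fun _ => rfl }
      { toRingHom := g₂.comp (algebraMap B q.ResidueField)
        commutes' := fun s => by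
          change g₂ (algebraMap B q.ResidueField (algebraMap S₀ B s)) =
            g₁ (algebraMap S P.ResidueField (algebraMap S₀ S s))
          rw [← Ideal.ResidueField.map_algebraMap p q (algebraMap S₀ B) h,
            ← Ideal.ResidueField.map_algebraMap p P (algebraMap S₀ S) rfl]
          exact hg _ }
      fun _ _ => Commute.all _ _
  refine ⟨RingHom.ker φ, RingHom.ker_isPrime φ, ?_, ?_⟩
  · ext s
    simp [φ, RingHom.mem_ker, map_eq_zero_iff g₁ g₁.injective]
  · ext b
    simp [φ, RingHom.mem_ker, map_eq_zero_iff g₂ g₂.injective]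

variable {k : Type u} [Field k] {S R S₀ R₀ : Type u} [CommRing S] [Algebra k S]
  [CommRing R] [Algebra k R] [Algebra S R] [IsScalarTower k S R]
  [CommRing S₀] [Algebra k S₀] [Algebra S₀ S] [IsScalarTower k S₀ S]
  [CommRing R₀] [Algebra k R₀] [Algebra R₀ R] [IsScalarTower k R₀ R]
  [Algebra S₀ R₀] [Algebra S₀ R] [IsScalarTower S₀ S R] [IsScalarTower S₀ R₀ R]

local notation "T" => S ⊗[S₀] R₀

variable (h : R₀) (hK : ∀ z : S ⊗[S₀] R₀, mu k S R S₀ R₀ z = 0 → ∃ n : ℕ, ((1 : S) ⊗ₜ[S₀] h) ^ n * z = 0)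
  (hC : ∀ r : R, ∃ (n : ℕ) (z : S ⊗[S₀] R₀), mu k S R S₀ R₀ z = algebraMap R₀ R h ^ n * r)

/-- `T → R_h`. -/
@[reducible] noncomputable def algT : Algebra T (Localization.Away (algebraMap R₀ R h)) :=
  ((algebraMap R (Localization.Away (algebraMap R₀ R h))).comp (mu k S R S₀ R₀).toRingHom).toAlgebra

include hK hC in
theorem isLocalization :
    letI := algT (k := k) (S := S) (R := R) (S₀ := S₀) h
    IsLocalization.Away ((1 : S) ⊗ₜ[S₀] h) (Localization.Away (algebraMap R₀ R h)) := by
  letI := algT (k := k) (S := S) (R := R) (S₀ := S₀) h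
  set L := Localization.Away (algebraMap R₀ R h)
  have hu : mu k S R S₀ R₀ ((1 : S) ⊗ₜ[S₀] h) = algebraMap R₀ R h := by simp
  have hmap : ∀ z : T, algebraMap T L z = algebraMap R L (mu k S R S₀ R₀ z) := fun _ => rfl
  refine IsLocalization.Away.mk _ ?_ (fun s => ?_) fun a b hab => ?_
  · rw [hmap, hu]
    exact IsLocalization.Away.algebraMap_isUnit _
  · obtain ⟨n, r, hr⟩ := IsLocalization.Away.surj (algebraMap R₀ R h) s
    obtain ⟨m, z, hz⟩ := hC r
    refine ⟨n + m, z, ?_⟩
    rw [hmap, hmap, hu, hz, map_mul, map_pow, ← hr, pow_add]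
    ring
  · obtain ⟨n, hn⟩ := IsLocalization.Away.exists_of_eq (algebraMap R₀ R h) ((hmap a).symm.trans (hab.trans (hmap b)))
    obtain ⟨m, hm⟩ := hK (((1 : S) ⊗ₜ[S₀] h) ^ n * (a - b)) (by
      rw [map_mul, map_pow, hu, map_sub, mul_sub, hn, sub_self])
    refine ⟨m + n, ?_⟩
    rw [← sub_eq_zero, ← mul_sub, pow_add, mul_assoc]
    exact hm

include hK hC in
/-- Points of the base change where `h` does not vanish come from points upstairs. -/
theorem exists_pt (w : T →ₐ[k] k) (hw : w ((1 : S) ⊗ₜ[S₀] h) ≠ 0) :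
    ∃ x' : R →ₐ[k] k, x'.comp (mu k S R S₀ R₀) = w := by
  letI := algT (k := k) (S := S) (R := R) (S₀ := S₀) h
  haveI := isLocalization h hK hC
  let l : Localization.Away (algebraMap R₀ R h) →+* k :=
    IsLocalization.Away.lift ((1 : S) ⊗ₜ[S₀] h) (g := w.toRingHom) (Ne.isUnit hw)
  have hl : ∀ z : T, l (algebraMap R _ (mu k S R S₀ R₀ z)) = w z := fun z =>
    IsLocalization.Away.lift_eq ((1 : S) ⊗ₜ[S₀] h) (Ne.isUnit hw) z
  refine ⟨{ toRingHom := l.comp (algebraMap R _), commutes' := fun c => ?_ }, AlgHom.ext hl⟩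
  change l (algebraMap R _ (algebraMap k R c)) = _
  rw [← AlgHom.commutes (mu k S R S₀ R₀), hl, AlgHom.commutes]

include hK hC in
/-- Primes of the base change where `h` does not vanish come from primes upstairs. -/
theorem exists_prime (Q : Ideal T) [Q.IsPrime] (hQ : ((1 : S) ⊗ₜ[S₀] h) ∉ Q) :
    ∃ Q' : Ideal R, Q'.IsPrime ∧ algebraMap R₀ R h ∉ Q' ∧ Q'.comap (mu k S R S₀ R₀) = Q := by
  letI := algT (k := k) (S := S) (R := R) (S₀ := S₀) h
  haveI := isLocalization h hK hC
  set L := Localization.Away (algebraMap R₀ R h)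
  have hdisj : Disjoint ((Submonoid.powers ((1 : S) ⊗ₜ[S₀] h) : Submonoid T) : Set T) (Q : Set T) := by
    rw [Set.disjoint_left]
    rintro _ ⟨n, rfl⟩ hn
    exact hQ ((inferInstance : Q.IsPrime).mem_of_pow_mem n hn)
  haveI hp := IsLocalization.isPrime_of_isPrime_disjoint (Submonoid.powers ((1 : S) ⊗ₜ[S₀] h)) L Q ‹_› hdisj
  refine ⟨(Q.map (algebraMap T L)).comap (algebraMap R L), Ideal.comap_isPrime _ _, fun hh => ?_, ?_⟩
  · exact hp.ne_top (Ideal.eq_top_of_isUnit_mem _ hh (IsLocalization.Away.algebraMap_isUnit _))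
  · exact IsLocalization.comap_map_of_isPrime_disjoint (Submonoid.powers ((1 : S) ⊗ₜ[S₀] h)) L ‹_› hdisj

include k hK hC in
/-- The map upstairs is étale where `h` does not vanish. -/
theorem etale (het : Algebra.Etale S₀ (Localization.Away h)) :
    Algebra.Etale S (Localization.Away (algebraMap R₀ R h)) := by
  letI := algT (k := k) (S := S) (R := R) (S₀ := S₀) h
  haveI := isLocalization h hK hC
  haveI : IsScalarTower S T (Localization.Away (algebraMap R₀ R h)) := .of_algebraMap_eq fun s => by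
    change _ = algebraMap R _ (mu k S R S₀ R₀ (s ⊗ₜ 1))
    rw [mu_tmul, map_one, mul_one, ← IsScalarTower.algebraMap_apply]
  exact Algebra.Etale.of_equiv ((IsLocalization.Away.tensorProductEquivTMulRight S₀ S h (Localization.Away h)).trans
    ((IsLocalization.algEquiv (Submonoid.powers ((1 : S) ⊗ₜ[S₀] h))
      (Localization.Away ((1 : S) ⊗ₜ[S₀] h)) (Localization.Away (algebraMap R₀ R h))).restrictScalars S))

end Groth.Agent.H60.CartLoc
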