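import Groth.Agent.H60.LunaSurj
import Groth.Agent.H60.BaseChange

/-! The quotient square of an etale map at a closed orbit is cartesian over an invariant neighbourhood. -/

set_option autoImplicit false
set_option linter.unusedSectionVars false
set_option linter.style.haveILetI false
universe u

open TensorProduct
open Groth.Agent.Lib.Comod Groth.Agent.Lib.Comod.Basic Groth.Agent.Lib.Comod.Reynolds Groth.Agent.Lib.Comod.Orbits
open Groth.Agent.Lib.Comod.Alg Groth.Agent.H60.Luna

namespace Groth.Agent.H60.LunaCart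

noncomputable section

variable {k : Type u} [Field k] {A : Type u} [CommRing A] [HopfAlgebra k A]
variable {S R S₀ R₀ : Type u} [CommRing S] [Algebra k S] [HopfRep.Comod k A S] [GLin.IsCoactAlg k A S]
  [CommRing R] [Algebra k R] [HopfRep.Comod k A R] [GLin.IsCoactAlg k A R]
  [Algebra S R] [IsScalarTower k S R]
  [CommRing S₀] [Algebra k S₀] [Algebra S₀ S] [IsScalarTower k S₀ S]
  [CommRing R₀] [Algebra k R₀] [Algebra R₀ R] [IsScalarTower k R₀ R]
  [Algebra S₀ R₀] [Algebra S₀ R] [IsScalarTower S₀ S R] [IsScalarTower S₀ R₀ R]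

local notation "T" => S ⊗[S₀] R₀
local notation "θ" => IsScalarTower.toAlgHom k S R

variable (k S R S₀ R₀) in
/-- The canonical map from the base change. -/
def mu : T →ₐ[k] R :=
  AlgHom.ofLinearMap
    { toFun := Algebra.TensorProduct.productMap (IsScalarTower.toAlgHom S₀ S R) (IsScalarTower.toAlgHom S₀ R₀ R)
      map_add' := map_add _
      map_smul' := fun c z => by
        induction z using TensorProduct.induction_on with
        | zero => simp
        | add y z hy hz => simp only [smul_add, map_add, hy, hz]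
        | tmul s b =>
          simp [TensorProduct.smul_tmul', Algebra.smul_def, mul_assoc, ← IsScalarTower.algebraMap_apply k S R] }
    (map_one (Algebra.TensorProduct.productMap (IsScalarTower.toAlgHom S₀ S R) (IsScalarTower.toAlgHom S₀ R₀ R)))
    (map_mul (Algebra.TensorProduct.productMap (IsScalarTower.toAlgHom S₀ S R) (IsScalarTower.toAlgHom S₀ R₀ R)))

@[simp] theorem mu_tmul (s : S) (b : R₀) :
    mu k S R S₀ R₀ (s ⊗ₜ[S₀] b) = algebraMap S R s * algebraMap R₀ R b := by
  change Algebra.TensorProduct.productMap _ _ _ = _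
  simp

theorem mu_eq (z : T) : mu k S R S₀ R₀ z =
    Algebra.TensorProduct.productMap (IsScalarTower.toAlgHom S₀ S R) (IsScalarTower.toAlgHom S₀ R₀ R) z := rfl

theorem fixed_of_range {B : Type u} [CommRing B] [Algebra k B] [Algebra B R] [IsScalarTower k B R]
    (h : (IsScalarTower.toAlgHom k B R).range = GLin.invariants k A R) (b : B) :
    algebraMap B R b ∈ HopfRep.fixedPts k A R :=
  (SetLike.ext_iff.1 h _).1 ⟨b, rfl⟩

theorem exists_of_range {B : Type u} [CommRing B] [Algebra k B] [Algebra B R] [IsScalarTower k B R]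
    (h : (IsScalarTower.toAlgHom k B R).range = GLin.invariants k A R) {r : R}
    (hr : r ∈ HopfRep.fixedPts k A R) : ∃ b : B, algebraMap B R b = r :=
  (SetLike.ext_iff.1 h _).2 hr

theorem actPt_comp (hhom : Hoch.IsComodHom A (θ).toLinearMap) (g : A →ₐ[k] k) (x : R →ₐ[k] k) :
    (GLin.actPt k g x).comp θ = GLin.actPt k g (x.comp θ) := by
  refine AlgHom.ext fun s => ?_
  simp only [AlgHom.comp_apply, actPt_apply]
  exact congrArg x (map_dact hhom _ s).symm

variable (hS₀ : (IsScalarTower.toAlgHom k S₀ S).range = GLin.invariants k A S)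
  (hR₀ : (IsScalarTower.toAlgHom k R₀ R).range = GLin.invariants k A R)

include hR₀ in
theorem isComodHom_mu (hhom : Hoch.IsComodHom A (θ).toLinearMap) :
    letI := BaseChange.comod (R₀ := R₀) (A := A) (fixed_of_range hS₀)
    Hoch.IsComodHom A (mu k S R S₀ R₀).toLinearMap := by
  letI := BaseChange.comod (R₀ := R₀) (A := A) (fixed_of_range hS₀)
  refine (isComodHom_iff _).2 fun φ z => ?_
  simp only [AlgHom.toLinearMap_apply]
  induction z using TensorProduct.induction_on with
  | zero => simp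
  | add y z hy hz => simp only [map_add, hy, hz]
  | tmul s b =>
    rw [BaseChange.dact_tmul (fixed_of_range hS₀), mu_tmul, mu_tmul, mul_comm _ (algebraMap R₀ R b),
      mul_comm _ (algebraMap R₀ R b)]
    have h1 := map_dact (isComodHom_smul (R := R) (M := R) (fixed_of_range hR₀ b)) φ (algebraMap S R s)
    have h2 : algebraMap S R (dact S φ s) = dact R φ (algebraMap S R s) := map_dact hhom φ s
    rw [h2]
    simpa using h1

section Closed

variable [IsAlgClosed k] [Algebra.FiniteType k A] [Algebra.FiniteType k S] [Algebra.FiniteType k R]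

include hS₀ hR₀ in
/-- Over a neighbourhood where the quotient square is cartesian, closed orbits correspond. -/
theorem isClosedOrbit_iff_of_cart (hhom : Hoch.IsComodHom A (θ).toLinearMap) (h : R₀)
    (hsurj : ∀ r : R, ∃ (n : ℕ) (z : T), mu k S R S₀ R₀ z = algebraMap R₀ R h ^ n * r)
    (hext : ∀ w : T →ₐ[k] k, w ((1 : S) ⊗ₜ[S₀] h) ≠ 0 → ∃ x' : R →ₐ[k] k, x'.comp (mu k S R S₀ R₀) = w)
    (x : R →ₐ[k] k) (hx : x (algebraMap R₀ R h) ≠ 0) :
    GLin.IsClosedOrbit k A x ↔ GLin.IsClosedOrbit k A (x.comp θ) := by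
  have hinvR : ∀ g : A →ₐ[k] k, ∀ b : R₀, GLin.actPt k g x (algebraMap R₀ R b) = x (algebraMap R₀ R b) :=
    fun g b => actPt_fixed g x (fixed_of_range hR₀ b)
  have hker : ∀ s : S, s ∈ orbitKer (A := A) (x.comp θ) ↔ algebraMap S R s ∈ orbitKer (A := A) x := fun s => by
    rw [mem_orbitKer_iff, mem_orbitKer_iff]
    refine forall_congr' fun φ => ?_
    rw [← show algebraMap S R (dact S φ s) = dact R φ (algebraMap S R s) from map_dact hhom φ s]
    rfl
  constructor
  · intro hcl
    refine isClosedOrbit_of_forall fun z hz => ?_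
    let I := orbitKer (A := A) (x.comp θ)
    let q : R₀ →ₐ[k] k := x.comp (IsScalarTower.toAlgHom k R₀ R)
    have hq : ∀ s₀ : S₀, q (algebraMap S₀ R₀ s₀) = x (algebraMap S R (algebraMap S₀ S s₀)) := fun s₀ =>
      congrArg x (show algebraMap R₀ R (algebraMap S₀ R₀ s₀) = algebraMap S R (algebraMap S₀ S s₀) by
        rw [← IsScalarTower.algebraMap_apply, ← IsScalarTower.algebraMap_apply])
    let ρ : T →ₐ[S₀] S ⧸ I := Algebra.TensorProduct.lift (Ideal.Quotient.mkₐ S₀ I)
      { toRingHom := (algebraMap k (S ⧸ I)).comp q.toRingHom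
        commutes' := fun s₀ => by
          change algebraMap k (S ⧸ I) (q (algebraMap S₀ R₀ s₀)) = _
          rw [hq, IsScalarTower.algebraMap_apply k S (S ⧸ I), IsScalarTower.algebraMap_apply S₀ S (S ⧸ I),
            Ideal.Quotient.algebraMap_eq, eq_comm, Ideal.Quotient.eq]
          exact sub_mem_orbitKer (x.comp θ) (fixed_of_range hS₀ s₀) }
      fun _ _ => Commute.all _ _
    let zbar : S ⧸ I →ₐ[k] k := Ideal.Quotient.liftₐ I z fun a ha => hz ha
    let obar : S ⧸ I →ₐ[k] A := Ideal.Quotient.liftₐ I (GLin.orbitHom k A (x.comp θ)) fun a ha => ha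
    let w : T →ₐ[k] k := zbar.comp (ρ.restrictScalars k)
    have hρ : ∀ (s : S) (b : R₀), ρ (s ⊗ₜ[S₀] b) = Ideal.Quotient.mk I s * algebraMap k (S ⧸ I) (q b) :=
      fun s b => rfl
    have hzbar : ∀ s : S, zbar (Ideal.Quotient.mk I s) = z s := fun s => rfl
    have hobar : ∀ s : S, obar (Ideal.Quotient.mk I s) = GLin.orbitHom k A (x.comp θ) s := fun s => rfl
    have hw : ∀ (s : S) (b : R₀), w (s ⊗ₜ[S₀] b) = z s * q b := fun s b => by
      simp [w, hρ, hzbar]
    have ho : ∀ t : T, GLin.orbitHom k A x (mu k S R S₀ R₀ t) = obar (ρ t) := by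
      intro t
      induction t using TensorProduct.induction_on with
      | zero => simp
      | add y y' hy hy' => simp only [map_add, hy, hy']
      | tmul s b =>
        rw [mu_tmul, hρ, map_mul, map_mul, hobar, AlgHom.commutes, orbitHom_fixed x (fixed_of_range hR₀ b)]
        congr 1
        refine (Module.Free.chooseBasis k A).repr.injective (Finsupp.ext fun i => ?_)
        change (Module.Free.chooseBasis k A).coord i _ = (Module.Free.chooseBasis k A).coord i _
        rw [apply_orbitHom, apply_orbitHom, AlgHom.comp_apply]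
        exact congrArg x (map_dact hhom _ s).symm
    have hobinj : Function.Injective obar := by
      refine (injective_iff_map_eq_zero _).2 fun a ha => ?_
      obtain ⟨s, rfl⟩ := Ideal.Quotient.mk_surjective a
      exact Ideal.Quotient.eq_zero_iff_mem.2 ((hobar s).symm.trans ha)
    have hwh : w ((1 : S) ⊗ₜ[S₀] h) ≠ 0 := by rw [hw, map_one, one_mul]; exact hx
    obtain ⟨x', hx'⟩ := hext w hwh
    have hle : orbitKer (A := A) x ≤ RingHom.ker x' := by
      intro r hr
      obtain ⟨n, t, ht⟩ := hsurj r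
      have h1 : ρ t = 0 := hobinj (by
        rw [← ho, map_zero, ht, map_mul, RingHom.mem_ker.1 hr, mul_zero])
      have h2 : x' (mu k S R S₀ R₀ t) = 0 := by
        rw [← AlgHom.comp_apply, hx']
        simp [w, h1]
      rw [ht, map_mul, map_pow] at h2
      have h3 : x' (algebraMap R₀ R h) = w ((1 : S) ⊗ₜ[S₀] h) := by
        rw [← hx']; simp
      exact (mul_eq_zero.1 h2).resolve_left (pow_ne_zero n (h3 ▸ hwh))
    obtain ⟨g, rfl⟩ := inOrbit_of_isClosedOrbit hcl hle
    refine ⟨g, ?_⟩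
    rw [← actPt_comp hhom]
    refine AlgHom.ext fun s => ?_
    have := AlgHom.congr_fun hx' (s ⊗ₜ[S₀] 1)
    simp only [AlgHom.comp_apply, mu_tmul, map_one, mul_one, hw] at this
    exact this.symm
  · intro hcl
    refine isClosedOrbit_of_forall fun z hz => ?_
    obtain ⟨g, hg⟩ := inOrbit_of_isClosedOrbit hcl (z := z.comp θ) fun s hs => hz ((hker s).1 hs)
    refine ⟨g, AlgHom.ext fun r => ?_⟩
    obtain ⟨n, t, ht⟩ := hsurj r
    have h1 : z (mu k S R S₀ R₀ t) = GLin.actPt k g x (mu k S R S₀ R₀ t) := by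
      clear ht
      induction t using TensorProduct.induction_on with
      | zero => simp
      | add y y' hy hy' => simp only [map_add, hy, hy']
      | tmul s b =>
        rw [mu_tmul, map_mul, map_mul, hinvR g b, eq_on_fixedPts hz (fixed_of_range hR₀ b)]
        congr 1
        exact (AlgHom.congr_fun hg s).trans (AlgHom.congr_fun (actPt_comp hhom g x) s).symm
    rw [ht, map_mul, map_mul, map_pow, map_pow, hinvR g h, eq_on_fixedPts hz (fixed_of_range hR₀ h)] at h1
    exact mul_left_cancel₀ (pow_ne_zero n hx) h1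

end Closed

section Nhd

variable [IsAlgClosed k] [IsDomain A] [Algebra.FiniteType k A] [Algebra.FiniteType k S] [Algebra.FiniteType k R]
variable {x : R →ₐ[k] k}

include hS₀ hR₀ in
/-- Surjectivity over an invariant neighbourhood. -/
theorem exists_surj (hG : HopfRep.IsLinearlyReductive k A) (D : Data (A := A) (S := S) x) :
    ∃ c : R₀, x (algebraMap R₀ R c) = 1 ∧
      ∀ r : R, ∃ (n : ℕ) (z : T), mu k S R S₀ R₀ z = algebraMap R₀ R c ^ n * r := by
  classical
  obtain ⟨t, ht⟩ := (Algebra.FiniteType.out : (⊤ : Subalgebra k R).FG)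
  obtain ⟨W, hWfg, hW, htW⟩ := exists_subcomod_fg (k := k) (A := A) (V := R) t
  letI := subComod W hW
  haveI : Module.Finite k W := ⟨(Submodule.fg_top W).2 hWfg⟩
  let X : Set (W →ₗ[k] R) :=
    {χ | ∃ ψ : W →ₗ[k] S, Hoch.IsComodHom A ψ ∧ χ = (θ).toLinearMap ∘ₗ ψ}
  obtain ⟨c, hc, hcx, hcW⟩ := LunaSurj.exists_invariant_smul_mem hG (closed_orbit D) X
    (fun χ ⟨ψ, hψ, hχ⟩ => hχ ▸ isComodHom_comp hψ D.hom) (φ := W.subtype) (isComodHom_subtype hW)
    (fun i => by
      obtain ⟨ψ, hψ, hψJ⟩ := LunaSurj.exists_comodHom_section hG D.hom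
        (J := (orbitKer (A := A) x ^ i).restrictScalars k)
        (isSubcomod_ideal_pow (isSubcomod_orbitKer x) i) (fun r => exists_sub_mem_pow D i r)
      exact ⟨_, ⟨ψ ∘ₗ W.subtype, isComodHom_comp (isComodHom_subtype hW) hψ, rfl⟩, fun w => hψJ w⟩)
    (mu k S R S₀ R₀).range.toSubmodule
    (fun b hb χ ⟨ψ, _, hχ⟩ w => by
      obtain ⟨b₀, rfl⟩ := exists_of_range hR₀ hb
      exact ⟨ψ w ⊗ₜ[S₀] b₀, by subst hχ; simp [mul_comm]⟩)
  obtain ⟨c, rfl⟩ := exists_of_range hR₀ hc
  refine ⟨c, hcx, fun r => ?_⟩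
  have hr : r ∈ Algebra.adjoin k (t : Set R) := ht.symm ▸ Algebra.mem_top
  induction hr using Algebra.adjoin_induction with
  | mem w hw =>
    obtain ⟨z, hz⟩ := hcW ⟨w, htW hw⟩
    exact ⟨1, z, by rw [pow_one]; exact hz⟩
  | algebraMap a => exact ⟨0, algebraMap k T a, by simp [← IsScalarTower.algebraMap_apply k S R]⟩
  | add a b _ _ ha hb =>
    obtain ⟨n, z, hz⟩ := ha
    obtain ⟨n', z', hz'⟩ := hb
    refine ⟨n + n', ((1 : S) ⊗ₜ[S₀] c) ^ n' * z + ((1 : S) ⊗ₜ[S₀] c) ^ n * z', ?_⟩
    simp only [map_add, map_mul, map_pow, mu_tmul, map_one, one_mul, hz, hz', pow_add]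
    ring
  | mul a b _ _ ha hb =>
    obtain ⟨n, z, hz⟩ := ha
    obtain ⟨n', z', hz'⟩ := hb
    exact ⟨n + n', z * z', by rw [map_mul, hz, hz', pow_add]; ring⟩

include hS₀ hR₀ in
/-- Injectivity over an invariant neighbourhood. -/
theorem exists_inj (hG : HopfRep.IsLinearlyReductive k A) (hR₀i : Function.Injective (algebraMap R₀ R))
    [Algebra.FiniteType S₀ R₀] (D : Data (A := A) (S := S) x)
    [(RingHom.ker x.toRingHom).IsPrime] [Module.Flat S (Localization.AtPrime (RingHom.ker x.toRingHom))] :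
    ∃ c : R₀, x (algebraMap R₀ R c) = 1 ∧
      ∀ z : T, mu k S R S₀ R₀ z = 0 → ((1 : S) ⊗ₜ[S₀] c) * z = 0 := by
  classical
  have hfix := fixed_of_range (A := A) hS₀
  letI := BaseChange.comod (R₀ := R₀) (A := A) hfix
  haveI := BaseChange.isCoactAlg (R₀ := R₀) (A := A) hfix
  haveI : Algebra.FiniteType S T := inferInstance
  haveI : Algebra.FiniteType k T := Algebra.FiniteType.trans (S := S) ‹Algebra.FiniteType k S› ‹Algebra.FiniteType S T›
  haveI : IsNoetherianRing T := Algebra.FiniteType.isNoetherianRing k T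
  have hμ := isComodHom_mu hS₀ hR₀ D.hom
  set μ := mu k S R S₀ R₀ with hμdef
  set t₀ : T →ₐ[k] k := x.comp μ with ht₀
  set I := orbitKer (A := A) t₀
  set J := orbitKer (A := A) x
  have ht₀l : ∀ (φ : A →ₗ[k] k) (s : S), t₀ (dact T φ (s ⊗ₜ[S₀] (1 : R₀))) = (x.comp θ) (dact S φ s) :=
    fun φ s => by rw [BaseChange.dact_tmul hfix]; simp [t₀, μ]
  have hIl : ∀ s ∈ orbitKer (A := A) (x.comp θ), (s ⊗ₜ[S₀] (1 : R₀)) ∈ I := fun s hs =>
    (mem_orbitKer_iff _ _).2 fun φ => by rw [ht₀l]; exact (mem_orbitKer_iff _ _).1 hs φ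
  have hIJ : ∀ z ∈ I, μ z ∈ J := fun z hz => (mem_orbitKer_iff _ _).2 fun φ => by
    rw [← show μ (dact T φ z) = dact R φ (μ z) from map_dact hμ φ z]
    exact (mem_orbitKer_iff _ _).1 hz φ
  have hfixT : ∀ b : R₀, ((1 : S) ⊗ₜ[S₀] b) ∈ HopfRep.fixedPts k A T := fun b =>
    mem_fixedPts_iff.2 fun φ => by
      rw [BaseChange.dact_tmul hfix, mem_fixedPts_iff.1 one_mem_fixedPts φ, TensorProduct.smul_tmul']
  have hcl : GLin.IsClosedOrbit k A t₀ := by
    refine isClosedOrbit_of_forall fun z hz => ?_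
    obtain ⟨g, hg⟩ := inOrbit_of_isClosedOrbit D.closed
      (z := z.comp ((Algebra.TensorProduct.includeLeft : S →ₐ[S₀] T).restrictScalars k))
      fun s hs => hz (hIl s hs)
    refine ⟨g, AlgHom.ext fun t => ?_⟩
    induction t using TensorProduct.induction_on with
    | zero => simp
    | add y y' hy hy' => simp only [map_add, hy, hy']
    | tmul s b =>
      rw [show s ⊗ₜ[S₀] b = (s ⊗ₜ[S₀] (1 : R₀)) * ((1 : S) ⊗ₜ[S₀] b) by simp, map_mul, map_mul,
        actPt_fixed g t₀ (hfixT b), eq_on_fixedPts hz (hfixT b)]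
      congr 1
      refine (AlgHom.congr_fun hg s).trans ?_
      rw [actPt_apply, actPt_apply, ht₀l]
  -- the dense image
  let eR : R₀ ≃ₐ[k] GLin.invariants k A R :=
    (AlgEquiv.ofInjective (IsScalarTower.toAlgHom k R₀ R) hR₀i).trans (Subalgebra.equivOfEq _ _ hR₀)
  have heR : ∀ b, (eR b : R) = algebraMap R₀ R b := fun b => rfl
  let e : GLin.invariants k A R →+* T :=
    (Algebra.TensorProduct.includeRight : R₀ →ₐ[S₀] T).toRingHom.comp eR.symm.toRingEquiv.toRingHom
  have hdense : ∀ (N : ℕ) (b : R₀), ∃ s₀ : S₀, ((1 : S) ⊗ₜ[S₀] (b - algebraMap S₀ R₀ s₀)) ∈ I ^ N := by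
    intro N b
    obtain ⟨n, hn⟩ := exists_pow_orbitKer_le hG x (closed_orbit D) N
    obtain ⟨s, hs, hbs⟩ := exists_invariant_sub_mem_pow D hG n (fixed_of_range hR₀ b)
    obtain ⟨s₀, rfl⟩ := exists_of_range hS₀ hs
    refine ⟨s₀, ?_⟩
    have h1 := hn (eR (b - algebraMap S₀ R₀ s₀)) (by
      rwa [heR, map_sub, ← IsScalarTower.algebraMap_apply S₀ R₀ R, IsScalarTower.algebraMap_apply S₀ S R])
    have h2 : (RingHom.ker (x.comp (GLin.invariants k A R).val)).map e ≤ I := by
      rw [Ideal.map_le_iff_le_comap]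
      intro f hf
      rw [Ideal.mem_comap]
      have h3 : t₀ (e f) = 0 := by
        change t₀ ((1 : S) ⊗ₜ[S₀] eR.symm f) = 0
        have h4 : (f : R) = algebraMap R₀ R (eR.symm f) := by rw [← heR, AlgEquiv.apply_symm_apply]
        simp only [t₀, μ, AlgHom.comp_apply, mu_tmul, map_one, one_mul, ← h4]
        exact hf
      have h5 : e f - algebraMap k T (t₀ (e f)) ∈ I := sub_mem_orbitKer t₀ (hfixT _)
      rwa [h3, map_zero, sub_zero] at h5
    have h6 := Ideal.mem_map_of_mem e h1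
    rw [Ideal.map_pow] at h6
    have h7 := Ideal.pow_right_mono h2 N h6
    rwa [show e (eR (b - algebraMap S₀ R₀ s₀)) = (1 : S) ⊗ₜ[S₀] (b - algebraMap S₀ R₀ s₀) from
      congrArg (fun u => (1 : S) ⊗ₜ[S₀] u) (eR.symm_apply_apply _)] at h7
  have happ : ∀ (N : ℕ) (z : T), ∃ s : S, z - s ⊗ₜ[S₀] (1 : R₀) ∈ I ^ N := by
    intro N z
    induction z using TensorProduct.induction_on with
    | zero => exact ⟨0, by simp⟩
    | add y y' hy hy' =>
      obtain ⟨s, hs⟩ := hy
      obtain ⟨s', hs'⟩ := hy'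
      exact ⟨s + s', by rw [TensorProduct.add_tmul, add_sub_add_comm]; exact add_mem hs hs'⟩
    | tmul s b =>
      obtain ⟨s₀, hs₀⟩ := hdense N b
      refine ⟨s₀ • s, ?_⟩
      rw [TensorProduct.smul_tmul, ← Algebra.algebraMap_eq_smul_one, ← TensorProduct.tmul_sub,
        show s ⊗ₜ[S₀] (b - algebraMap S₀ R₀ s₀) = (s ⊗ₜ[S₀] (1 : R₀)) * ((1 : S) ⊗ₜ[S₀] (b - algebraMap S₀ R₀ s₀)) by
          simp]
      exact Ideal.mul_mem_left _ _ hs₀
  set K : Ideal T := RingHom.ker μ
  have hKI : ∀ N, ∀ z ∈ K, z ∈ I ^ N := by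
    intro N z hz
    obtain ⟨s, hs⟩ := happ N z
    have h1 : algebraMap S R s ∈ J ^ N := by
      have := Ideal.pow_right_mono (show I.map μ ≤ J from Ideal.map_le_iff_le_comap.2 fun a ha => hIJ a ha) N
        ((Ideal.map_pow μ I N).le (Ideal.mem_map_of_mem μ hs))
      rw [map_sub, RingHom.mem_ker.1 hz, zero_sub, neg_mem_iff] at this
      simpa [μ] using this
    have h2 := mem_pow_of_algebraMap_mem D N s h1
    have h3 : (s ⊗ₜ[S₀] (1 : R₀)) ∈ I ^ N := by
      have h4 : (orbitKer (A := A) (x.comp θ)).map (algebraMap S T) ≤ I :=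
        Ideal.map_le_iff_le_comap.2 fun a ha => hIl a ha
      have h5 := Ideal.mem_map_of_mem (algebraMap S T) h2
      rw [Ideal.map_pow] at h5
      exact Ideal.pow_right_mono h4 N h5
    rw [← sub_add_cancel z (s ⊗ₜ[S₀] (1 : R₀))]
    exact add_mem hs h3
  have hkill : ∀ z ∈ K, ∃ j ∈ I, (1 - j) * z = 0 := by
    intro z hz
    obtain ⟨⟨j, hj⟩, hjz⟩ := (Ideal.mem_iInf_smul_pow_eq_bot_iff I z).1 (by
      rw [Submodule.mem_iInf]
      intro i
      rw [smul_eq_mul, Ideal.mul_top]
      exact hKI i z hz)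
    refine ⟨j, hj, ?_⟩
    rw [sub_mul, one_mul, ← smul_eq_mul j z, hjz, sub_self]
  obtain ⟨gens, hgens⟩ := IsNoetherian.noetherian K
  choose j hj hjz using fun z (hz : z ∈ gens) => hkill z (hgens ▸ Submodule.subset_span hz)
  set P : T := ∏ z ∈ gens.attach, (1 - j z.1 z.2) with hP
  have hPx : t₀ P = 1 := by
    rw [hP, map_prod]
    refine Finset.prod_eq_one fun z _ => ?_
    rw [map_sub, map_one, RingHom.mem_ker.1 (orbitKer_le_ker t₀ (hj z.1 z.2)), sub_zero]
  set C : Ideal T := (⊥ : Ideal T).colon (K : Set T)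
  have hPC : P ∈ C := by
    rw [Submodule.mem_colon]
    intro z hz
    rw [SetLike.mem_coe, ← hgens] at hz
    rw [Submodule.mem_bot, smul_eq_mul]
    induction hz using Submodule.span_induction with
    | mem y hy =>
      rw [hP, ← Finset.prod_erase_mul _ _ (Finset.mem_attach _ ⟨y, hy⟩), mul_assoc, hjz y hy, mul_zero]
    | zero => simp
    | add a b _ _ ha hb => rw [mul_add, ha, hb, add_zero]
    | smul r a _ ha => rw [smul_eq_mul, mul_left_comm, ha, mul_zero]
  have hKsub : HopfRep.IsSubcomod (k := k) (A := A) (K.restrictScalars k) := isSubcomod_ker hμ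
  have hC : HopfRep.IsSubcomod (k := k) (A := A) (C.restrictScalars k) :=
    isSubcomod_colon hKsub (by rw [Submodule.restrictScalars_bot]; exact isSubcomod_bot)
  obtain ⟨c, hc, hcC, hct⟩ := LunaSurj.exists_invariant_mem hG hcl hC fun h => by
    have := h hPC
    rw [RingHom.mem_ker, hPx] at this
    exact one_ne_zero this
  obtain ⟨b, rfl⟩ := BaseChange.exists_of_fixed hfix hG (fun s hs => exists_of_range hS₀ hs) hc
  refine ⟨b, ?_, fun z hz => ?_⟩
  · simpa [t₀, μ] using hct
  · have := Submodule.mem_colon.1 hcC z hz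
    rwa [Submodule.mem_bot, smul_eq_mul] at this

end Nhd

end

end Groth.Agent.H60.LunaCart
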