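import Groth.Agent.Lib.Regular.Indep
import Mathlib.RingTheory.AdicCompletion.Algebra
import Mathlib.RingTheory.AdicCompletion.Noetherian
import Mathlib.RingTheory.Smooth.Field
import Mathlib.RingTheory.Smooth.AdicCompletion
import Mathlib.RingTheory.Kaehler.Polynomial
import Mathlib.Algebra.TrivSqZeroExt.Basic

/-!
Derivations as ring homomorphic sections of `TrivSqZeroExt`, and their extension to localizations,
adic completions and polynomial rings.
-/

set_option autoImplicit false

universe u

open TrivSqZeroExt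

namespace Groth.Agent.H60.DerSection

variable {A : Type u} [CommRing A]

/-- A section of the trivial square zero extension, that is a derivation. -/
def IsSec (h : A →+* TrivSqZeroExt A A) : Prop := ∀ x, (h x).fst = x

theorem IsSec.leibniz {h : A →+* TrivSqZeroExt A A} (hh : IsSec h) (x y : A) :
    (h (x * y)).snd = x * (h y).snd + y * (h x).snd := by
  rw [map_mul, TrivSqZeroExt.snd_mul, hh, hh, smul_eq_mul, op_smul_eq_mul]
  ring

theorem IsSec.map_sub {h : A →+* TrivSqZeroExt A A} (x y : A) :
    (h (x - y)).snd = (h x).snd - (h y).snd := by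
  rw [_root_.map_sub, TrivSqZeroExt.snd_sub]

/-- A derivation lowers adic order by at most one. -/
theorem IsSec.snd_mem {h : A →+* TrivSqZeroExt A A} (hh : IsSec h) (I : Ideal A) (n : ℕ) :
    ∀ x ∈ I ^ (n + 1), (h x).snd ∈ I ^ n := by
  induction n with
  | zero => intro x _; simp
  | succ n ih =>
    intro x hx
    rw [pow_succ] at hx
    induction hx using Submodule.mul_induction_on' with
    | mem_mul_mem a ha b hb =>
      rw [hh.leibniz]
      refine add_mem (Ideal.mul_mem_right _ _ ha) ?_
      rw [mul_comm, pow_succ]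
      exact Ideal.mul_mem_mul (ih a ha) hb
    | add a _ b _ ha hb => rw [map_add, TrivSqZeroExt.snd_add]; exact add_mem ha hb

/-- The ring homomorphism attached to an additive function satisfying the Leibniz rule. -/
noncomputable def ofLeibniz (D : A →+ A) (hD : ∀ x y, D (x * y) = x * D y + y * D x) :
    A →+* TrivSqZeroExt A A where
  toFun x := inl x + inr (D x)
  map_one' := by
    have h1 : D 1 = 0 := by simpa using hD 1 1
    simp [h1]
  map_mul' x y := by
    ext
    · simp
    · simp [hD, mul_comm]
  map_zero' := by simp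
  map_add' x y := by ext <;> simp

theorem ofLeibniz_isSec (D : A →+ A) (hD : ∀ x y, D (x * y) = x * D y + y * D x) :
    IsSec (ofLeibniz D hD) := fun x => by simp [ofLeibniz]

theorem snd_ofLeibniz (D : A →+ A) (hD : ∀ x y, D (x * y) = x * D y + y * D x) (x : A) :
    (ofLeibniz D hD x).snd = D x := by simp [ofLeibniz]

/-- Push a section to a target algebra. -/
noncomputable def push {B : Type u} [CommRing B] (f : A →+* B) :
    TrivSqZeroExt A A →+* TrivSqZeroExt B B where
  toFun z := inl (f z.fst) + inr (f z.snd)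
  map_one' := by simp
  map_mul' x y := by ext <;> simp [mul_comm]
  map_zero' := by simp
  map_add' x y := by ext <;> simp

theorem push_apply {B : Type u} [CommRing B] (f : A →+* B) (z : TrivSqZeroExt A A) :
    (push f z).fst = f z.fst ∧ (push f z).snd = f z.snd := by simp [push]

theorem exists_sec_localization {A' : Type u} [CommRing A'] [Algebra A A'] (M : Submonoid A)
    [IsLocalization M A'] (h : A →+* TrivSqZeroExt A A) (hh : IsSec h) :
    ∃ h' : A' →+* TrivSqZeroExt A' A', IsSec h' ∧
      h'.comp (algebraMap A A') = (push (algebraMap A A')).comp h := by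
  have hu : ∀ s : M, IsUnit ((push (algebraMap A A')).comp h s) := fun s => by
    rw [TrivSqZeroExt.isUnit_iff_isUnit_fst, RingHom.comp_apply, (push_apply _ _).1, hh]
    exact IsLocalization.map_units A' s
  refine ⟨IsLocalization.lift hu, ?_, IsLocalization.lift_comp hu⟩
  have e : (TrivSqZeroExt.fstHom A' A' A').toRingHom.comp (IsLocalization.lift hu) = RingHom.id A' := by
    refine IsLocalization.ringHom_ext M ?_
    ext x
    rw [RingHom.comp_apply, RingHom.comp_apply, IsLocalization.lift_eq]
    exact ((push_apply _ _).1).trans (congrArg _ (hh x))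
  exact fun x => RingHom.congr_fun e x

theorem exists_sec_completion (I : Ideal A) (h : A →+* TrivSqZeroExt A A) (hh : IsSec h) :
    ∃ h' : AdicCompletion I A →+* TrivSqZeroExt (AdicCompletion I A) (AdicCompletion I A), IsSec h' ∧
      h'.comp (algebraMap A (AdicCompletion I A)) = (push (algebraMap A (AdicCompletion I A))).comp h := by
  classical
  let Ah := AdicCompletion I A
  choose a ha using fun (x : Ah) (n : ℕ) => Ideal.Quotient.mk_surjective (AdicCompletion.evalₐ I n x)
  have key : ∀ (n : ℕ) (b c : A), Ideal.Quotient.mk (I ^ (n + 1)) b = Ideal.Quotient.mk (I ^ (n + 1)) c →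
      Ideal.Quotient.mk (I ^ n) (h b).snd = Ideal.Quotient.mk (I ^ n) (h c).snd := fun n b c e => by
    rw [Ideal.Quotient.eq] at e ⊢
    rw [← IsSec.map_sub]
    exact hh.snd_mem I n _ e
  have hfac : ∀ (x : Ah) (n : ℕ),
      Ideal.Quotient.mk (I ^ n) (a x (n + 1)) = AdicCompletion.evalₐ I n x := fun x n => by
    have : Ideal.Quotient.factor (Ideal.pow_le_pow_right n.le_succ)
        (AdicCompletion.evalₐ I (n + 1) x) = AdicCompletion.evalₐ I n x := by
      obtain ⟨s, rfl⟩ := AdicCompletion.mk_surjective I A x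
      rw [AdicCompletion.evalₐ_mk, AdicCompletion.evalₐ_mk, Ideal.Quotient.factor_mk]
      exact AdicCompletion.Ideal.mk_eq_mk I n.le_succ s
    rw [← this, ← ha, Ideal.Quotient.factor_mk]
  have hc : ∀ (x : Ah) (n : ℕ),
      (h (a x (n + 1))).snd ≡ (h (a x (n + 1 + 1))).snd [SMOD (I ^ n • ⊤ : Submodule A A)] :=
    fun x n => by
      rw [SModEq.sub_mem, smul_eq_mul, Ideal.mul_top, ← Ideal.Quotient.eq]
      exact key n _ _ ((ha x (n + 1)).trans (hfac x (n + 1)).symm)
  let D : Ah → Ah := fun x =>
    AdicCompletion.mk I A (AdicCompletion.AdicCauchySequence.mk I A (fun n => (h (a x (n + 1))).snd) (hc x))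
  have hD : ∀ (x : Ah) (n : ℕ) (b : A), AdicCompletion.evalₐ I (n + 1) x = Ideal.Quotient.mk _ b →
      AdicCompletion.evalₐ I n (D x) = Ideal.Quotient.mk _ (h b).snd := fun x n b e => by
    rw [AdicCompletion.evalₐ_mk]
    exact key n _ b ((ha x (n + 1)).trans e)
  have hDadd : ∀ x y, D (x + y) = D x + D y := fun x y => AdicCompletion.ext_evalₐ fun n => by
    rw [map_add, hD _ n (a x (n + 1) + a y (n + 1)) (by rw [map_add, map_add, ha, ha]),
      hD x n _ (ha x _).symm, hD y n _ (ha y _).symm, map_add h, TrivSqZeroExt.snd_add, map_add]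
  have hDmul : ∀ x y, D (x * y) = x * D y + y * D x := fun x y => AdicCompletion.ext_evalₐ fun n => by
    rw [map_add, map_mul, map_mul,
      hD _ n (a x (n + 1) * a y (n + 1)) (by rw [map_mul, map_mul, ha, ha]),
      hD x n _ (ha x _).symm, hD y n _ (ha y _).symm, hh.leibniz, map_add, map_mul, map_mul,
      hfac, hfac]
  refine ⟨ofLeibniz (AddMonoidHom.mk' D hDadd) hDmul, ofLeibniz_isSec _ _, RingHom.ext fun r => ?_⟩
  refine TrivSqZeroExt.ext ?_ ?_
  · rw [RingHom.comp_apply, RingHom.comp_apply, ofLeibniz_isSec, (push_apply _ _).1, hh]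
  · rw [RingHom.comp_apply, RingHom.comp_apply, snd_ofLeibniz, (push_apply _ _).2]
    refine AdicCompletion.ext_evalₐ fun n => ?_
    rw [AlgHom.commutes, Ideal.Quotient.algebraMap_eq]
    exact hD _ n r (by rw [AlgHom.commutes, Ideal.Quotient.algebraMap_eq])

theorem exists_sec_mvPolynomial {τ : Type u} (h : A →+* TrivSqZeroExt A A) (hh : IsSec h) (δ : τ → A) :
    ∃ h' : MvPolynomial τ A →+* TrivSqZeroExt (MvPolynomial τ A) (MvPolynomial τ A), IsSec h' ∧
      (∀ a, (h' (MvPolynomial.C a)).snd = MvPolynomial.C (h a).snd) ∧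
      ∀ i, (h' (MvPolynomial.X i)).snd = MvPolynomial.C (δ i) := by
  let h' := MvPolynomial.eval₂Hom ((push (MvPolynomial.C : A →+* MvPolynomial τ A)).comp h)
    (fun i => inl (MvPolynomial.X i) + inr (MvPolynomial.C (δ i)))
  refine ⟨h', ?_, fun a => ?_, fun i => ?_⟩
  · have e : (TrivSqZeroExt.fstHom A (MvPolynomial τ A) (MvPolynomial τ A)).toRingHom.comp h' =
        RingHom.id _ := by
      refine MvPolynomial.ringHom_ext (fun a => ?_) fun i => ?_
      · change (h' (MvPolynomial.C a)).fst = _
        rw [MvPolynomial.eval₂Hom_C, RingHom.comp_apply, (push_apply _ _).1, hh, RingHom.id_apply]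
      · change (h' (MvPolynomial.X i)).fst = _
        simp [h']
    exact fun x => RingHom.congr_fun e x
  · rw [MvPolynomial.eval₂Hom_C, RingHom.comp_apply, (push_apply _ _).2]
  · simp [h']

/-- The zero derivation. -/
theorem exists_sec_zero : ∃ h : A →+* TrivSqZeroExt A A, IsSec h ∧ ∀ a, (h a).snd = 0 :=
  ⟨ofLeibniz 0 (by simp), ofLeibniz_isSec _ _, fun a => by rw [snd_ofLeibniz]; rfl⟩

end Groth.Agent.H60.DerSection
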