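import Mathlib.Algebra.Category.Ring.Under.Basic

import Mathlib.CategoryTheory.Limits.Preserves.Filtered
import Mathlib.CategoryTheory.Limits.Types.Filtered
import Mathlib.RingTheory.FinitePresentation
import Mathlib.RingTheory.Etale.Basic
import Mathlib.RingTheory.Adjoin.FG
import Mathlib.Algebra.Algebra.Subalgebra.Directed

/-!
A limit preserving functor on algebras: elements come from finitely generated subalgebras; hence
approximating solutions of polynomial equations approximates elements of the functor.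
-/

set_option autoImplicit false
set_option linter.style.haveILetI false
universe u

open CategoryTheory CategoryTheory.Limits MvPolynomial

namespace Groth.Agent.H60.FPColim

variable {A : Type u} [CommRing A]

/-- An algebra as an object under the base. -/
abbrev ob (C : Type u) [CommRing C] [Algebra A C] : Under (CommRingCat.of A) :=
  Under.mk (CommRingCat.ofHom (algebraMap A C))

/-- An algebra map as a morphism under the base. -/
def hom {C D : Type u} [CommRing C] [Algebra A C] [CommRing D] [Algebra A D] (f : C →ₐ[A] D) :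
    ob (A := A) C ⟶ ob (A := A) D :=
  Under.homMk (CommRingCat.ofHom f.toRingHom) (by ext a; exact f.commutes a)

theorem hom_comp {C D E : Type u} [CommRing C] [Algebra A C] [CommRing D] [Algebra A D] [CommRing E]
    [Algebra A E] (f : C →ₐ[A] D) (g : D →ₐ[A] E) : hom (g.comp f) = hom f ≫ hom g := rfl

variable (C : Type u) [CommRing C] [Algebra A C]

/-- The finitely generated subalgebras. -/
abbrev Idx : Type u := {N : Subalgebra A C // N.FG}

instance : Nonempty (Idx (A := A) C) := ⟨⟨⊥, Subalgebra.fg_bot⟩⟩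

instance : IsDirectedOrder (Idx (A := A) C) :=
  ⟨fun N M ↦ ⟨⟨N.1 ⊔ M.1, N.2.sup M.2⟩, le_sup_left (a := N.1), le_sup_right (b := M.1)⟩⟩

/-- The diagram of finitely generated subalgebras. -/
noncomputable def diag : Idx (A := A) C ⥤ Under (CommRingCat.of A) where
  obj N := ob (A := A) N.1
  map h := hom (Subalgebra.inclusion h.le)

/-- The algebra as a cocone. -/
noncomputable def cocone : Cocone (diag (A := A) C) where
  pt := ob (A := A) C
  ι := { app := fun N ↦ hom N.1.val }

theorem iSup_eq_top : ⨆ N : Idx (A := A) C, N.1 = ⊤ := by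
  refine top_le_iff.1 fun x _ ↦ ?_
  exact (le_iSup (fun N : Idx (A := A) C ↦ N.1) ⟨Algebra.adjoin A {x}, ⟨{x}, by simp⟩⟩)
    (Algebra.self_mem_adjoin_singleton A x)

/-- The subalgebra generated by an element. -/
def single (x : C) : Idx (A := A) C := ⟨Algebra.adjoin A {x}, ⟨{x}, by simp⟩⟩

theorem mem_idx (x : C) : x ∈ (single (A := A) C x).1 :=
  Algebra.self_mem_adjoin_singleton A x

variable {C} in
/-- Compatible maps out of the finitely generated subalgebras glue. -/
theorem exists_glue {B : Type u} [CommRing B] [Algebra A B] (f : ∀ N : Idx (A := A) C, N.1 →ₐ[A] B)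
    (hf : ∀ (N M : Idx (A := A) C) (h : N.1 ≤ M.1), f N = (f M).comp (Subalgebra.inclusion h)) :
    ∃ g : C →ₐ[A] B, ∀ (N : Idx (A := A) C) (x : N.1), g x = f N x := by
  have hdir : Directed (· ≤ ·) fun N : Idx (A := A) C ↦ N.1 := fun N M ↦
    ⟨⟨N.1 ⊔ M.1, N.2.sup M.2⟩, le_sup_left, le_sup_right⟩
  refine ⟨(Subalgebra.iSupLift (fun N : Idx (A := A) C ↦ N.1) hdir f hf ⊤ (iSup_eq_top C).ge).comp
    Subalgebra.topEquiv.symm.toAlgHom, fun N x ↦ ?_⟩
  exact Subalgebra.iSupLift_mk (fun N : Idx (A := A) C ↦ N.1) (dir := hdir) (hf := hf) x Algebra.mem_top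

/-- The algebra is the colimit of its finitely generated subalgebras. -/
noncomputable def isColimit : IsColimit (cocone (A := A) C) :=
  IsColimit.ofExistsUnique fun s ↦ by
    letI : Algebra A s.pt.right := s.pt.hom.hom.toAlgebra
    let f : ∀ N : Idx (A := A) C, N.1 →ₐ[A] s.pt.right := fun N ↦
      { (s.ι.app N).right.hom with
        commutes' := fun a ↦ ConcreteCategory.congr_hom (Under.w (s.ι.app N)) a }
    obtain ⟨g, hg⟩ := exists_glue (B := s.pt.right) f fun N M h ↦ AlgHom.ext fun x ↦
      (ConcreteCategory.congr_hom (congrArg CommaMorphism.right (s.w (homOfLE h))) x).symm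
    refine ⟨Under.homMk (CommRingCat.ofHom g.toRingHom) (by ext a; exact g.commutes a), fun N ↦ ?_,
      fun m hm ↦ ?_⟩
    · ext x
      exact hg N x
    · ext x
      refine Eq.trans ?_ (hg (single C x) ⟨x, mem_idx C x⟩).symm
      exact ConcreteCategory.congr_hom (congrArg CommaMorphism.right (hm (single C x)))
        (⟨x, mem_idx C x⟩ : (single C x).1)

variable {C}

/-- Elements come from finitely generated subalgebras. -/
theorem exists_mem (F : Under (CommRingCat.of A) ⥤ Type u)
    (hF : ∀ (J : Type u) [SmallCategory J] [IsFiltered J], PreservesColimitsOfShape J F)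
    (ξ : F.obj (ob (A := A) C)) :
    ∃ (N : Idx (A := A) C) (η : F.obj (ob (A := A) N.1)), F.map (hom N.1.val) η = ξ := by
  have := hF (Idx (A := A) C)
  obtain ⟨N, η, h⟩ := Types.jointly_surjective _ (isColimitOfPreserves F (isColimit (A := A) C)) ξ
  exact ⟨N, η, h⟩

/-- Approximating solutions of equations approximates elements of the functor. -/
theorem exists_approx [IsNoetherianRing A] (F : Under (CommRingCat.of A) ⥤ Type u)
    (hF : ∀ (J : Type u) [SmallCategory J] [IsFiltered J], PreservesColimitsOfShape J F)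
    {T : Type u} [CommRing T] [Algebra A T] (e : C →ₐ[A] T) (ξ : F.obj (ob (A := A) C))
    (happ : ∀ (n m : ℕ) (P : Fin m → MvPolynomial (Fin n) A) (a : Fin n → C),
      (∀ j, aeval a (P j) = 0) →
      ∃ (R' : Type u) (_ : CommRing R') (_ : Algebra A R') (_ : Algebra.Etale A R') (ψ : R' →ₐ[A] T)
        (b : Fin n → R'), (∀ j, aeval b (P j) = 0) ∧ ∀ i, e (a i) = ψ (b i)) :
    ∃ (R' : Type u) (_ : CommRing R') (_ : Algebra A R') (_ : Algebra.Etale A R') (ψ : R' →ₐ[A] T)
      (ξ' : F.obj (ob (A := A) R')), F.map (hom ψ) ξ' = F.map (hom e) ξ := by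
  obtain ⟨⟨N, hN⟩, η, rfl⟩ := exists_mem F hF ξ
  have : Algebra.FiniteType A N := (Subalgebra.fg_iff_finiteType N).1 hN
  have : Algebra.FinitePresentation A N := Algebra.FinitePresentation.of_finiteType.1 inferInstance
  obtain ⟨n, f, hf, hker⟩ := Algebra.FinitePresentation.out (R := A) (A := N)
  obtain ⟨m, P, hP⟩ := Submodule.fg_iff_exists_fin_generating_family.1 hker
  have hmem : ∀ j, P j ∈ RingHom.ker f := fun j ↦ hP ▸ Submodule.subset_span ⟨j, rfl⟩
  have hfX : ∀ p, aeval (fun i ↦ f (X i)) p = f p := fun p ↦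
    DFunLike.congr_fun (aeval_unique f).symm p
  obtain ⟨R', _, _, het, ψ, b, hb, hab⟩ := happ n m P (fun i ↦ (f (X i) : C)) fun j ↦ by
    have h := comp_aeval_apply (f := fun i ↦ f (X i)) (φ := N.val) (P j)
    rw [hfX, show f (P j) = 0 from hmem j, map_zero] at h
    exact h.symm
  have hle : RingHom.ker f ≤ RingHom.ker (aeval b : MvPolynomial (Fin n) A →ₐ[A] R') :=
    hP.ge.trans (Submodule.span_le.2 (Set.range_subset_iff.2 hb))
  let σ : N →ₐ[A] R' := (Ideal.Quotient.liftₐ _ (aeval b) hle).comp
    (Ideal.quotientKerAlgEquivOfSurjective hf).symm.toAlgHom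
  have hσ : σ.comp f = aeval b := by
    refine AlgHom.ext fun p ↦ ?_
    have : (Ideal.quotientKerAlgEquivOfSurjective hf).symm (f p) = Ideal.Quotient.mk _ p :=
      (AlgEquiv.symm_apply_eq _).2 rfl
    exact (congrArg (Ideal.Quotient.liftₐ _ (aeval b) hle) this).trans rfl
  have hcomp : ψ.comp σ = e.comp N.val := by
    refine AlgHom.ext fun z ↦ ?_
    obtain ⟨p, rfl⟩ := hf z
    refine DFunLike.congr_fun (MvPolynomial.algHom_ext (f := (ψ.comp σ).comp f)
      (g := (e.comp N.val).comp f) fun i ↦ ?_) p
    change ψ (σ (f (X i))) = e (f (X i) : C)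
    rw [hab i, ← show σ (f (X i)) = b i from (DFunLike.congr_fun hσ (X i)).trans (aeval_X b i)]
  refine ⟨R', inferInstance, inferInstance, het, ψ, F.map (hom σ) η, ?_⟩
  rw [← Functor.map_comp_apply, ← Functor.map_comp_apply, ← hom_comp, ← hom_comp, hcomp]

end Groth.Agent.H60.FPColim
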