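import Groth.Prelude.Def_GLin6
import Mathlib.Data.Nat.Choose.Multinomial
import Mathlib.RingTheory.MvPolynomial.Homogeneous

/-!
# Points of the matrix monoid act on forms by substitution
-/

set_option autoImplicit false
universe u v
open TensorProduct MvPolynomial
namespace Groth.Agent.H60.FormSubst

noncomputable section

variable {n : ℕ} {B : Type v} [CommRing B]

/-- The substitution `X j ↦ Σ i, g j i X i`. -/
def sub (g : Matrix (Fin n) (Fin n) B) : MvPolynomial (Fin n) B →ₐ[B] MvPolynomial (Fin n) B :=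
  MvPolynomial.aeval fun j => ∑ i, MvPolynomial.C (g j i) * MvPolynomial.X i

theorem sub_X (g : Matrix (Fin n) (Fin n) B) (j : Fin n) :
    sub g (MvPolynomial.X j) = ∑ i, MvPolynomial.C (g j i) * MvPolynomial.X i := MvPolynomial.aeval_X _ _

theorem sub_comp (g h : Matrix (Fin n) (Fin n) B) (F : MvPolynomial (Fin n) B) :
    sub h (sub g F) = sub (g * h) F := by
  change ((sub h).comp (sub g)) F = _
  congr 1
  refine MvPolynomial.algHom_ext fun j => ?_
  simp only [AlgHom.comp_apply, sub_X, map_sum, map_mul, AlgHom.commutes, ← MvPolynomial.algebraMap_eq,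
    Matrix.mul_apply, Finset.mul_sum, Finset.sum_mul, mul_assoc]
  exact Finset.sum_comm

theorem sub_one (F : MvPolynomial (Fin n) B) : sub (1 : Matrix (Fin n) (Fin n) B) F = F := by
  conv_rhs => rw [← AlgHom.id_apply (R := B) F]
  congr 1
  refine MvPolynomial.algHom_ext fun j => ?_
  simp [sub_X, Matrix.one_apply, apply_ite (MvPolynomial.C : B → MvPolynomial (Fin n) B), ite_mul]

theorem sub_injective {g : Matrix (Fin n) (Fin n) B} (hg : IsUnit g.det) : Function.Injective (sub g) :=
  Function.LeftInverse.injective (g := sub g⁻¹) fun F => by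
    rw [sub_comp, Matrix.mul_nonsing_inv g hg, sub_one]

theorem sub_map {B' : Type*} [CommRing B'] (φ : B →+* B') (g : Matrix (Fin n) (Fin n) B)
    (F : MvPolynomial (Fin n) B) :
    MvPolynomial.map φ (sub g F) = sub (g.map φ) (MvPolynomial.map φ F) := by
  induction F using MvPolynomial.induction_on with
  | C b => simp [sub]
  | add p q hp hq => simp only [map_add, hp, hq]
  | mul_X p i hp => simp only [map_mul, hp, MvPolynomial.map_X, sub_X, map_sum, MvPolynomial.map_C, Matrix.map_apply]

theorem coeff_sub_diagonal (d : Fin n → B) (F : MvPolynomial (Fin n) B) (e : Fin n →₀ ℕ) :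
    (sub (Matrix.diagonal d) F).coeff e = (∏ i, d i ^ e i) * F.coeff e := by
  classical
  have hX : ∀ j, sub (Matrix.diagonal d) (MvPolynomial.X j) = MvPolynomial.C (d j) * MvPolynomial.X j := fun j => by
    rw [sub_X, Finset.sum_eq_single j (fun i _ hi => by simp [Matrix.diagonal_apply_ne' d hi])
      (fun h => absurd (Finset.mem_univ j) h), Matrix.diagonal_apply_eq]
  have hm : ∀ (s : Fin n →₀ ℕ) (c : B), sub (Matrix.diagonal d) (MvPolynomial.monomial s c) =
      MvPolynomial.monomial s ((∏ i, d i ^ s i) * c) := fun s c => by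
    rw [MvPolynomial.monomial_eq, Finsupp.prod_fintype _ _ (fun i => pow_zero _), MvPolynomial.monomial_eq,
      Finsupp.prod_fintype _ _ (fun i => pow_zero _), map_mul, ← MvPolynomial.algebraMap_eq, AlgHom.commutes]
    simp only [map_prod, map_pow, hX, mul_pow, Finset.prod_mul_distrib, map_mul, MvPolynomial.algebraMap_eq]
    ring
  induction F using MvPolynomial.induction_on' with
  | add p q hp hq => rw [map_add, MvPolynomial.coeff_add, MvPolynomial.coeff_add, hp, hq, mul_add]
  | monomial s c =>
    rw [hm, MvPolynomial.coeff_monomial, MvPolynomial.coeff_monomial]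
    split_ifs with h
    · rw [h]
    · rw [mul_zero]

theorem isHomogeneous_sub (g : Matrix (Fin n) (Fin n) B) {F : MvPolynomial (Fin n) B} {d : ℕ}
    (hF : F.IsHomogeneous d) : (sub g F).IsHomogeneous d := by
  have := hF.aeval (g := fun j => ∑ i, MvPolynomial.C (g j i) * MvPolynomial.X i) (n := 1) fun j =>
    MvPolynomial.IsHomogeneous.sum _ _ _ fun i _ => (MvPolynomial.isHomogeneous_C_mul_X _ _)
  rwa [one_mul] at this

/-- The multinomial theorem indexed by exponent vectors. -/
theorem sum_pow_eq {S : Type*} [CommSemiring S] (z : Fin n → S) (d : ℕ) :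
    (∑ i, z i) ^ d = ∑ m : CoordGrp.FormIdx n d, (m.1.multinomial : S) * ∏ i, z i ^ m.1 i := by
  classical
  rw [Finset.sum_pow_eq_sum_piAntidiag]
  have hmem : ∀ f ∈ Finset.piAntidiag (Finset.univ : Finset (Fin n)) d,
      (Finsupp.equivFunOnFinite.symm f).degree = d := fun f hf => by
    rw [Finsupp.degree_eq_sum]
    simpa using (Finset.mem_piAntidiag.1 hf).1
  refine Finset.sum_bij (fun f hf => ⟨Finsupp.equivFunOnFinite.symm f, hmem f hf⟩) (fun f hf => Finset.mem_univ _)
    (fun f _ g _ h => Finsupp.equivFunOnFinite.symm.injective (congrArg Subtype.val h)) (fun m _ => ?_) (fun f hf => ?_)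
  · refine ⟨⇑m.1, Finset.mem_piAntidiag.2 ⟨?_, fun i _ => Finset.mem_univ i⟩, Subtype.ext (by simp)⟩
    exact (Finsupp.degree_eq_sum m.1).symm.trans m.2
  · dsimp only
    rw [← Finsupp.multinomial_of_support_subset (Finset.subset_univ _)]
    rfl

variable {k : Type u} [CommRing k] [Algebra k B]

/-- The matrix of a point. -/
def matOf (χ : CoordGrp.Mat n k →ₐ[k] B) : Matrix (Fin n) (Fin n) B := fun i j => χ (CoordGrp.Mat.X i j)

/-- Evaluation of the right factor at a point. -/
def evR (χ : CoordGrp.Mat n k →ₐ[k] B) :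
    MvPolynomial (Fin n) k ⊗[k] CoordGrp.Mat n k →ₐ[k] MvPolynomial (Fin n) B :=
  Algebra.TensorProduct.lift (MvPolynomial.aeval fun i => MvPolynomial.X i)
    ((IsScalarTower.toAlgHom k B (MvPolynomial (Fin n) B)).comp χ) fun _ _ => Commute.all _ _

theorem evR_tmul (χ : CoordGrp.Mat n k →ₐ[k] B) (p : MvPolynomial (Fin n) k) (a : CoordGrp.Mat n k) :
    evR χ (p ⊗ₜ a) = MvPolynomial.map (algebraMap k B) p * MvPolynomial.C (χ a) := by
  rw [evR, Algebra.TensorProduct.lift_tmul, AlgHom.comp_apply, IsScalarTower.coe_toAlgHom',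
    MvPolynomial.algebraMap_eq]
  congr 1
  induction p using MvPolynomial.induction_on with
  | C c => simp [IsScalarTower.algebraMap_apply k B (MvPolynomial (Fin n) B)]
  | add p q hp hq => simp only [map_add, hp, hq]
  | mul_X p i hp => simp only [map_mul, hp, MvPolynomial.aeval_X, MvPolynomial.map_X]

theorem coeff_evR (χ : CoordGrp.Mat n k →ₐ[k] B) (l : Fin n →₀ ℕ)
    (w : MvPolynomial (Fin n) k ⊗[k] CoordGrp.Mat n k) :
    (evR χ w).coeff l = χ (CoordGrp.coeffT (k := k) l w) := by
  induction w using TensorProduct.induction_on with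
  | zero => simp
  | tmul p a =>
    rw [evR_tmul, CoordGrp.coeffT_tmul, mul_comm, MvPolynomial.coeff_C_mul, MvPolynomial.coeff_map, map_smul,
      Algebra.smul_def, mul_comm]
  | add x y hx hy => simp only [map_add, MvPolynomial.coeff_add, hx, hy]

theorem formCoeff_eval (χ : CoordGrp.Mat n k →ₐ[k] B) (d : ℕ) (l m : CoordGrp.FormIdx n d) :
    χ (CoordGrp.formCoeff k n d l m) =
      (∏ i, (∑ j, MvPolynomial.C (matOf χ j i) * MvPolynomial.X j : MvPolynomial (Fin n) B) ^ m.1 i).coeff l.1 := by
  rw [CoordGrp.formCoeff, ← coeff_evR, MvPolynomial.monomial_eq, map_one, one_mul,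
    Finsupp.prod_fintype _ _ (fun i => pow_zero _)]
  simp only [map_prod, map_pow, CoordGrp.stdCoactAlg_X, map_sum, evR_tmul, MvPolynomial.map_X]
  refine congrArg (MvPolynomial.coeff l.1) (Finset.prod_congr rfl fun i _ => ?_)
  refine congrArg (· ^ m.1 i) (Finset.sum_congr rfl fun j _ => ?_)
  rw [mul_comm]
  rfl

/-- The form of a moved point is the substituted form. -/
theorem formPoly_move (χ : CoordGrp.Mat n k →ₐ[k] B) {d : ℕ} (a : CoordGrp.FormIdx n d → k)
    (a' : CoordGrp.FormIdx n d → B)
    (ha' : ∀ m, a' m = ∑ l, algebraMap k B (a l) * χ (CoordGrp.formCoeff k n d l m)) :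
    CoordGrp.formPoly a' = sub (matOf χ) (MvPolynomial.map (algebraMap k B) (CoordGrp.formPoly a)) := by
  classical
  let Y : Fin n → MvPolynomial (Fin n) B := MvPolynomial.X
  let L : Fin n → MvPolynomial (Fin n) B := fun i => ∑ j, MvPolynomial.C (matOf χ j i) * MvPolynomial.X j
  let G : Fin n → MvPolynomial (Fin n) B := fun j => ∑ i, MvPolynomial.C (matOf χ j i) * Y i
  have hmon : ∀ (s : Fin n →₀ ℕ), (∏ i, (MvPolynomial.X i : MvPolynomial (Fin n) B) ^ s i) = MvPolynomial.monomial s 1 := fun s => by
    rw [MvPolynomial.monomial_eq, map_one, one_mul, Finsupp.prod_fintype _ _ (fun i => pow_zero _)]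
  have key : ∀ l : CoordGrp.FormIdx n d,
      ∑ m : CoordGrp.FormIdx n d, MvPolynomial.monomial m.1
          ((m.1.multinomial : B) * χ (CoordGrp.formCoeff k n d l m)) =
        MvPolynomial.C (l.1.multinomial : B) * ∏ j, G j ^ l.1 j := by
    intro l
    -- compute the coefficient of `X^l` in `(Σ Y_i L_i)^d = (Σ G_j X_j)^d` in two ways
    let ι : MvPolynomial (Fin n) B →+* MvPolynomial (Fin n) (MvPolynomial (Fin n) B) :=
      MvPolynomial.map MvPolynomial.C
    have hsum : (∑ i, MvPolynomial.C (Y i) * ι (L i)) = ∑ j, MvPolynomial.C (G j) * MvPolynomial.X j := by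
      simp only [ι, L, G, map_sum, map_mul, MvPolynomial.map_C, MvPolynomial.map_X, Finset.mul_sum, Finset.sum_mul]
      rw [Finset.sum_comm]
      exact Finset.sum_congr rfl fun j _ => Finset.sum_congr rfl fun i _ => by ring
    have h1 := congrArg (fun P => MvPolynomial.coeff l.1 (P ^ d)) hsum
    simp only [sum_pow_eq, MvPolynomial.coeff_sum, mul_pow, Finset.prod_mul_distrib, ← map_pow, ← map_prod,
      ← map_natCast (MvPolynomial.C : MvPolynomial (Fin n) B →+* MvPolynomial (Fin n) (MvPolynomial (Fin n) B)),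
      ← mul_assoc, ← map_mul, MvPolynomial.coeff_C_mul, ι, MvPolynomial.coeff_map] at h1
    have hXc : ∀ m : CoordGrp.FormIdx n d,
        MvPolynomial.coeff l.1 (∏ i, (MvPolynomial.X i : MvPolynomial (Fin n) (MvPolynomial (Fin n) B)) ^ m.1 i) =
          if m = l then 1 else 0 := fun m => by
      rw [show (∏ i, (MvPolynomial.X i : MvPolynomial (Fin n) (MvPolynomial (Fin n) B)) ^ m.1 i) = MvPolynomial.monomial m.1 1 by
        rw [MvPolynomial.monomial_eq, map_one, one_mul, Finsupp.prod_fintype _ _ (fun i => pow_zero _)],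
        MvPolynomial.coeff_monomial]
      by_cases h : m = l
      · subst h; simp
      · rw [if_neg h, if_neg fun h' => h (Subtype.ext h')]
    simp only [hXc, mul_ite, mul_one, mul_zero, Finset.sum_ite_eq', Finset.mem_univ, if_true] at h1
    rw [map_natCast, ← h1]
    refine Finset.sum_congr rfl fun m _ => ?_
    rw [formCoeff_eval]
    change _ = (m.1.multinomial : MvPolynomial (Fin n) B) * (∏ i, (MvPolynomial.X i : MvPolynomial (Fin n) B) ^ m.1 i) *
      MvPolynomial.C (MvPolynomial.coeff l.1 (∏ i, L i ^ m.1 i))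
    rw [hmon, ← map_natCast (MvPolynomial.C : B →+* MvPolynomial (Fin n) B), MvPolynomial.C_mul_monomial,
      mul_comm _ (MvPolynomial.C _), MvPolynomial.C_mul_monomial, mul_one, mul_comm]
  calc CoordGrp.formPoly a' = ∑ l : CoordGrp.FormIdx n d, MvPolynomial.C (algebraMap k B (a l)) *
        ∑ m : CoordGrp.FormIdx n d, MvPolynomial.monomial m.1 ((m.1.multinomial : B) * χ (CoordGrp.formCoeff k n d l m)) := by
        simp only [CoordGrp.formPoly, ha', Finset.mul_sum, map_sum]
        rw [Finset.sum_comm]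
        refine Finset.sum_congr rfl fun l _ => Finset.sum_congr rfl fun m _ => ?_
        rw [MvPolynomial.C_mul_monomial]
        congr 1
        ring
    _ = _ := by
        simp only [key, CoordGrp.formPoly, map_sum, MvPolynomial.map_monomial, map_mul, map_natCast]
        refine Finset.sum_congr rfl fun l _ => ?_
        rw [MvPolynomial.monomial_eq, Finsupp.prod_fintype _ _ (fun i => pow_zero _), map_mul, map_prod]
        simp only [map_pow, sub_X, G, Y, map_natCast, map_mul, ← MvPolynomial.algebraMap_eq, AlgHom.commutes]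
        ring

end

end Groth.Agent.H60.FormSubst
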