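import Groth.Agent.H60.HopfMod
import Groth.Agent.Lib.Comod.Orbits
import Mathlib.RingTheory.Ideal.Cotangent
import Mathlib.RingTheory.Ideal.Quotient.Operations
import Mathlib.RingTheory.Finiteness.Nakayama

/-!
Equivariant modules restricted to a free closed orbit.
-/

universe u v w w'

open TensorProduct Groth.Agent.Lib.Comod.Basic Groth.Agent.Lib.Comod.Reynolds
  Groth.Agent.Lib.Comod.Alg Groth.Agent.Lib.Comod.Orbits

namespace Groth.Agent.H60.FreeOrbit

set_option linter.unusedSectionVars false
set_option linter.style.haveILetI false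

noncomputable section

variable {k : Type u} [Field k] {A : Type v} [CommRing A] [HopfAlgebra k A]
variable {R : Type w} [CommRing R] [Algebra k R] [HopfRep.Comod k A R] [GLin.IsCoactAlg k A R]

theorem dact_regular (ψ χ : A →ₗ[k] k) (a : A) : ψ (dact A χ a) = conv ψ χ a := by
  simp only [dact_apply, conv, LinearMap.comp_apply]
  change ψ (contract A χ (CoalgebraStruct.comul (R := k) a)) = _
  induction CoalgebraStruct.comul (R := k) (A := A) a using TensorProduct.induction_on with
  | zero => simp
  | tmul b c => simp [mul_comm]
  | add b c hb hc => simp only [map_add, hb, hc]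

theorem isComodHom_orbitHom (x : R →ₐ[k] k) :
    Hoch.IsComodHom A (GLin.orbitHom k A x).toLinearMap := by
  refine (isComodHom_iff _).2 fun χ f => ?_
  refine (Module.Free.chooseBasis k A).repr.injective (Finsupp.ext fun i => ?_)
  change (Module.Free.chooseBasis k A).coord i _ = (Module.Free.chooseBasis k A).coord i _
  rw [AlgHom.toLinearMap_apply, apply_orbitHom, dact_regular, AlgHom.toLinearMap_apply,
    apply_orbitHom, dact_dact]

variable {M : Type w'} [AddCommGroup M] [Module k M] [Module R M] [IsScalarTower k R M]
  [HopfRep.Comod k A M] [TameAct.IsHopfMod k A R M]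

/-- Equivariant submodules: the induced coaction is compatible with the module structure. -/
theorem isHopfMod_sub (P : Submodule R M)
    (hP : HopfRep.IsSubcomod (k := k) (A := A) (P.restrictScalars k))
    [HopfRep.Comod k A P] (hincl : Hoch.IsComodHom A (P.subtype.restrictScalars k)) :
    TameAct.IsHopfMod k A R P := by
  refine ⟨fun b m => ?_⟩
  apply Module.Flat.rTensor_preserves_injective_linearMap (M := A) (P.subtype.restrictScalars k)
    P.injective_subtype
  have h1 := LinearMap.congr_fun hincl (b • m)
  have h2 := LinearMap.congr_fun hincl m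
  simp only [LinearMap.comp_apply] at h1 h2
  rw [← h1]
  change HopfRep.Comod.coact (k := k) (A := A) (b • (m : M)) = _
  rw [coact_smul, show HopfRep.Comod.coact (k := k) (A := A) (m : M) = _ from h2]
  generalize HopfRep.Comod.coact (k := k) (A := A) m = y
  induction HopfRep.Comod.coact (k := k) (A := A) b using TensorProduct.induction_on with
  | zero => simp
  | add x x' hx hx' => simp only [map_add, LinearMap.add_apply, hx, hx']
  | tmul r a =>
    induction y using TensorProduct.induction_on with
    | zero => simp
    | add y y' hy hy' => simp only [map_add, hy, hy']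
    | tmul n c => simp

variable (x : R →ₐ[k] k) (hx : Function.Surjective (GLin.orbitHom k A x))

/-- The submodule cut out by the orbit. -/
abbrev orbSub (M : Type w') [AddCommGroup M] [Module R M] : Submodule R M :=
  (orbitKer (A := A) x) • ⊤

omit [GLin.IsCoactAlg k A R] in
theorem isSubcomod_smul_top (I : Ideal R)
    (hI : HopfRep.IsSubcomod (k := k) (A := A) (I.restrictScalars k)) :
    HopfRep.IsSubcomod (k := k) (A := A) ((I • ⊤ : Submodule R M).restrictScalars k) := by
  intro y hy
  rw [Submodule.restrictScalars_mem] at hy
  refine Submodule.smul_induction_on (p := fun y => HopfRep.Comod.coact (k := k) (A := A) y ∈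
      LinearMap.range ((((I • ⊤ : Submodule R M)).restrictScalars k).subtype.rTensor A)) hy ?_ ?_
  · intro r hr m _
    have hP : ∀ r' ∈ I.restrictScalars k, ∀ m' ∈ (⊤ : Submodule k M),
        r' • m' ∈ (I • ⊤ : Submodule R M).restrictScalars k := by
      intro r' hr' m' _
      rw [Submodule.restrictScalars_mem] at hr' ⊢
      exact Submodule.smul_mem_smul hr' Submodule.mem_top
    have hr' : r ∈ I.restrictScalars k := (Submodule.restrictScalars_mem k I r).2 hr
    exact coact_smul_mem (k := k) (A := A) (R := R) (M := M) (U := I.restrictScalars k)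
      (W := (⊤ : Submodule k M)) hI isSubcomod_top hP hr' Submodule.mem_top
  · intro y z hy hz
    rw [map_add]; exact add_mem hy hz

theorem isSubcomod_orbSub :
    HopfRep.IsSubcomod (k := k) (A := A) ((orbSub (A := A) x M).restrictScalars k) :=
  isSubcomod_smul_top _ (isSubcomod_orbitKer x)

variable (M) in
/-- The coaction on the restriction to the orbit. -/
@[reducible] def restrComod : HopfRep.Comod k A (M ⧸ orbSub (A := A) x M) :=
  letI := quotComod _ (isSubcomod_orbSub (M := M) (A := A) x)
  equivComod (Submodule.Quotient.restrictScalarsEquiv k (orbSub (A := A) x M))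

theorem isComodHom_restr_mk :
    letI := restrComod M (A := A) x
    Hoch.IsComodHom A ((orbSub (A := A) x M).mkQ.restrictScalars k) := by
  letI := quotComod _ (isSubcomod_orbSub (M := M) (A := A) x)
  letI := restrComod M (A := A) x
  have h := isComodHom_comp (isComodHom_mkQ (isSubcomod_orbSub (M := M) (A := A) x))
    (isComodHom_equiv (A := A) (Submodule.Quotient.restrictScalarsEquiv k (orbSub (A := A) x M)))
  refine (isComodHom_iff _).2 fun φ v => ?_
  exact map_dact h φ v

/-- The functions on the orbit. -/
abbrev orbEquiv : (R ⧸ orbitKer (A := A) x) ≃+* A :=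
  RingHom.quotientKerEquivOfSurjective (f := (GLin.orbitHom k A x).toRingHom) hx

variable (M) in
/-- The module structure over the coordinate ring of the group on the restriction to the orbit. -/
@[reducible] def restrModule : Module A (M ⧸ orbSub (A := A) x M) :=
  Module.compHom _ (orbEquiv x hx).symm.toRingHom

theorem orbitHom_smul (r : R) (q : M ⧸ orbSub (A := A) x M) :
    letI := restrModule M x hx
    GLin.orbitHom k A x r • q = r • q := by
  change (orbEquiv x hx).symm (GLin.orbitHom k A x r) • q = r • q
  have h : (orbEquiv x hx).symm (GLin.orbitHom k A x r) = Ideal.Quotient.mk _ r :=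
    (orbEquiv x hx).injective (by rw [RingEquiv.apply_symm_apply]; rfl)
  rw [h]
  rfl

theorem restr_scalarTower :
    letI := restrModule M x hx
    IsScalarTower k A (M ⧸ orbSub (A := A) x M) := by
  letI := restrModule M x hx
  refine ⟨fun c a q => ?_⟩
  obtain ⟨r, rfl⟩ := hx a
  rw [← map_smul, orbitHom_smul x hx, orbitHom_smul x hx, smul_assoc]

theorem restr_isHopfMod :
    letI := restrModule M x hx
    letI := restrComod M (A := A) x
    haveI := restr_scalarTower (M := M) x hx
    TameAct.IsHopfMod k A A (M ⧸ orbSub (A := A) x M) := by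
  letI := restrModule M x hx
  letI := restrComod M (A := A) x
  haveI := restr_scalarTower (M := M) x hx
  refine ⟨fun a q => ?_⟩
  obtain ⟨r, rfl⟩ := hx a
  obtain ⟨m, rfl⟩ := (orbSub (A := A) x M).mkQ_surjective q
  rw [orbitHom_smul x hx, ← map_smul]
  have h1 := LinearMap.congr_fun (isComodHom_restr_mk (M := M) (A := A) x) (r • m)
  have h2 := LinearMap.congr_fun (isComodHom_restr_mk (M := M) (A := A) x) m
  have h3 := LinearMap.congr_fun (isComodHom_orbitHom (A := A) x) r
  simp only [LinearMap.comp_apply, LinearMap.restrictScalars_apply, AlgHom.toLinearMap_apply] at h1 h2 h3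
  rw [h1, h2, h3, coact_smul]
  generalize HopfRep.Comod.coact (k := k) (A := A) m = y
  induction HopfRep.Comod.coact (k := k) (A := A) r using TensorProduct.induction_on with
  | zero => simp
  | add z z' hz hz' => simp only [map_add, LinearMap.add_apply, hz, hz']
  | tmul r' a' =>
    induction y using TensorProduct.induction_on with
    | zero => simp
    | add y y' hy hy' => simp only [map_add, hy, hy']
    | tmul n c => simp [orbitHom_smul x hx]

include hx in
/-- Invariants generate along a free closed orbit. -/
theorem span_fixed_sup_eq_top (hG : HopfRep.IsLinearlyReductive k A) :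
    Submodule.span R (HopfRep.fixedPts k A M : Set M) ⊔ orbSub (A := A) x M = ⊤ := by
  letI := restrModule M x hx
  letI := restrComod M (A := A) x
  haveI := restr_scalarTower (M := M) x hx
  haveI := restr_isHopfMod (M := M) x hx
  refine eq_top_iff.2 fun m _ => ?_
  suffices (orbSub (A := A) x M).mkQ m ∈
      (Submodule.span R (HopfRep.fixedPts k A M : Set M)).map (orbSub (A := A) x M).mkQ by
    obtain ⟨n, hn, hnm⟩ := this
    rw [← sub_add_cancel m n, add_comm]
    exact Submodule.add_mem_sup hn ((Submodule.Quotient.eq _).1 hnm.symm)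
  rw [← HopfMod.sum_smul_P (k := k) (A := A) _ ((orbSub (A := A) x M).mkQ m)]
  induction HopfRep.Comod.coact (k := k) (A := A) ((orbSub (A := A) x M).mkQ m)
    using TensorProduct.induction_on with
  | zero => simp
  | add z z' hz hz' => simp only [map_add]; exact add_mem hz hz'
  | tmul n a =>
    obtain ⟨r, rfl⟩ := hx a
    rw [LinearMap.rTensor_tmul, HopfMod.sm_tmul, orbitHom_smul x hx]
    refine Submodule.smul_mem _ r ?_
    obtain ⟨n', hn', he⟩ := exists_fixedPts_lift hG (isComodHom_restr_mk (M := M) (A := A) x)
      (HopfMod.P_mem_fixedPts _ n) ((orbSub (A := A) x M).mkQ_surjective _)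
    exact ⟨n', Submodule.subset_span hn', he⟩

include hx in
/-- An invariant section vanishing at a point of a free closed orbit vanishes along the orbit. -/
theorem mem_orbSub_of_fixed {n : M} (hn : n ∈ HopfRep.fixedPts k A M)
    (hn' : n ∈ RingHom.ker x • (⊤ : Submodule R M)) : n ∈ orbSub (A := A) x M := by
  letI := restrModule M x hx
  letI := restrComod M (A := A) x
  haveI := restr_scalarTower (M := M) x hx
  haveI := restr_isHopfMod (M := M) x hx
  have hP : ∀ (a : A) (y : M ⧸ orbSub (A := A) x M),
      HopfMod.P (k := k) (A := A) _ (a • y) =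
        CoalgebraStruct.counit (R := k) a • HopfMod.P (k := k) (A := A) _ y := by
    intro a y
    conv_lhs => rw [← HopfMod.sum_smul_P (k := k) (A := A) _ y]
    conv_rhs => rw [← HopfMod.sum_smul_P (k := k) (A := A) _ y]
    induction HopfRep.Comod.coact (k := k) (A := A) y using TensorProduct.induction_on with
    | zero => simp
    | add z z' hz hz' => simp only [map_add, smul_add, hz, hz']
    | tmul n b =>
      rw [LinearMap.rTensor_tmul, HopfMod.sm_tmul, smul_smul,
        HopfMod.P_smul_fixed _ _ (HopfMod.P_mem_fixedPts _ n),
        HopfMod.P_smul_fixed _ _ (HopfMod.P_mem_fixedPts _ n), Bialgebra.counit_mul, mul_smul]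
  have hfix : HopfMod.P (k := k) (A := A) _ ((orbSub (A := A) x M).mkQ n) = (orbSub (A := A) x M).mkQ n := by
    have h := HopfMod.P_smul_fixed (M ⧸ orbSub (A := A) x M) (1 : A)
      (map_mem_fixedPts (isComodHom_restr_mk (M := M) (A := A) x) hn)
    simp only [Bialgebra.counit_one, one_smul] at h
    exact h
  suffices ∀ y ∈ RingHom.ker x • (⊤ : Submodule R M),
      HopfMod.P (k := k) (A := A) _ ((orbSub (A := A) x M).mkQ y) = 0 by
    rw [← Submodule.Quotient.mk_eq_zero, ← Submodule.mkQ_apply, ← hfix]
    exact this n hn'
  intro y hy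
  refine Submodule.smul_induction_on hy (fun r hr m _ => ?_) fun y z hy hz => by
    rw [map_add, map_add, hy, hz, add_zero]
  rw [map_smul, ← orbitHom_smul x hx, hP, show CoalgebraStruct.counit (R := k) (GLin.orbitHom k A x r) = x r by
    rw [apply_orbitHom, dact_counit_apply], RingHom.mem_ker.1 hr, zero_smul]

include hx in
/-- A basis of invariants along a free closed orbit. -/
theorem exists_fixed_basis (hG : HopfRep.IsLinearlyReductive k A) [Module.Finite R M] :
    ∃ (r : ℕ) (f : Fin r → M), (∀ i, f i ∈ HopfRep.fixedPts k A M) ∧
      LinearIndependent (R ⧸ orbitKer (A := A) x) (fun i => (orbSub (A := A) x M).mkQ (f i)) ∧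
      Submodule.span (R ⧸ orbitKer (A := A) x)
        (Set.range fun i => (orbSub (A := A) x M).mkQ (f i)) = ⊤ := by
  letI := restrModule M x hx
  letI := restrComod M (A := A) x
  haveI := restr_scalarTower (M := M) x hx
  haveI := restr_isHopfMod (M := M) x hx
  haveI : Nontrivial A :=
    (Bialgebra.counitAlgHom k A).toRingHom.domain_nontrivial
  let N := HopfRep.fixedPts k A (M ⧸ orbSub (A := A) x M)
  let bN := Module.Free.chooseBasis k N
  obtain ⟨hli, hsp⟩ := HopfMod.basis_of_fixedPts (k := k) (A := A) (M ⧸ orbSub (A := A) x M)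
    (fun i => (bN i : M ⧸ orbSub (A := A) x M))
    (bN.linearIndependent.map' N.subtype N.ker_subtype)
    (by rw [show (fun i => (bN i : M ⧸ orbSub (A := A) x M)) = N.subtype ∘ bN from rfl, Set.range_comp,
      Submodule.span_image, bN.span_eq, Submodule.map_top, Submodule.range_subtype])
  let bA := Module.Basis.mk hli hsp.ge
  haveI : Module.Finite A (M ⧸ orbSub (A := A) x M) := by
    obtain ⟨s, hs⟩ := Module.Finite.fg_top (R := R) (M := M ⧸ orbSub (A := A) x M)
    refine ⟨⟨s, eq_top_iff.2 fun q _ => ?_⟩⟩
    have hq : q ∈ Submodule.span R (↑s : Set (M ⧸ orbSub (A := A) x M)) := hs ▸ Submodule.mem_top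
    induction hq using Submodule.span_induction with
    | mem z hz => exact Submodule.subset_span hz
    | zero => exact zero_mem _
    | add z z' _ _ hz hz' => exact add_mem (hz trivial) (hz' trivial)
    | smul r z _ hz => rw [← orbitHom_smul x hx]; exact Submodule.smul_mem _ _ (hz trivial)
  haveI := Module.Finite.finite_basis bA
  haveI := Fintype.ofFinite (Module.Free.ChooseBasisIndex k N)
  let e := (Fintype.equivFin (Module.Free.ChooseBasisIndex k N)).symm
  choose f hf hfe using fun i => exists_fixedPts_lift hG (isComodHom_restr_mk (M := M) (A := A) x)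
    (bN (e i)).2 ((orbSub (A := A) x M).mkQ_surjective _)
  refine ⟨_, f, hf, ?_, ?_⟩
  · simp only [LinearMap.restrictScalars_apply] at hfe
    simp only [hfe]
    refine Fintype.linearIndependent_iff.2 fun c hc i => ?_
    have hc' : ∑ j, orbEquiv x hx (c j) • ((bN (e j) : M ⧸ orbSub (A := A) x M)) = 0 := by
      refine Eq.trans (Finset.sum_congr rfl fun j _ => ?_) hc
      change (orbEquiv x hx).symm (orbEquiv x hx (c j)) • (bN (e j) : M ⧸ orbSub (A := A) x M) = _
      rw [RingEquiv.symm_apply_apply]
    have := Fintype.linearIndependent_iff.1 (hli.comp e e.injective) _ hc' i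
    exact (map_eq_zero_iff _ (orbEquiv x hx).injective).1 this
  · simp only [LinearMap.restrictScalars_apply] at hfe
    refine eq_top_iff.2 fun q _ => ?_
    have hq : q ∈ Submodule.span A (Set.range fun i => (bN i : M ⧸ orbSub (A := A) x M)) :=
      hsp ▸ Submodule.mem_top
    induction hq using Submodule.span_induction with
    | mem z hz =>
      obtain ⟨i, rfl⟩ := hz
      exact Submodule.subset_span ⟨e.symm i, by simp [hfe]⟩
    | zero => exact zero_mem _
    | add z z' _ _ hz hz' => exact add_mem (hz trivial) (hz' trivial)
    | smul a z _ hz => exact Submodule.smul_mem _ ((orbEquiv x hx).symm a) (hz trivial)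

end

end Groth.Agent.H60.FreeOrbit
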