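import Groth.Agent.H60.TorsorGeom

/-!
A torsor is a categorical quotient; a morphism with fpqc-local sections is an epimorphism.
-/

set_option autoImplicit false
set_option backward.isDefEq.respectTransparency false
set_option backward.isDefEq.respectTransparency.types false

universe u

open CategoryTheory CategoryTheory.Limits AlgebraicGeometry MonoidalCategory CartesianMonoidalCategory
open Groth.Agent.Lib

namespace Groth.Agent.H60.TorsorCat

variable {S : Scheme.{u}} {G X Y : Over S} [GrpObj G]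

theorem isSheafFor {T : Scheme.{u}} {R : Presieve T} (hR : R ∈ Scheme.fpqcPrecoverage T) (Z : Scheme.{u}) :
    R.IsSheafFor (yoneda.obj Z) :=
  (GrothendieckTopology.Subcanonical.isSheaf_of_isRepresentable _).isSheafFor _
    (Precoverage.generate_mem_toGrothendieck hR)

/-- A morphism with sections on an fpqc covering is an epimorphism. -/
theorem epi_of_sections {X Y : Scheme.{u}} (f : X ⟶ Y) {R : Presieve Y}
    (hR : R ∈ Scheme.fpqcPrecoverage Y)
    (hsec : ∀ ⦃Z : Scheme.{u}⦄ (g : Z ⟶ Y), R g → ∃ s : Z ⟶ X, s ≫ f = g) : Epi f := by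
  refine ⟨fun {Z} u v h ↦ (isSheafFor hR Z).isSeparatedFor.ext fun T g hg ↦ ?_⟩
  obtain ⟨s, rfl⟩ := hsec g hg
  change (s ≫ f) ≫ u = (s ≫ f) ≫ v
  rw [Category.assoc, h, Category.assoc]

/-- A torsor is a categorical quotient. -/
theorem isCatQuot (a : AlgGrp.Action G X) (φ : X ⟶ Y) (hcart : IsPullback a.act (snd G X) φ φ)
    (hloc : NonAbH1.IsLocallyTrivialFor Scheme.fpqcPrecoverage (Over.mk φ.left : Over Y.left)) :
    GIT.IsCatQuot a φ := by
  obtain ⟨R, hR, hsec⟩ := hloc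
  refine ⟨hcart.w, fun Z ψ hψ ↦ ?_⟩
  have hsec' : ∀ ⦃T : Scheme.{u}⦄ (g : T ⟶ Y.left), R g → ∃ s : T ⟶ X.left, s ≫ φ.left = g := hsec
  have key : ∀ (T : Scheme.{u}) (h₁ h₂ : T ⟶ X.left), h₁ ≫ φ.left = h₂ ≫ φ.left →
      h₁ ≫ ψ.left = h₂ ≫ ψ.left := fun T h₁ h₂ h ↦ by
    let x₁ : Over.mk (h₁ ≫ X.hom) ⟶ X := Over.homMk h₁
    let x₂ : Over.mk (h₁ ≫ X.hom) ⟶ X := Over.homMk h₂ (by
      change h₂ ≫ X.hom = h₁ ≫ X.hom
      rw [← Over.w φ, reassoc_of% h])
    obtain ⟨g, hg⟩ := TorsorGeom.exists_act a φ hcart _ x₁ x₂ (by ext; exact h)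
    have e : (lift g x₂ ≫ a.act) ≫ ψ = x₂ ≫ ψ := by
      rw [Category.assoc, show a.act ≫ ψ = snd G X ≫ ψ from hψ, lift_snd_assoc]
    rw [hg] at e
    exact congrArg CommaMorphism.left e
  obtain ⟨ι, U, u, rfl⟩ := R.exists_eq_ofArrows
  choose s hs using fun i ↦ hsec' (u i) ⟨i⟩
  obtain ⟨χ, hχ, -⟩ := (Presieve.isSheafFor_arrows_iff _ _).1 (isSheafFor hR Z.left)
    (fun i ↦ s i ≫ ψ.left) fun i j T c d hcd ↦ by
      change c ≫ s i ≫ ψ.left = d ≫ s j ≫ ψ.left
      rw [← Category.assoc, ← Category.assoc]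
      exact key _ _ _ (by rw [Category.assoc, hs, Category.assoc, hs, hcd])
  have e : φ.left ≫ χ = ψ.left := by
    have hR' : Presieve.ofArrows (fun i ↦ pullback φ.left (u i)) (fun i ↦ pullback.fst φ.left (u i)) ∈
        Scheme.fpqcPrecoverage X.left :=
      Precoverage.mem_coverings_of_isPullback _ hR φ.left _ (fun i ↦ pullback.snd _ _)
        fun i ↦ IsPullback.of_hasPullback _ _
    refine (isSheafFor hR' Z.left).isSeparatedFor.ext ?_
    rintro _ _ ⟨i⟩
    change pullback.fst φ.left (u i) ≫ φ.left ≫ χ = pullback.fst φ.left (u i) ≫ ψ.left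
    rw [pullback.condition_assoc, show u i ≫ χ = s i ≫ ψ.left from hχ i, ← Category.assoc]
    exact key _ _ _ (by rw [Category.assoc, hs, pullback.condition])
  have : Epi φ.left := epi_of_sections φ.left hR hsec'
  refine ⟨Over.homMk χ ?_, by ext; exact e, fun χ' hχ' ↦ ?_⟩
  · rw [← cancel_epi φ.left, reassoc_of% e, Over.w φ]
    exact Over.w ψ
  · ext
    change χ'.left = χ
    rw [← cancel_epi φ.left, e, ← hχ']
    rfl

end Groth.Agent.H60.TorsorCat
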