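import Groth.Agent.H60.TorsorQuot
import Groth.Agent.Lib.GrpSch.Basic
import Groth.Agent.Lib.DescAlg.Descends
import Groth.Prelude.Def_NonAbH2

/-!
A torsor (cartesian action square, sections fpqc locally) is a geometric quotient, affine if the
group is affine over the base.
-/

set_option autoImplicit false
set_option backward.isDefEq.respectTransparency false
set_option backward.isDefEq.respectTransparency.types false

universe u

open CategoryTheory CategoryTheory.Limits AlgebraicGeometry MonoidalCategory CartesianMonoidalCategory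
open Groth.Agent.Lib

namespace Groth.Agent.H60.TorsorGeom

variable {S : Scheme.{u}} {G X Y : Over S} [GrpObj G] (a : AlgGrp.Action G X) (φ : X ⟶ Y)
  (hcart : IsPullback a.act (snd G X) φ φ)
  (hloc : NonAbH1.IsLocallyTrivialFor Scheme.fpqcPrecoverage (Over.mk φ.left : Over Y.left))

include hcart

theorem isPullback_left : IsPullback a.act.left (snd G X).left φ.left φ.left :=
  hcart.map (Over.forget S)

/-- Two points with the same image in the base differ by a unique point of the group. -/
theorem exists_act (T : Over S) (x₁ x₂ : T ⟶ X) (h : x₁ ≫ φ = x₂ ≫ φ) :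
    ∃ g : T ⟶ G, lift g x₂ ≫ a.act = x₁ := by
  obtain ⟨l, h1, h2⟩ := hcart.exists_lift x₁ x₂ h
  refine ⟨l ≫ fst G X, ?_⟩
  rw [show lift (l ≫ fst G X) x₂ = l by ext <;> simp [h2], h1]

include hloc

/-- A torsor is a geometric quotient. -/
theorem isGeomQuot : GIT.IsGeomQuot a φ := by
  obtain ⟨R, hR, hsec⟩ := hloc
  refine TorsorQuot.isGeomQuot_of_local a φ hcart.w hR hsec fun T x₁ x₂ h ↦
    ⟨Presieve.singleton (𝟙 T.left), Precoverage.mem_coverings_of_isIso _, ?_⟩
  rintro _ _ ⟨⟩
  obtain ⟨g, hg⟩ := exists_act a φ hcart T x₁ x₂ h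
  let e : Over.mk (𝟙 T.left ≫ T.hom) ⟶ T := Over.homMk (𝟙 T.left)
  refine ⟨e ≫ g, ?_⟩
  change (lift (e ≫ g) (e ≫ x₂) ≫ a.act).left = 𝟙 T.left ≫ x₁.left
  rw [← comp_lift, Category.assoc, hg]
  rfl

/-- A torsor under an affine group is affine. -/
theorem isAffineHom [IsAffineHom G.hom] : IsAffineHom φ.left := by
  obtain ⟨R, hR, hsec⟩ := hloc
  obtain ⟨𝒰, _, rfl⟩ := Scheme.mem_propQCPrecoverage_iff_exists_quasiCompactCover.mp hR
  refine DescAlg.FpqcCover.of_fpqcCover @IsAffineHom inferInstance φ.left 𝒰.toPreZeroHypercover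
    (fun i ↦ 𝒰.map_prop i) fun i ↦ ?_
  obtain ⟨s, hs⟩ := hsec (𝒰.f i) ⟨i⟩
  have h1 : IsAffineHom (snd G X).left := GrpSch.snd_left_of X (P := @IsAffineHom) inferInstance
  have sq := (IsPullback.of_hasPullback (snd G X).left s).paste_horiz (isPullback_left a φ hcart)
  rw [show s ≫ φ.left = 𝒰.f i from hs] at sq
  rw [← sq.isoPullback_inv_snd]
  have h2 : IsAffineHom (pullback.snd (snd G X).left s) := MorphismProperty.pullback_snd _ _ h1
  exact (MorphismProperty.cancel_left_of_respectsIso @IsAffineHom _ _).2 h2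

end Groth.Agent.H60.TorsorGeom
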