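import Groth.Agent.H60.TorsorComp
import Groth.Agent.Lib.DescAlg.Descends
import Groth.Prelude.Def_W4bk4git07Quot
import Groth.Prelude.Def_NonAbH2

/-!
A quotient which is a trivial torsor over the members of an fpqc cover is a torsor.
-/

set_option autoImplicit false
set_option backward.isDefEq.respectTransparency false

universe u

open CategoryTheory CategoryTheory.Limits MonoidalCategory CartesianMonoidalCategory MonObj AlgebraicGeometry

namespace Groth.Agent.H60.TorsorCharts

noncomputable section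

variable {S : Scheme.{u}} {G X Y : Over S} [GrpObj G]

/-- Trivial charts over an fpqc cover make the quotient a torsor. -/
theorem torsor_of_cover (a : AlgGrp.Action G X) (φ : X ⟶ Y) (hinv : GIT.IsInvariant a φ)
    {I : Type u} (Q : I → Over S) (ψq : ∀ i, Q i ⟶ Y) (σ : ∀ i, Q i ⟶ X)
    (hR : Presieve.ofArrows (fun i => (Q i).left) (fun i => (ψq i).left) ∈ Scheme.fpqcPrecoverage Y.left)
    (hsq : ∀ i, IsPullback ((G ◁ σ i) ≫ a.act) (snd G (Q i)) φ (ψq i)) :
    IsPullback a.act (snd G X) φ φ ∧
      NonAbH1.IsLocallyTrivialFor Scheme.fpqcPrecoverage (Over.mk φ.left : Over Y.left) := by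
  refine ⟨?_, _, hR, ?_⟩
  swap
  · rintro _ _ ⟨i⟩
    refine ⟨(σ i).left, ?_⟩
    have h : σ i ≫ φ = ψq i := by
      have h := congrArg (fun m => lift (1 : Q i ⟶ G) (𝟙 (Q i)) ≫ m) (hsq i).w
      simp only [Category.assoc, lift_whiskerLeft_assoc, Category.id_comp, lift_snd_assoc] at h
      rw [← h, ← Category.assoc, AlgGrp.Action.lift_one_act]
    exact congrArg (fun m => Over.Hom.left m) h
  let Ψ := GIT.PsiY a φ hinv
  let m : pullback φ.left φ.left ⟶ Y.left := pullback.fst φ.left φ.left ≫ φ.left
  have hR' : Presieve.ofArrows (fun i => pullback m (ψq i).left) (fun i => pullback.fst m (ψq i).left) ∈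
      Scheme.fpqcPrecoverage (pullback φ.left φ.left) :=
    Precoverage.mem_coverings_of_isPullback _ hR m _ (fun i => pullback.snd _ _) fun i => IsPullback.of_hasPullback _ _
  obtain ⟨𝒰, _, h𝒰⟩ := Scheme.mem_propQCPrecoverage_iff_exists_quasiCompactCover.mp hR'
  haveI : IsIso Ψ := by
    refine Groth.Agent.Lib.DescAlg.FpqcCover.of_fpqcCover (MorphismProperty.isomorphisms Scheme.{u}) inferInstance Ψ
      𝒰.toPreZeroHypercover (fun j => 𝒰.map_prop j) fun j => ?_
    suffices ∀ ⦃Z : Scheme.{u}⦄ (f : Z ⟶ pullback φ.left φ.left),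
        Presieve.ofArrows (fun i => pullback m (ψq i).left) (fun i => pullback.fst m (ψq i).left) f →
        IsIso (pullback.snd Ψ f) from this _ (h𝒰 ▸ ⟨j⟩)
    rintro _ _ ⟨i⟩
    let b := pullback.fst m (ψq i).left
    -- two elements of the group moving a point over the chart equally are equal
    have huniq : ∀ (T : Over S) (g g' : T ⟶ G) (x : T ⟶ X) (q : T ⟶ Q i),
        x ≫ φ = q ≫ ψq i → lift g x ≫ a.act = lift g' x ≫ a.act → g = g' := by
      intro T g g' x q hxq he
      obtain ⟨l, hl1, hl2⟩ := (hsq i).exists_lift x q hxq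
      have el : l = lift (l ≫ fst G (Q i)) q := by ext1 <;> simp [hl2]
      rw [el, lift_whiskerLeft_assoc] at hl1
      rw [← hl1, ← AlgGrp.Action.lift_mul_act, ← AlgGrp.Action.lift_mul_act] at he
      refine mul_right_cancel (b := l ≫ fst G (Q i)) ?_
      have := (hsq i).hom_ext (k := lift (g * (l ≫ fst G (Q i))) q) (l := lift (g' * (l ≫ fst G (Q i))) q)
        (by simpa only [lift_whiskerLeft_assoc] using he) (by simp)
      simpa using congrArg (· ≫ fst G (Q i)) this
    haveI : Mono (pullback.snd Ψ b) := by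
      refine ⟨fun {W} p p' e => ?_⟩
      refine pullback.hom_ext ?_ e
      let T : Over S := Over.mk ((p ≫ pullback.fst Ψ b) ≫ (G ⊗ X).hom)
      have c1 := congrArg (fun r => r ≫ b) e
      simp only [Category.assoc, ← pullback.condition] at c1
      have cx : (p ≫ pullback.fst Ψ b) ≫ (snd G X).left = (p' ≫ pullback.fst Ψ b) ≫ (snd G X).left := by
        have := congrArg (fun r => r ≫ pullback.snd φ.left φ.left) c1
        simpa only [Ψ, GIT.PsiY, Category.assoc, pullback.lift_snd] using this
      have ca : (p ≫ pullback.fst Ψ b) ≫ a.act.left = (p' ≫ pullback.fst Ψ b) ≫ a.act.left := by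
        have := congrArg (fun r => r ≫ pullback.fst φ.left φ.left) c1
        simpa only [Ψ, GIT.PsiY, Category.assoc, pullback.lift_fst] using this
      let P₁ : T ⟶ G ⊗ X := Over.homMk (p ≫ pullback.fst Ψ b) rfl
      let P₂ : T ⟶ G ⊗ X := Over.homMk (p' ≫ pullback.fst Ψ b) (by
        show (p' ≫ pullback.fst Ψ b) ≫ (G ⊗ X).hom = (p ≫ pullback.fst Ψ b) ≫ (G ⊗ X).hom
        rw [← Over.w a.act, ← Category.assoc _ a.act.left, ← ca, Category.assoc])
      have ex : P₁ ≫ snd G X = P₂ ≫ snd G X := Over.OverMorphism.ext cx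
      have ea : P₁ ≫ a.act = P₂ ≫ a.act := Over.OverMorphism.ext ca
      let q : T ⟶ Q i := Over.homMk (p ≫ pullback.snd Ψ b ≫ pullback.snd m (ψq i).left) (by
        show (p ≫ pullback.snd Ψ b ≫ pullback.snd m (ψq i).left) ≫ (Q i).hom = (p ≫ pullback.fst Ψ b) ≫ (G ⊗ X).hom
        rw [← Over.w (ψq i), Category.assoc, Category.assoc, ← pullback.condition_assoc,
          ← reassoc_of% (pullback.condition (f := Ψ) (g := b))]
        simp only [m, Ψ, GIT.PsiY, Category.assoc, pullback.lift_fst_assoc, Over.w])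
      have hxq : (P₁ ≫ a.act) ≫ φ = q ≫ ψq i := Over.OverMorphism.ext (by
        show ((p ≫ pullback.fst Ψ b) ≫ a.act.left) ≫ φ.left = (p ≫ pullback.snd Ψ b ≫ pullback.snd m (ψq i).left) ≫ (ψq i).left
        have key : pullback.fst Ψ b ≫ a.act.left ≫ φ.left =
            pullback.snd Ψ b ≫ pullback.snd m (ψq i).left ≫ (ψq i).left := by
          rw [← pullback.condition, ← reassoc_of% (pullback.condition (f := Ψ) (g := b))]
          simp only [m, Ψ, GIT.PsiY, pullback.lift_fst_assoc]
        simp only [Category.assoc, key])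
      rw [Category.assoc, show a.act ≫ φ = snd G X ≫ φ from hinv, ← Category.assoc] at hxq
      have hg : P₁ ≫ fst G X = P₂ ≫ fst G X := huniq T _ _ (P₁ ≫ snd G X) q hxq (by
        conv_rhs => rw [ex]
        rw [← comp_lift, ← comp_lift, lift_fst_snd, Category.comp_id, Category.comp_id]
        exact ea)
      have : P₁ = P₂ := by ext1 <;> assumption
      exact congrArg (fun r => Over.Hom.left r) this
    haveI : IsSplitEpi (pullback.snd Ψ b) := by
      let T : Over S := Over.mk (pullback.snd m (ψq i).left ≫ (Q i).hom)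
      let q : T ⟶ Q i := Over.homMk (pullback.snd m (ψq i).left) rfl
      let x₁ : T ⟶ X := Over.homMk (b ≫ pullback.fst φ.left φ.left) (by
        show (b ≫ pullback.fst φ.left φ.left) ≫ X.hom = pullback.snd m (ψq i).left ≫ (Q i).hom
        rw [← Over.w φ, ← Over.w (ψq i), Category.assoc, ← pullback.condition_assoc]
        simp [m, b])
      let x₂ : T ⟶ X := Over.homMk (b ≫ pullback.snd φ.left φ.left) (by
        show (b ≫ pullback.snd φ.left φ.left) ≫ X.hom = pullback.snd m (ψq i).left ≫ (Q i).hom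
        rw [← Over.w φ, ← Over.w (ψq i), Category.assoc, ← pullback.condition_assoc, ← pullback.condition_assoc]
        simp [m, b])
      have h₁ : x₁ ≫ φ = q ≫ ψq i := Over.OverMorphism.ext (by
        show (b ≫ pullback.fst φ.left φ.left) ≫ φ.left = pullback.snd m (ψq i).left ≫ (ψq i).left
        rw [Category.assoc, ← pullback.condition])
      have h₂ : x₂ ≫ φ = q ≫ ψq i := Over.OverMorphism.ext (by
        show (b ≫ pullback.snd φ.left φ.left) ≫ φ.left = pullback.snd m (ψq i).left ≫ (ψq i).left
        rw [Category.assoc, ← pullback.condition, ← pullback.condition])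
      obtain ⟨l₁, hl1, hl1'⟩ := (hsq i).exists_lift x₁ q h₁
      obtain ⟨l₂, hl2, hl2'⟩ := (hsq i).exists_lift x₂ q h₂
      have e₁ : l₁ = lift (l₁ ≫ fst G (Q i)) q := by ext1 <;> simp [hl1']
      have e₂ : l₂ = lift (l₂ ≫ fst G (Q i)) q := by ext1 <;> simp [hl2']
      rw [e₁, lift_whiskerLeft_assoc] at hl1
      rw [e₂, lift_whiskerLeft_assoc] at hl2
      let c : T ⟶ G ⊗ X := lift ((l₁ ≫ fst G (Q i)) * (l₂ ≫ fst G (Q i))⁻¹) x₂
      have hc : c ≫ a.act = x₁ := by
        simp only [c]
        rw [AlgGrp.Action.lift_mul_act]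
        conv_lhs => rw [← hl2, ← AlgGrp.Action.lift_mul_act _ ((l₂ ≫ fst G (Q i))⁻¹), inv_mul_cancel,
          AlgGrp.Action.lift_one_act]
        exact hl1
      refine ⟨⟨pullback.lift c.left (𝟙 _) ?_, pullback.lift_snd _ _ _⟩⟩
      rw [Category.id_comp]
      refine pullback.hom_ext ?_ ?_
      · simp only [Ψ, GIT.PsiY, Category.assoc, pullback.lift_fst]
        exact (Over.comp_left (f := c) (g := a.act)).symm.trans (congrArg (fun r => Over.Hom.left r) hc)
      · simp only [Ψ, GIT.PsiY, Category.assoc, pullback.lift_snd]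
        exact (Over.comp_left (f := c) (g := snd G X)).symm.trans
          (congrArg (fun r => Over.Hom.left r) (lift_snd _ _))
    exact isIso_of_mono_of_isSplitEpi _
  have hl : IsPullback a.act.left (snd G X).left φ.left φ.left :=
    IsPullback.of_iso_pullback ⟨hinv.left⟩ (asIso Ψ) (pullback.lift_fst _ _ _) (pullback.lift_snd _ _ _)
  exact IsPullback.of_map (Over.forget _) hinv hl

end

end Groth.Agent.H60.TorsorCharts
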