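import Groth.Agent.H60.AssocBundle
import Groth.Agent.H60.TorsorCharts
import Groth.Agent.H60.TorsorCat
import Groth.Prelude.Def_ChGrp

/-!
A torsor under an extension factors as a torsor under the kernel followed by a torsor under the quotient.
-/

set_option autoImplicit false
set_option backward.isDefEq.respectTransparency false
set_option backward.isDefEq.respectTransparency.types false

universe u

open CategoryTheory CategoryTheory.Limits AlgebraicGeometry MonoidalCategory CartesianMonoidalCategory MonObj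

namespace Groth.Agent.H60.SpecialExt

noncomputable section

variable {S : Scheme.{u}}

/-- Having sections on an fpqc cover is stable under base change. -/
theorem loctriv_of_isPullback {X Y X' Y' : Scheme.{u}} {f : X ⟶ Y} {f' : X' ⟶ Y'} {g' : X' ⟶ X} {g : Y' ⟶ Y}
    (sq : IsPullback g' f' f g) (h : NonAbH1.IsLocallyTrivialFor Scheme.fpqcPrecoverage (Over.mk f : Over Y)) :
    NonAbH1.IsLocallyTrivialFor Scheme.fpqcPrecoverage (Over.mk f' : Over Y') := by
  obtain ⟨R, hR, hsec⟩ := h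
  obtain ⟨I, U, u, rfl⟩ := R.exists_eq_ofArrows
  choose s hs using fun i => hsec (u i) ⟨i⟩
  refine ⟨_, Precoverage.mem_coverings_of_isPullback _ hR g _ (fun i => pullback.snd _ _)
    fun i => IsPullback.of_hasPullback g (u i), ?_⟩
  rintro _ _ ⟨i⟩
  refine ⟨sq.lift (pullback.snd _ _ ≫ s i) (pullback.fst _ _) ?_, sq.lift_snd _ _ _⟩
  have e : s i ≫ f = u i := hs i
  rw [Category.assoc, e, pullback.condition]

/-- A morphism over the base with sections on an fpqc cover is an epimorphism. -/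
theorem epi_of_loctriv {X Y : Over S} (f : X ⟶ Y)
    (h : NonAbH1.IsLocallyTrivialFor Scheme.fpqcPrecoverage (Over.mk f.left : Over Y.left)) : Epi f := by
  obtain ⟨R, hR, hsec⟩ := h
  haveI : Epi f.left := TorsorCat.epi_of_sections f.left hR hsec
  exact (Over.forget S).epi_of_epi_map this

theorem loctriv_whiskerLeft (Q : Over S) {X Y : Over S} (f : X ⟶ Y)
    (h : NonAbH1.IsLocallyTrivialFor Scheme.fpqcPrecoverage (Over.mk f.left : Over Y.left)) :
    NonAbH1.IsLocallyTrivialFor Scheme.fpqcPrecoverage (Over.mk (Q ◁ f).left : Over (Q ⊗ Y).left) :=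
  loctriv_of_isPullback (Groth.Agent.Lib.GrpSch.isPullback_whiskerLeft Q f).flip h

variable {G N Q X Y : Over S} [GrpObj G] [GrpObj N] [GrpObj Q]

/-- The action of the extension on its quotient. -/
def leftQ (q : G ⟶ Q) [IsMonHom q] : AlgGrp.Action G Q := (NonAbH1.trivialAction Q).restrict q

theorem lift_leftQ (q : G ⟶ Q) [IsMonHom q] {T : Over S} (g : T ⟶ G) (c : T ⟶ Q) :
    lift g c ≫ (leftQ q).act = (g ≫ q) * c := by
  rw [leftQ, AlgGrp.Action.lift_restrict_act]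
  exact (Hom.mul_def _ _).symm

/-- A torsor under an extension factors through the associated bundle of the quotient. -/
theorem exists_factor (iN : N ⟶ G) [IsMonHom iN] (q : G ⟶ Q) [IsMonHom q] (hker : AlgGrp.IsKernel iN q)
    (hql : NonAbH1.IsLocallyTrivialFor Scheme.fpqcPrecoverage (Over.mk q.left : Over Q.left)) [IsAffineHom Q.hom]
    (a : AlgGrp.Action G X) (φ : X ⟶ Y) (hcart : IsPullback a.act (snd G X) φ φ)
    [Flat φ.left] [Surjective φ.left] [QuasiCompact φ.left] :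
    ∃ (E : Over S) (φ₁ : X ⟶ E) (r : E ⟶ Y) (aE : AlgGrp.Action Q E), φ₁ ≫ r = φ ∧
      (IsPullback (a.restrict iN).act (snd N X) φ₁ φ₁ ∧
        NonAbH1.IsLocallyTrivialFor Scheme.fpqcPrecoverage (Over.mk φ₁.left : Over E.left)) ∧
      (IsPullback aE.act (snd Q E) r r ∧
        NonAbH1.IsLocallyTrivialFor Scheme.fpqcPrecoverage (Over.mk r.left : Over Y.left)) := by
  obtain ⟨E, qm, r, hP, hw, hqc, hql'⟩ := AssocBundle.exists_bundle' a φ hcart (leftQ q)
  -- moving a representative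
  have hmove : ∀ {T : Over S} (g : T ⟶ G) (x : T ⟶ X) (c : T ⟶ Q),
      lift (lift g x ≫ a.act) ((g ≫ q) * c) ≫ qm = lift x c ≫ qm := fun g x c => by
    have h := congrArg (lift g (lift x c) ≫ ·) hqc.w
    rwa [← Category.assoc, AlgGrp.Action.lift_prod_act, lift_leftQ, lift_snd_assoc] at h
  have hqr : ∀ {T : Over S} (x : T ⟶ X) (c : T ⟶ Q), lift x c ≫ qm ≫ r = x ≫ φ := fun x c => by
    rw [hw, lift_fst_assoc]
  -- right translations
  let α : Q ⊗ (X ⊗ Q) ⟶ X ⊗ Q :=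
    lift (snd Q (X ⊗ Q) ≫ fst X Q) ((snd Q (X ⊗ Q) ≫ snd X Q) * (fst Q (X ⊗ Q))⁻¹)
  have hα : ∀ {T : Over S} (d : T ⟶ Q) (x : T ⟶ X) (c : T ⟶ Q), lift d (lift x c) ≫ α = lift x (c * d⁻¹) :=
    fun d x c => by simp [α, MonObj.comp_mul, GrpObj.comp_inv]
  let c3 := (AlgGrp.Action.trivial G Q).prod (a.prod (leftQ q))
  have hc3 : ∀ {T : Over S} (g : T ⟶ G) (d : T ⟶ Q) (x : T ⟶ X) (c : T ⟶ Q),
      lift g (lift d (lift x c)) ≫ c3.act = lift d (lift (lift g x ≫ a.act) ((g ≫ q) * c)) := fun g d x c => by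
    rw [AlgGrp.Action.lift_prod_act, AlgGrp.Action.lift_trivial_act, AlgGrp.Action.lift_prod_act, lift_leftQ]
  have e3 : ∀ {T : Over S} (y : T ⟶ Q ⊗ (X ⊗ Q)),
      y = lift (y ≫ fst _ _) (lift (y ≫ snd _ _ ≫ fst _ _) (y ≫ snd _ _ ≫ snd _ _)) := fun y => by
    ext1
    · simp
    · ext1 <;> simp
  have hc3cart : IsPullback c3.act (snd G (Q ⊗ (X ⊗ Q))) (Q ◁ qm) (Q ◁ qm) := by
    refine TorsorComp.isPullback_of_points c3 _ ?_ ?_ ?_
    · refine AlgGrp.Action.hom_ext_lift₂ fun T g y => ?_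
      rw [lift_snd_assoc, e3 y, ← Category.assoc, hc3, lift_whiskerLeft, lift_whiskerLeft, hmove]
    · intro T y₁ y₂ h
      have h1 := congrArg (· ≫ fst Q E) h
      have h2 := congrArg (· ≫ snd Q E) h
      simp only [Category.assoc, whiskerLeft_fst, whiskerLeft_snd] at h1 h2
      obtain ⟨g, hg⟩ := TorsorGeom.exists_act (a.prod (leftQ q)) qm hqc T (y₁ ≫ snd _ _) (y₂ ≫ snd _ _)
        (by simpa only [Category.assoc] using h2)
      refine ⟨g, ?_⟩
      have e : ∀ y : T ⟶ Q ⊗ (X ⊗ Q), y = lift (y ≫ fst _ _) (y ≫ snd _ _) := fun y => by simp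
      rw [e y₂, AlgGrp.Action.lift_prod_act, AlgGrp.Action.lift_trivial_act, hg, ← h1, ← e]
    · intro T g g' y h
      refine TorsorComp.act_inj (a.prod (leftQ q)) qm hqc (x := y ≫ snd _ _) ?_
      have e : y = lift (y ≫ fst _ _) (y ≫ snd _ _) := by simp
      rw [e, AlgGrp.Action.lift_prod_act, AlgGrp.Action.lift_prod_act] at h
      simpa using congrArg (· ≫ snd _ _) h
  obtain ⟨act, hact, -⟩ := (TorsorCat.isCatQuot c3 (Q ◁ qm) hc3cart (loctriv_whiskerLeft Q qm hql')).2 E (α ≫ qm)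
    (AlgGrp.Action.hom_ext_lift₂ fun T g y => by
      rw [lift_snd_assoc, e3 y]
      simp only [reassoc_of% hc3, reassoc_of% hα, _root_.mul_assoc, hmove])
  have hactp : ∀ {T : Over S} (d : T ⟶ Q) (x : T ⟶ X) (c : T ⟶ Q),
      lift d (lift x c ≫ qm) ≫ act = lift x (c * d⁻¹) ≫ qm := fun d x c => by
    rw [← lift_whiskerLeft_assoc, hact, ← Category.assoc, hα]
  haveI := epi_of_loctriv qm hql'
  haveI := epi_of_loctriv _ (loctriv_whiskerLeft Q _ (loctriv_whiskerLeft Q qm hql'))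
  have hone : lift (toUnit E ≫ η[Q]) (𝟙 E) ≫ act = 𝟙 E := by
    rw [← cancel_epi qm, comp_lift_assoc, Category.comp_id,
      show qm ≫ toUnit E ≫ η[Q] = (1 : X ⊗ Q ⟶ Q) by rw [← Category.assoc, Hom.one_def, toUnit_unique (qm ≫ _) (toUnit _)]]
    have := hactp (1 : X ⊗ Q ⟶ Q) (fst X Q) (snd X Q)
    rw [lift_fst_snd, Category.id_comp, inv_one, _root_.mul_one, lift_fst_snd, Category.id_comp] at this
    exact this
  have hmul : lift (fst Q (Q ⊗ E) * (snd Q (Q ⊗ E) ≫ fst Q E)) (snd Q (Q ⊗ E) ≫ snd Q E) ≫ act =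
      lift (fst Q (Q ⊗ E)) (snd Q (Q ⊗ E) ≫ act) ≫ act := by
    rw [← cancel_epi (Q ◁ (Q ◁ qm))]
    refine AlgGrp.Action.hom_ext_lift₂ fun T d y => ?_
    rw [e3 y]
    set d' := y ≫ fst Q (X ⊗ Q)
    set x := y ≫ snd Q (X ⊗ Q) ≫ fst X Q
    set c := y ≫ snd Q (X ⊗ Q) ≫ snd X Q
    simp only [lift_whiskerLeft_assoc, lift_whiskerLeft, comp_lift_assoc, MonObj.comp_mul, lift_fst, lift_snd_assoc,
      lift_fst_assoc, lift_snd, hactp, _root_.mul_inv_rev, _root_.mul_assoc]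
  let aE : AlgGrp.Action Q E := Groth.Agent.Lib.GrpSch.actionMk act
    (fun T e => by
      have h := congrArg (e ≫ ·) hone
      simp only [comp_lift_assoc, Category.comp_id] at h
      rwa [show e ≫ toUnit E ≫ η[Q] = (1 : T ⟶ Q) by
        rw [← Category.assoc, Hom.one_def, toUnit_unique (e ≫ _) (toUnit _)]] at h)
    (fun T g h e => by
      have h' := congrArg (lift g (lift h e) ≫ ·) hmul
      simpa only [comp_lift_assoc, MonObj.comp_mul, lift_fst, lift_snd_assoc, lift_fst_assoc, lift_snd,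
        Category.assoc] using h')
  have hinvr : GIT.IsInvariant aE r := by
    haveI := epi_of_loctriv _ (loctriv_whiskerLeft Q qm hql')
    show act ≫ r = snd Q E ≫ r
    rw [← cancel_epi (Q ◁ qm)]
    refine AlgGrp.Action.hom_ext_lift₂ fun T d y => ?_
    have e : y = lift (y ≫ fst X Q) (y ≫ snd X Q) := by simp
    rw [lift_whiskerLeft_assoc, lift_whiskerLeft_assoc, lift_snd_assoc, e, ← Category.assoc (lift d _), hactp,
      Category.assoc, Category.assoc, hqr, hqr]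
  let φ₁ : X ⟶ E := lift (𝟙 X) (1 : X ⟶ Q) ≫ qm
  have hφ₁ : ∀ {T : Over S} (x : T ⟶ X), x ≫ φ₁ = lift x (1 : T ⟶ Q) ≫ qm := fun x => by
    rw [← Category.assoc, comp_lift, Category.comp_id, MonObj.comp_one]
  have hfac : φ₁ ≫ r = φ := by rw [Category.assoc, hqr, Category.id_comp]
  have hφ₁g : ∀ {T : Over S} (g : T ⟶ G) (x : T ⟶ X),
      (lift g x ≫ a.act) ≫ φ₁ = lift x (g ≫ q)⁻¹ ≫ qm := fun g x => by
    rw [hφ₁, ← hmove g x (g ≫ q)⁻¹, mul_inv_cancel]
  refine ⟨E, φ₁, r, aE, hfac, ⟨?_, ?_⟩, ?_⟩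
  · refine TorsorComp.isPullback_of_points _ _ ?_ ?_ ?_
    · refine AlgGrp.Action.hom_ext_lift₂ fun T n x => ?_
      have hn : n ≫ iN ≫ q = (1 : T ⟶ Q) := by
        rw [hker.w, ← Category.assoc, Hom.one_def, toUnit_unique (n ≫ toUnit N) (toUnit T)]
      rw [lift_snd_assoc, ← Category.assoc, AlgGrp.Action.lift_restrict_act, hφ₁g, Category.assoc, hn, inv_one, hφ₁]
    · intro T x₁ x₂ h
      have hφ : x₁ ≫ φ = x₂ ≫ φ := by rw [← hfac, reassoc_of% h]
      obtain ⟨g, hg⟩ := TorsorGeom.exists_act a φ hcart T x₁ x₂ hφ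
      rw [← hg, hφ₁g, hφ₁] at h
      have h2 : lift x₂ (g ≫ q)⁻¹ = lift x₂ (1 : T ⟶ Q) := hP.hom_ext h (by simp)
      have hq1 : g ≫ q = toUnit T ≫ η[Q] := by
        have := congrArg (· ≫ snd X Q) h2
        simp only [lift_snd, inv_eq_one] at this
        rw [this, Hom.one_def]
      obtain ⟨n, hn, -⟩ := hker.exists_lift g (toUnit T) hq1
      exact ⟨n, by rw [AlgGrp.Action.lift_restrict_act, hn, hg]⟩
    · intro T n n' x h
      rw [AlgGrp.Action.lift_restrict_act, AlgGrp.Action.lift_restrict_act] at h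
      exact hker.hom_ext (TorsorComp.act_inj a φ hcart h) (toUnit_unique _ _)
  · -- sections: the composite of two covers factors through the action
    let θ : Q ⊗ X ⟶ X ⊗ Q := lift (snd Q X) (fst Q X)⁻¹
    let θ' : X ⊗ Q ⟶ Q ⊗ X := lift (snd X Q)⁻¹ (fst X Q)
    have h1 : θ ≫ θ' = 𝟙 _ := by simp [θ, θ', GrpObj.comp_inv]
    have h2 : θ' ≫ θ = 𝟙 _ := by simp [θ, θ', GrpObj.comp_inv]
    have e : (q ▷ X) ≫ θ ≫ qm = a.act ≫ φ₁ := AlgGrp.Action.hom_ext_lift₂ fun T g x => by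
      rw [← Category.assoc _ a.act φ₁, hφ₁g, lift_whiskerRight_assoc, ← Category.assoc]
      simp [θ, GrpObj.comp_inv]
    haveI : IsIso θ.left := ((Over.forget S).mapIso (⟨θ, θ', h1, h2⟩ : Q ⊗ X ≅ X ⊗ Q)).isIso_hom
    have hθ : NonAbH1.IsLocallyTrivialFor Scheme.fpqcPrecoverage (Over.mk ((q ▷ X).left ≫ θ.left) : Over (X ⊗ Q).left) := by
      obtain ⟨R, hR, hsec⟩ := loctriv_of_isPullback (Groth.Agent.Lib.GrpSch.isPullback_whiskerRight q X).flip hql
      exact TorsorComp.isLocallyTrivialFor_comp _ _ ⟨R, hR, hsec⟩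
        ⟨Presieve.singleton θ.left, Precoverage.mem_coverings_of_isIso _, by
          rintro _ _ ⟨⟩
          exact ⟨𝟙 _, Category.id_comp _⟩⟩
    obtain ⟨R, hR, hsec⟩ := TorsorComp.isLocallyTrivialFor_comp ((q ▷ X).left ≫ θ.left) qm.left hθ hql'
    refine ⟨R, hR, fun T f hf => ?_⟩
    obtain ⟨s, hs⟩ := hsec f hf
    refine ⟨s ≫ a.act.left, ?_⟩
    have e' : ((q ▷ X).left ≫ θ.left) ≫ qm.left = a.act.left ≫ φ₁.left := by
      rw [Category.assoc, ← Over.comp_left, ← Over.comp_left, e]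
      rfl
    show (s ≫ a.act.left) ≫ φ₁.left = f
    rw [Category.assoc, ← e']
    exact hs
  · -- the torsor under the quotient, trivialised by the given one
    have hR : Presieve.ofArrows (fun _ : PUnit.{u + 1} => X.left) (fun _ => φ.left) ∈ Scheme.fpqcPrecoverage Y.left := by
      rw [Presieve.ofArrows_pUnit]
      exact φ.left.singleton_mem_fpqcPrecoverage
    refine TorsorCharts.torsor_of_cover aE r hinvr (fun _ => X) (fun _ => φ) (fun _ => φ₁) hR fun _ => ?_
    let θ : Q ⊗ X ≅ X ⊗ Q :=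
      { hom := lift (snd Q X) (fst Q X)⁻¹
        inv := lift (snd X Q)⁻¹ (fst X Q)
        hom_inv_id := by simp [GrpObj.comp_inv]
        inv_hom_id := by simp [GrpObj.comp_inv] }
    have e : θ.hom ≫ qm = (Q ◁ φ₁) ≫ aE.act := AlgGrp.Action.hom_ext_lift₂ fun T d x => by
      show _ = lift d x ≫ (Q ◁ φ₁) ≫ act
      rw [lift_whiskerLeft_assoc, hφ₁, hactp, _root_.one_mul, ← Category.assoc]
      simp [θ, GrpObj.comp_inv]
    exact hP.of_iso θ.symm (Iso.refl _) (Iso.refl _) (Iso.refl _)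
      (by rw [Iso.refl_hom, Category.comp_id, ← e, Iso.symm_hom, Iso.inv_hom_id_assoc])
      (by simp [θ]) (by simp) (by simp)

end

end Groth.Agent.H60.SpecialExt
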