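import Groth.Agent.H60.GRingPerfect

/-!
Finitely generated algebras over a perfect field are G-rings.
-/

set_option autoImplicit false
set_option linter.style.haveILetI false

universe u

open IsLocalRing TensorProduct TrivSqZeroExt MvPolynomial
open Groth.Agent.H60.DerSection Groth.Agent.H60.GRingPerfect Groth.Agent.Lib.Excellent

namespace Groth.Agent.H60.GRingField

variable {k : Type u} [Field k] [PerfectField k] {σ : Type u} [Fintype σ]

/-- Finitely generated field points of a regular algebra carrying the partial derivatives are regular. -/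
theorem isRegularRing_tensor (T0 : Type u) [CommRing T0] [IsRegularRing T0]
    [Algebra (MvPolynomial σ k) T0]
    (hT : ∀ i, ∃ h : T0 →+* TrivSqZeroExt T0 T0, IsSec h ∧
      ∀ f, (h (algebraMap (MvPolynomial σ k) T0 f)).snd = algebraMap (MvPolynomial σ k) T0 (pderiv i f))
    (K : Type u) [Field K] [Algebra (MvPolynomial σ k) K] {τ : Type u} [Fintype τ] (y : τ → K)
    (hK : Subfield.closure (Set.range (algebraMap (MvPolynomial σ k) K) ∪ Set.range y) = ⊤)
    [IsNoetherianRing (K ⊗[MvPolynomial σ k] T0)] :
    IsRegularRing (K ⊗[MvPolynomial σ k] T0) := by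
  classical
  let S := MvPolynomial σ k
  let S' := MvPolynomial (σ ⊕ τ) k
  let T := MvPolynomial τ T0
  let R := K ⊗[S] T0
  let inK : K →+* R := (Algebra.TensorProduct.includeLeft : K →ₐ[S] R).toRingHom
  let inT : T0 →+* R := (Algebra.TensorProduct.includeRight : T0 →ₐ[S] R).toRingHom
  let χ : S' →+* K := eval₂Hom ((algebraMap S K).comp C) (Sum.elim (fun i => algebraMap S K (X i)) y)
  let inS : S' →+* T := eval₂Hom (C.comp ((algebraMap S T0).comp C))
    (Sum.elim (fun i => C (algebraMap S T0 (X i))) X)
  let ψ : T →+* R := eval₂Hom inT (fun i => inK (y i))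
  have hχC : ∀ a, χ (C a) = algebraMap S K (C a) := fun a => eval₂Hom_C _ _ a
  have hχl : ∀ i, χ (X (Sum.inl i)) = algebraMap S K (X i) := fun i => eval₂Hom_X' _ _ _
  have hχr : ∀ i, χ (X (Sum.inr i)) = y i := fun i => eval₂Hom_X' _ _ _
  have hinC : ∀ a, inS (C a) = C (algebraMap S T0 (C a)) := fun a => eval₂Hom_C _ _ a
  have hinl : ∀ i, inS (X (Sum.inl i)) = C (algebraMap S T0 (X i)) := fun i => eval₂Hom_X' _ _ _
  have hinr : ∀ i, inS (X (Sum.inr i)) = X i := fun i => eval₂Hom_X' _ _ _
  have hψC : ∀ a, ψ (C a) = inT a := fun a => eval₂Hom_C _ _ a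
  have hψX : ∀ i, ψ (X i) = inK (y i) := fun i => eval₂Hom_X' _ _ _
  have hST : ∀ f, inT (algebraMap S T0 f) = inK (algebraMap S K f) := fun f =>
    ((Algebra.TensorProduct.includeRight : T0 →ₐ[S] R).commutes f).trans
      ((Algebra.TensorProduct.includeLeft : K →ₐ[S] R).commutes f).symm
  have hψ : ψ.comp inS = inK.comp χ := by
    refine MvPolynomial.ringHom_ext (fun a => ?_) fun z => ?_
    · rw [RingHom.comp_apply, RingHom.comp_apply, hinC, hψC, hχC, hST]
    · cases z with
      | inl i => rw [RingHom.comp_apply, RingHom.comp_apply, hinl, hψC, hχl, hST]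
      | inr i => rw [RingHom.comp_apply, RingHom.comp_apply, hinr, hψX, hχr]
  let ι : S →+* S' := (rename Sum.inl : S →ₐ[k] S').toRingHom
  have hχS : χ.comp ι = algebraMap S K := by
    refine MvPolynomial.ringHom_ext (fun a => ?_) fun z => ?_ <;> simp [ι, hχC, hχl]
  have hinS : inS.comp ι = C.comp (algebraMap S T0) := by
    refine MvPolynomial.ringHom_ext (fun a => ?_) fun z => ?_ <;> simp [ι, hinC, hinl]
  let q := RingHom.ker χ
  haveI : q.IsPrime := RingHom.ker_isPrime _
  let L := Localization.AtPrime q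
  have hunit : ∀ s : q.primeCompl, IsUnit (χ s) := fun s => Ne.isUnit s.2
  let χq : L →+* K := IsLocalization.lift hunit
  have hχq : ∀ f, χq (algebraMap S' L f) = χ f := fun f => IsLocalization.lift_eq hunit f
  have hχsurj : Function.Surjective χq := by
    intro z
    have hz : z ∈ Subfield.closure (Set.range (algebraMap S K) ∪ Set.range y) := hK ▸ Subfield.mem_top z
    have hle : Subring.closure (Set.range (algebraMap S K) ∪ Set.range y) ≤ χ.range := by
      rw [Subring.closure_le]
      rintro _ (⟨f, rfl⟩ | ⟨i, rfl⟩)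
      · exact ⟨ι f, RingHom.congr_fun hχS f⟩
      · exact ⟨X (Sum.inr i), hχr i⟩
    obtain ⟨a, ha, b, hb, rfl⟩ := Subfield.mem_closure_iff.1 hz
    obtain ⟨a, rfl⟩ := hle ha
    obtain ⟨b, rfl⟩ := hle hb
    by_cases hb0 : χ b = 0
    · exact ⟨0, by simp [hb0]⟩
    · refine ⟨IsLocalization.mk' L a (⟨b, hb0⟩ : q.primeCompl), ?_⟩
      rw [eq_div_iff hb0, ← hχq, ← hχq, ← map_mul]
      exact congrArg χq (IsLocalization.mk'_spec L a (⟨b, hb0⟩ : q.primeCompl))
  refine isRegularRing_iff.2 fun Q _ => ?_
  let P := Q.comap ψ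
  let U := Localization.AtPrime P
  haveI : IsRegularLocalRing U := IsRegularRing.isRegularLocalRing_localization P
  have hPq : P.comap inS = q := by
    ext f
    have h1 : ψ (inS f) = inK (χ f) := RingHom.congr_fun hψ f
    change ψ (inS f) ∈ Q ↔ χ f = 0
    rw [h1]
    refine ⟨fun h => ?_, fun h => by rw [h, map_zero]; exact Q.zero_mem⟩
    by_contra hne
    exact (Ideal.IsPrime.ne_top ‹_›) (Ideal.eq_top_of_isUnit_mem Q h ((Ne.isUnit hne).map inK))
  let g : L →+* U := Localization.localRingHom q P inS hPq.symm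
  have hg : ∀ f, g (algebraMap S' L f) = algebraMap T U (inS f) :=
    fun f => Localization.localRingHom_to_map q P inS hPq.symm f
  haveI : IsLocalHom g := Localization.isLocalHom_localRingHom q P inS hPq.symm
  have hsec : ∀ z : σ ⊕ τ, ∃ h : T →+* TrivSqZeroExt T T, IsSec h ∧
      ∀ f, (h (inS f)).snd = inS (pderiv z f) := by
    have key : ∀ (z : σ ⊕ τ) (h : T →+* TrivSqZeroExt T T), IsSec h →
        (∀ a, (h (inS (C a))).snd = 0) → (∀ w, (h (inS (X w))).snd = inS (pderiv z (X w))) →
        ∀ f, (h (inS f)).snd = inS (pderiv z f) := by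
      intro z h hh hC hX f
      induction f using MvPolynomial.induction_on with
      | C a => rw [hC, pderiv_C, map_zero]
      | add f g hf hg => simp only [map_add, TrivSqZeroExt.snd_add, hf, hg]
      | mul_X f w hf =>
        rw [map_mul, hh.leibniz, hf, hX, pderiv_mul]
        simp only [map_add, map_mul]
        ring
    rintro (i | i)
    · obtain ⟨h, hh, hd0⟩ := hT i
      have hd : ∀ f : S, (h (algebraMap S T0 f)).snd = algebraMap S T0 (pderiv i f) := hd0
      obtain ⟨H, hH, hHC, hHX⟩ := exists_sec_mvPolynomial (τ := τ) h hh 0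
      refine ⟨H, hH, key _ H hH (fun a => ?_) fun w => ?_⟩
      · simp only [hinC, hHC, hd, pderiv_C, map_zero]
      · cases w with
        | inl w =>
          simp only [hinl, hHC, hd, pderiv_X]
          by_cases hiw : w = i
          · subst hiw; simp
          · simp [Pi.single_apply, hiw, Ne.symm hiw]
        | inr w =>
          simp [hinr, hHX, pderiv_X, Pi.single_apply]
    · obtain ⟨h, hh, hd⟩ := exists_sec_zero (A := T0)
      obtain ⟨H, hH, hHC, hHX⟩ := exists_sec_mvPolynomial (τ := τ) h hh (Pi.single i 1)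
      refine ⟨H, hH, key _ H hH (fun a => ?_) fun w => ?_⟩
      · simp only [hinC, hHC, hd, map_zero]
      · cases w with
        | inl w => simp [hinl, hHC, hd, pderiv_X, Pi.single_apply]
        | inr w =>
          simp only [hinr, hHX, pderiv_X]
          by_cases hiw : w = i
          · subst hiw; simp
          · simp [Pi.single_apply, hiw, Ne.symm hiw]
  have hU : ∀ z, ∃ h : U →+* TrivSqZeroExt U U, IsSec h ∧
      ∀ f, (h (g (algebraMap S' L f))).snd = g (algebraMap S' L (pderiv z f)) := by
    intro z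
    obtain ⟨h, hh, hd⟩ := hsec z
    obtain ⟨h', hh', hc⟩ := exists_sec_localization (A' := U) P.primeCompl h hh
    refine ⟨h', hh', fun f => ?_⟩
    rw [hg, hg, ← hd]
    have := congrArg TrivSqZeroExt.snd (RingHom.congr_fun hc (inS f))
    rwa [RingHom.comp_apply, RingHom.comp_apply, (push_apply _ _).2] at this
  let I := (maximalIdeal L).map g
  haveI : IsRegularLocalRing (U ⧸ I) := GRingPerfect.isRegularLocalRing_quotient q g hU
  -- the two comparison maps
  let RQ := Localization.AtPrime Q
  let F : U →+* RQ := Localization.localRingHom P Q ψ rfl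
  have hF : ∀ t, F (algebraMap T U t) = algebraMap R RQ (ψ t) :=
    fun t => Localization.localRingHom_to_map P Q ψ rfl t
  haveI : IsLocalHom F := Localization.isLocalHom_localRingHom P Q ψ rfl
  have hFg : F.comp g = ((algebraMap R RQ).comp inK).comp χq := by
    refine IsLocalization.ringHom_ext q.primeCompl (RingHom.ext fun f => ?_)
    simp only [RingHom.comp_apply, hg, hF, hχq]
    exact congrArg _ (RingHom.congr_fun hψ f)
  have hker : ∀ x ∈ maximalIdeal L, χq x = 0 := fun x hx => by
    by_contra h0
    obtain ⟨w, hw⟩ := hχsurj (χq x)⁻¹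
    have h1 : χq (x * w) = 1 := by rw [map_mul, hw, mul_inv_cancel₀ h0]
    obtain ⟨a, s, hs⟩ := IsLocalization.exists_mk'_eq q.primeCompl x
    have ha : a ∈ q := by
      rw [← hs] at hx
      exact (IsLocalization.AtPrime.mk'_mem_maximal_iff L q a s).1 hx
    have : χq x = 0 := by
      have h2 := congrArg χq (IsLocalization.mk'_spec L a s)
      rw [map_mul, hχq, hχq, show χ a = 0 from ha, hs] at h2
      exact (mul_eq_zero.1 h2).resolve_right s.2
    exact h0 this
  have hI : I ≤ RingHom.ker F := Ideal.map_le_iff_le_comap.2 fun x hx => by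
    change F (g x) = 0
    rw [show F (g x) = (F.comp g) x from rfl, hFg]
    simp [hker x hx]
  let Fb : U ⧸ I →+* RQ := Ideal.Quotient.lift I F fun x hx => hI hx
  let mkg : L →+* U ⧸ I := (Ideal.Quotient.mk I).comp g
  have hkerle : RingHom.ker χq ≤ RingHom.ker mkg := fun x hx => by
    have hx' : x ∈ maximalIdeal L := fun hu => not_isUnit_zero (hx ▸ hu.map χq)
    exact Ideal.Quotient.eq_zero_iff_mem.2 (Ideal.mem_map_of_mem g hx')
  let gK : K →+* U ⧸ I := RingHom.liftOfSurjective χq hχsurj ⟨mkg, hkerle⟩
  have hgK : ∀ x, gK (χq x) = mkg x := fun x => by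
    simp [gK, RingHom.liftOfRightInverse_comp_apply]
  let gT : T0 →+* U ⧸ I := ((Ideal.Quotient.mk I).comp (algebraMap T U)).comp C
  have hgST : ∀ f, gK (algebraMap S K f) = gT (algebraMap S T0 f) := fun f => by
    rw [← RingHom.congr_fun hχS f, RingHom.comp_apply, ← hχq, hgK]
    simp only [mkg, gT, RingHom.comp_apply, hg]
    exact congrArg (fun t => Ideal.Quotient.mk I (algebraMap T U t)) (RingHom.congr_fun hinS f)
  have hgT : ∀ f, gT (algebraMap S T0 f) = algebraMap S (U ⧸ I) f := fun f => rfl
  let G : R →ₐ[S] U ⧸ I := Algebra.TensorProduct.lift ({ gK with commutes' := fun f => (hgST f).trans (hgT f) } : K →ₐ[S] U ⧸ I)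
    ({ gT with commutes' := hgT } : T0 →ₐ[S] U ⧸ I) fun a b => Commute.all (S := U ⧸ I) (gK a) (gT b)
  have hGK : ∀ z, G (inK z) = gK z := fun z => by
    change G (z ⊗ₜ 1) = _
    refine (Algebra.TensorProduct.lift_tmul _ _ _ z 1).trans ?_
    change gK z * gT 1 = gK z
    rw [map_one gT]
    exact mul_one _
  have hGT : ∀ a, G (inT a) = gT a := fun a => by
    change G (1 ⊗ₜ a) = _
    refine (Algebra.TensorProduct.lift_tmul _ _ _ 1 a).trans ?_
    change gK 1 * gT a = gT a
    rw [map_one gK]
    exact one_mul _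
  have hFG : Fb.comp G.toRingHom = algebraMap R RQ := by
    refine Algebra.TensorProduct.ringHom_ext (RingHom.ext fun z => ?_) (RingHom.ext fun a => ?_)
    · obtain ⟨x, rfl⟩ := hχsurj z
      change Fb (G (inK (χq x))) = algebraMap R RQ (inK (χq x))
      rw [hGK, hgK]
      exact RingHom.congr_fun hFg x
    · change Fb (G (inT a)) = algebraMap R RQ (inT a)
      rw [hGT]
      change F (algebraMap T U (C a)) = _
      rw [hF]
      rw [hψC]
  haveI : IsLocalHom Fb := ⟨fun x hx => by
    obtain ⟨x, rfl⟩ := Ideal.Quotient.mk_surjective x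
    exact (isUnit_of_map_unit F x hx).map _⟩
  have hGu : ∀ r : Q.primeCompl, IsUnit (G.toRingHom r) := fun r =>
    isUnit_of_map_unit Fb _ (by
      rw [← RingHom.comp_apply, hFG]
      exact IsLocalization.map_units RQ r)
  let G' : RQ →+* U ⧸ I := IsLocalization.lift (P := U ⧸ I) (S := RQ) (M := Q.primeCompl) (g := G.toRingHom) hGu
  have hG' : ∀ r, G' (algebraMap R RQ r) = G r := fun r => IsLocalization.lift_eq hGu r
  have h1 : Fb.comp G' = RingHom.id RQ := by
    refine IsLocalization.ringHom_ext Q.primeCompl (RingHom.ext fun r => ?_)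
    change Fb (G' (algebraMap R RQ r)) = algebraMap R RQ r
    rw [hG']
    exact RingHom.congr_fun hFG r
  have h2 : G'.comp Fb = RingHom.id _ := by
    refine Ideal.Quotient.ringHom_ext (IsLocalization.ringHom_ext P.primeCompl
      (MvPolynomial.ringHom_ext (fun a => ?_) fun i => ?_))
    · change G' (F (algebraMap T U (C a))) = Ideal.Quotient.mk I (algebraMap T U (C a))
      rw [hF, hG', hψC, hGT]
      rfl
    · change G' (F (algebraMap T U (X i))) = Ideal.Quotient.mk I (algebraMap T U (X i))
      rw [hF, hG', hψX, hGK,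
        show y i = χq (algebraMap S' L (X (Sum.inr i))) by rw [hχq, hχr], hgK]
      simp only [mkg, RingHom.comp_apply, hg]
      congr 2
      rw [hinr]
  exact IsRegularLocalRing.of_ringEquiv (R := U ⧸ I) (RingEquiv.ofRingHom Fb G' h1 h2)

/-- The completion map of a local ring of affine space over a perfect field is regular. -/
theorem isRegularHom_cpl (p : Ideal (MvPolynomial σ k)) [p.IsPrime] (A : Type u) [CommRing A]
    [Algebra (MvPolynomial σ k) A] [IsLocalization.AtPrime A p] [IsRegularLocalRing A] :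
    CAlg.IsRegularHom A (AdicCompletion (maximalIdeal A) A) := by
  classical
  let S := MvPolynomial σ k
  let Ah := AdicCompletion (maximalIdeal A) A
  haveI : IsRegularRing Ah :=
    Groth.Agent.Lib.Regular45.Global.isRegularRing_adicCompletion A (maximalIdeal A)
  refine ⟨inferInstance, fun P _ => ⟨FibreNoetherian.isNoetherianRing_fibre _ P, ?_⟩⟩
  refine (FormalFibre.forall_fibre_iff (P := fun R [CommRing R] => IsRegularRing R)
    Transport.isoInvariant_isRegularRing Ah).2 (fun K _ _ hK => ?_) P
  haveI : IsNoetherianRing (K ⊗[A] Ah) :=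
    Groth.Agent.Lib.EGA75.Complete.isNoetherianRing_finPoint A Ah K hK
  letI : Algebra S K := ((algebraMap A K).comp (algebraMap S A)).toAlgebra
  haveI : IsScalarTower S A K := .of_algebraMap_eq' rfl
  haveI : TensorProduct.CompatibleSMul S A K Ah := IsLocalization.tensorProduct_compatibleSMul p.primeCompl A K Ah
  have e : K ⊗[A] Ah ≃ₐ[A] K ⊗[S] Ah := Algebra.TensorProduct.equivOfCompatibleSMul S A A K Ah
  haveI : IsNoetherianRing (K ⊗[S] Ah) := isNoetherianRing_of_ringEquiv _ e.toRingEquiv
  obtain ⟨B, hB, hfr⟩ := hK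
  obtain ⟨t, ht⟩ := (Module.Finite.iff_fg (N := B.toSubmodule)).1 hB
  have hcl : Subfield.closure (Set.range (algebraMap S K) ∪
      Set.range (fun i : (t : Set K) => (i : K))) = ⊤ := by
    set Fld := Subfield.closure (Set.range (algebraMap S K) ∪ Set.range (fun i : (t : Set K) => (i : K)))
    have hA : ∀ a : A, algebraMap A K a ∈ Fld := fun a => by
      obtain ⟨f, s, rfl⟩ := IsLocalization.exists_mk'_eq p.primeCompl a
      have hu : IsUnit (algebraMap A K (algebraMap S A s)) := (IsLocalization.map_units A s).map _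
      have h2 : algebraMap A K (IsLocalization.mk' A f s) = algebraMap S K f / algebraMap S K s := by
        rw [IsScalarTower.algebraMap_apply S A K, IsScalarTower.algebraMap_apply S A K,
          eq_div_iff hu.ne_zero, ← map_mul, IsLocalization.mk'_spec]
      rw [h2]
      exact div_mem (Subfield.subset_closure (Or.inl ⟨f, rfl⟩)) (Subfield.subset_closure (Or.inl ⟨s, rfl⟩))
    have hBF : ∀ x ∈ B, x ∈ Fld := fun x hx => by
      have hx' : x ∈ Submodule.span A (t : Set K) := ht ▸ hx
      clear hx
      induction hx' using Submodule.span_induction with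
      | mem x hx => exact Subfield.subset_closure (Or.inr ⟨⟨x, hx⟩, rfl⟩)
      | zero => exact Fld.zero_mem
      | add x y _ _ hx hy => exact Fld.add_mem hx hy
      | smul a x _ hx => rw [Algebra.smul_def]; exact Fld.mul_mem (hA a) hx
    refine eq_top_iff.2 fun z _ => ?_
    obtain ⟨a, b, -, rfl⟩ := IsFractionRing.div_surjective B z
    exact div_mem (hBF _ a.2) (hBF _ b.2)
  haveI : IsRegularRing (K ⊗[S] Ah) := isRegularRing_tensor Ah (fun i => by
    let h0 := ofLeibniz (A := S) (pderiv i : Derivation k S S).toLinearMap.toAddMonoidHom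
      (fun x y => by simp)
    obtain ⟨h1, hs1, hc1⟩ := exists_sec_localization (A' := A) p.primeCompl h0 (ofLeibniz_isSec _ _)
    obtain ⟨h2, hs2, hc2⟩ := exists_sec_completion (maximalIdeal A) h1 hs1
    refine ⟨h2, hs2, fun f => ?_⟩
    have e1 := congrArg TrivSqZeroExt.snd (RingHom.congr_fun hc1 f)
    rw [RingHom.comp_apply, RingHom.comp_apply, (push_apply _ _).2, snd_ofLeibniz] at e1
    have e2 := congrArg TrivSqZeroExt.snd (RingHom.congr_fun hc2 (algebraMap S A f))
    rw [RingHom.comp_apply, RingHom.comp_apply, (push_apply _ _).2, e1] at e2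
    exact e2) K (fun i : (t : Set K) => (i : K)) hcl
  exact IsRegularRing.of_ringEquiv (R := K ⊗[S] Ah) e.symm.toRingEquiv

/-- Polynomial rings over a perfect field are G-rings. -/
theorem isGRing_mvPolynomial : CAlg.IsGRing (MvPolynomial σ k) :=
  ⟨inferInstance, fun p _ =>
    haveI : IsRegularLocalRing (Localization.AtPrime p) := IsRegularRing.isRegularLocalRing_localization p
    isRegularHom_cpl p (Localization.AtPrime p)⟩

/-- Finitely generated algebras over a perfect field are G-rings. -/
theorem isGRing (k : Type u) [Field k] [PerfectField k] (A : Type u) [CommRing A] [Algebra k A]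
    [Algebra.FiniteType k A] : CAlg.IsGRing A := by
  obtain ⟨n, f, hf⟩ := Algebra.FiniteType.iff_quotient_mvPolynomial''.1 (inferInstance : Algebra.FiniteType k A)
  let e0 := MvPolynomial.renameEquiv k (Equiv.ulift.{u, 0} : ULift.{u} (Fin n) ≃ Fin n)
  let f' := f.comp e0.toAlgHom
  have hf' : Function.Surjective f' := hf.comp e0.surjective
  have h := GRingStability.isGRing_quotient (isGRing_mvPolynomial (k := k) (σ := ULift.{u} (Fin n)))
    (RingHom.ker f')
  let e := Ideal.quotientKerAlgEquivOfSurjective hf'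
  letI := e.toRingEquiv.toRingHom.toAlgebra
  haveI := IsLocalization.self (R := MvPolynomial (ULift.{u} (Fin n)) k ⧸ RingHom.ker f') (M := ⊥)
    (fun x hx => by rw [Submonoid.mem_bot] at hx; subst hx; exact isUnit_one)
  haveI : IsLocalization (⊥ : Submonoid (MvPolynomial (ULift.{u} (Fin n)) k ⧸ RingHom.ker f')) A := by
    refine IsLocalization.isLocalization_of_algEquiv ⊥
      (AlgEquiv.ofRingEquiv (f := e.toRingEquiv) fun _ => rfl)
  exact GRingStability.isGRing_of_isLocalization ⊥ h

end Groth.Agent.H60.GRingField
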