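import Groth.Agent.H60.DerSection
import Groth.Agent.Lib.Regular.Serre
import Groth.Agent.Lib.Regular45.Global
import Groth.Agent.Lib.Excellent.GRingStability
import Groth.Agent.Lib.EGA75.Complete
import Groth.Agent.Lib.SymGr.BaseChange
import Mathlib.RingTheory.RegularLocalRing.Polynomial
import Mathlib.Algebra.MvPolynomial.PDeriv
import Mathlib.RingTheory.Smooth.Field

/-!
Finitely generated algebras over a perfect field are G-rings, by the Jacobian argument.
-/

set_option autoImplicit false
set_option linter.style.haveILetI false

universe u

open IsLocalRing TensorProduct TrivSqZeroExt MvPolynomial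
open Groth.Agent.H60.DerSection

namespace Groth.Agent.H60.GRingPerfect

variable {k : Type u} [Field k] {ρ : Type u} [Fintype ρ]

/-- An additive Leibniz map on a localization vanishing on the ring is zero. -/
theorem eq_zero_of_localization {S S' M : Type u} [CommRing S] [CommRing S'] [Algebra S S']
    (N : Submonoid S) [IsLocalization N S'] [AddCommGroup M] [Module S' M] (δ : S' → M)
    (hδ : ∀ x y, δ (x * y) = x • δ y + y • δ x) (h0 : ∀ s, δ (algebraMap S S' s) = 0) (x : S') :
    δ x = 0 := by
  obtain ⟨s, t, rfl⟩ := IsLocalization.exists_mk'_eq N x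
  have h := hδ (IsLocalization.mk' S' s t) (algebraMap S S' t)
  rw [IsLocalization.mk'_spec, h0, h0, smul_zero, zero_add] at h
  exact (IsUnit.smul_eq_zero (IsLocalization.map_units S' t)).1 h.symm

variable (q : Ideal (MvPolynomial ρ k)) [q.IsPrime]

/-- The partial derivatives on the local ring, with their joint detection of cotangent classes. -/
theorem exists_jacobian [PerfectField k] :
    ∃ (h : ρ → (Localization.AtPrime q →+* TrivSqZeroExt (Localization.AtPrime q) (Localization.AtPrime q))),
      (∀ j, IsSec (h j)) ∧
      (∀ j f, (h j (algebraMap (MvPolynomial ρ k) (Localization.AtPrime q) f)).snd =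
        algebraMap (MvPolynomial ρ k) (Localization.AtPrime q) (pderiv j f)) ∧
      ∃ (c : ℕ) (f : Fin c → Localization.AtPrime q) (N : ρ → Fin c → Localization.AtPrime q),
        Ideal.span (Set.range f) = maximalIdeal _ ∧
        ∀ i l, (∑ j, (h j (f i)).snd * N j l) - (if i = l then 1 else 0) ∈ maximalIdeal _ := by
  classical
  let S := MvPolynomial ρ k
  let L := Localization.AtPrime q
  have hp : ∀ j : ρ, ∃ h : L →+* TrivSqZeroExt L L, IsSec h ∧
      ∀ f, (h (algebraMap S L f)).snd = algebraMap S L (pderiv j f) := fun j => by
    let h0 := ofLeibniz (A := S) (pderiv j : Derivation k S S).toLinearMap.toAddMonoidHom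
      (fun x y => by simp [pderiv_mul])
    obtain ⟨h', hs, hc⟩ := exists_sec_localization (A' := L) q.primeCompl h0 (ofLeibniz_isSec _ _)
    refine ⟨h', hs, fun f => ?_⟩
    have := congrArg TrivSqZeroExt.snd (RingHom.congr_fun hc f)
    rw [RingHom.comp_apply, RingHom.comp_apply, (push_apply _ _).2, snd_ofLeibniz] at this
    exact this
  choose h hs hpd using hp
  refine ⟨h, hs, hpd, ?_⟩
  let κ := ResidueField L
  have hsmL : Algebra.FormallySmooth k L := by
    haveI : Algebra.FormallySmooth S L := Algebra.FormallySmooth.of_isLocalization q.primeCompl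
    exact Algebra.FormallySmooth.comp k S L
  haveI : Algebra.EssFiniteType S L := Algebra.EssFiniteType.of_isLocalization _ q.primeCompl
  haveI : Algebra.EssFiniteType k L := Algebra.EssFiniteType.comp k S L
  have hsurj : Function.Surjective (algebraMap L κ) := Ideal.Quotient.mk_surjective
  haveI : Algebra.EssFiniteType L κ :=
    haveI : Algebra.FiniteType L κ := Algebra.FiniteType.of_surjective (Algebra.ofId L κ) hsurj
    inferInstance
  haveI : Algebra.EssFiniteType k κ := Algebra.EssFiniteType.comp k L κ
  have hsmκ : Algebra.FormallySmooth k κ := Algebra.FormallySmooth.of_perfectField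
  have hinj : Function.Injective (KaehlerDifferential.kerCotangentToTensor k L κ) := by
    obtain ⟨l, hl⟩ := (Algebra.FormallySmooth.iff_split_injection (R := k) hsurj).1 hsmκ
    exact Function.LeftInverse.injective (LinearMap.congr_fun hl)
  -- every differential is a combination of the partials
  have hD : ∀ x : L, KaehlerDifferential.D k L x =
      ∑ j, (h j x).snd • KaehlerDifferential.D k L (algebraMap S L (X j)) := by
    intro x
    rw [← sub_eq_zero]
    refine eq_zero_of_localization (S := S) q.primeCompl
      (fun x => KaehlerDifferential.D k L x -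
        ∑ j, (h j x).snd • KaehlerDifferential.D k L (algebraMap S L (X j))) (fun x y => ?_) (fun f => ?_) x
    · simp only [Derivation.leibniz, (hs _).leibniz, add_smul, Finset.sum_add_distrib, mul_smul,
        Finset.smul_sum, smul_sub]
      abel
    · show KaehlerDifferential.D k L (algebraMap S L f) - _ = 0
      simp only [hpd, sub_eq_zero]
      induction f using MvPolynomial.induction_on with
      | C a =>
        have hc : algebraMap S L (C a) = algebraMap k L a := by
          rw [IsScalarTower.algebraMap_apply k S L]; rfl
        rw [hc, Derivation.map_algebraMap]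
        refine (Finset.sum_eq_zero fun j _ => ?_).symm
        rw [pderiv_C, map_zero]
        exact Module.zero_smul (R := L) (KaehlerDifferential.D k L (algebraMap S L (X j)))
      | add f g hf hg =>
        rw [map_add, map_add, hf, hg, ← Finset.sum_add_distrib]
        refine Finset.sum_congr rfl fun j _ => ?_
        rw [map_add, map_add]
        exact (Module.add_smul (R := L) (algebraMap S L (pderiv j f)) (algebraMap S L (pderiv j g))
          (KaehlerDifferential.D k L (algebraMap S L (X j)))).symm
      | mul_X f i hf =>
        have hpm : ∀ j, algebraMap S L (pderiv j (f * X i)) =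
            algebraMap S L f * (if j = i then 1 else 0) + algebraMap S L (X i) * algebraMap S L (pderiv j f) := by
          intro j
          rw [pderiv_mul, map_add, map_mul, map_mul, pderiv_X, Pi.single_apply, apply_ite (algebraMap S L),
            map_one, map_zero]
          by_cases hji : j = i
          · subst hji; simp [mul_comm, add_comm]
          · simp [hji, Ne.symm hji, mul_comm]
        simp only [hpm]
        rw [map_mul, Derivation.leibniz, hf, Finset.smul_sum]
        have hsplit : ∀ (a b : L) (m : KaehlerDifferential k L), (a + b) • m = a • m + b • m :=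
          fun a b m => add_smul a b m
        simp only [hsplit, Finset.sum_add_distrib, mul_smul]
        congr 1
        rw [Finset.sum_eq_single i (fun j _ hj => by rw [if_neg hj, mul_zero]; exact Module.zero_smul (R := L) (KaehlerDifferential.D k L (algebraMap S L (X j))))
          (fun hi => absurd (Finset.mem_univ i) hi), if_pos rfl, mul_one]
        exact Finset.sum_congr rfl fun j _ => (SemigroupAction.mul_smul (α := L) (algebraMap S L (X i)) (algebraMap S L (pderiv j f)) (KaehlerDifferential.D k L (algebraMap S L (X j)))).symm
  -- kernel of the Jacobian map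
  have hker : ∀ (x : L) (hx : x ∈ maximalIdeal L), (∀ j, (h j x).snd ∈ maximalIdeal L) →
      x ∈ maximalIdeal L ^ 2 := by
    intro x hx hj
    have hmem : x ∈ RingHom.ker (algebraMap L κ) := Ideal.Quotient.eq_zero_iff_mem.2 hx
    have h0 : Ideal.toCotangent _ ⟨x, hmem⟩ = 0 := by
      refine hinj ?_
      rw [map_zero, KaehlerDifferential.kerCotangentToTensor_toCotangent, hD x, TensorProduct.tmul_sum]
      refine Finset.sum_eq_zero fun j _ => ?_
      refine (TensorProduct.smul_tmul (R := L) (h j x).snd (1 : κ)
        (KaehlerDifferential.D k L (algebraMap S L (X j)))).symm.trans ?_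
      rw [Algebra.smul_def, show algebraMap L κ (h j x).snd = 0 from
        Ideal.Quotient.eq_zero_iff_mem.2 (hj j), zero_mul, TensorProduct.zero_tmul]
    have h2 : x ∈ RingHom.ker (algebraMap L κ) ^ 2 := (Ideal.toCotangent_eq_zero _ _).1 h0
    rwa [show RingHom.ker (algebraMap L κ) = maximalIdeal L from Ideal.mk_ker] at h2
  -- a basis of the cotangent space and an inverse of its Jacobian
  let b := Module.finBasis κ (CotangentSpace L)
  choose f hf using fun i => (maximalIdeal L).toCotangent_surjective (b i)
  have hsp : Submodule.span L (Set.range f) = ⊤ :=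
    CotangentSpace.span_image_eq_top_iff.mp (by
      rw [← Set.range_comp, show ((maximalIdeal L).toCotangent ∘ f) = b from funext hf]
      exact b.span_eq)
  have hspan : Ideal.span (Set.range fun i => (f i : L)) = maximalIdeal L := by
    have := congrArg (Submodule.map (maximalIdeal L).subtype) hsp
    rw [Submodule.map_span, Submodule.map_subtype_top, ← Set.range_comp] at this
    exact this
  let J : (Fin (Module.finrank κ (CotangentSpace L)) → κ) →ₗ[κ] ρ → κ :=
    LinearMap.pi fun j => ∑ i, residue L (h j (f i)).snd • LinearMap.proj i
  have hJ : LinearMap.ker J = ⊥ := by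
    rw [LinearMap.ker_eq_bot']
    intro v hv
    choose c hc using fun i => IsLocalRing.residue_surjective (v i)
    have hxm : ∑ i, c i * (f i : L) ∈ maximalIdeal L :=
      sum_mem fun i _ => Ideal.mul_mem_left _ _ (f i).2
    have hx2 := hker _ hxm fun j => by
      rw [← residue_eq_zero_iff]
      have hsum : (h j (∑ i, c i * (f i : L))).snd =
          ∑ i, (c i * (h j (f i)).snd + (f i : L) * (h j (c i)).snd) := by
        rw [map_sum, TrivSqZeroExt.snd_sum]
        exact Finset.sum_congr rfl fun i _ => (hs j).leibniz _ _
      have hz : ∀ i, residue L (f i : L) = 0 := fun i => (residue_eq_zero_iff _).2 (f i).2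
      rw [hsum, map_sum]
      have := congrFun hv j
      simp only [J, LinearMap.pi_apply, LinearMap.sum_apply, LinearMap.smul_apply, LinearMap.proj_apply,
        smul_eq_mul, Pi.zero_apply] at this
      simpa [map_add, map_mul, hc, hz, mul_comm] using this
    have hz : ∑ i, c i • (maximalIdeal L).toCotangent (f i) = 0 := by
      simp only [← map_smul, ← map_sum]
      exact (Ideal.toCotangent_eq_zero _ _).2 (by simpa using hx2)
    have hli := Fintype.linearIndependent_iff.1 b.linearIndependent v ?_
    · exact funext hli
    · rw [← hz]
      refine Finset.sum_congr rfl fun i _ => ?_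
      rw [hf i, ← hc i]
      rfl
  obtain ⟨G, hG⟩ := LinearMap.exists_leftInverse_of_injective J hJ
  choose N hN using fun (j : ρ) l => IsLocalRing.residue_surjective (G (Pi.single j 1) l)
  refine ⟨_, fun i => (f i : L), N, hspan, fun i l => ?_⟩
  rw [← residue_eq_zero_iff, map_sub, sub_eq_zero, map_sum]
  have hJi : J (Pi.single i 1) = fun j => residue L (h j (f i)).snd := by
    funext j
    simp [J, Pi.single_apply]
  have key : G (J (Pi.single i 1)) = Pi.single i (1 : κ) := LinearMap.congr_fun hG _
  rw [hJi, show (fun j => residue L (h j (f i)).snd) =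
    ∑ j, residue L (h j (f i)).snd • (Pi.single j (1 : κ) : ρ → κ) from (pi_eq_sum_univ' _), map_sum] at key
  have := congrFun key l
  simp only [Finset.sum_apply, map_smul, Pi.smul_apply, smul_eq_mul] at this
  rw [apply_ite (residue L), map_one, map_zero]
  refine (Finset.sum_congr rfl fun j _ => ?_).trans (this.trans ?_)
  · rw [map_mul]
    exact congrArg _ (hN j l)
  · simp [Pi.single_apply, eq_comm]

/-- A regular local ring over the local ring with liftings of the partials has regular closed fibre. -/
theorem isRegularLocalRing_quotient [PerfectField k] {U : Type u} [CommRing U] [IsRegularLocalRing U]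
    (g : Localization.AtPrime q →+* U) [IsLocalHom g]
    (hU : ∀ j, ∃ h : U →+* TrivSqZeroExt U U, IsSec h ∧
      ∀ f, (h (g (algebraMap (MvPolynomial ρ k) _ f))).snd =
        g (algebraMap (MvPolynomial ρ k) _ (pderiv j f))) :
    IsRegularLocalRing (U ⧸ (maximalIdeal (Localization.AtPrime q)).map g) := by
  classical
  obtain ⟨h, hs, hpd, c, f, N, hspan, hN⟩ := exists_jacobian q
  choose H hHs hHpd using hU
  have hcomm : ∀ j x, (H j (g x)).snd = g (h j x).snd := fun j => by
    have e : (H j).comp g = (push g).comp (h j) := by
      refine IsLocalization.ringHom_ext q.primeCompl (RingHom.ext fun s => TrivSqZeroExt.ext ?_ ?_)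
      · simp only [RingHom.comp_apply]; rw [hHs, (push_apply _ _).1, hs]
      · simp only [RingHom.comp_apply]; rw [hHpd, (push_apply _ _).2, hpd]
    intro x
    have := congrArg TrivSqZeroExt.snd (RingHom.congr_fun e x)
    rwa [RingHom.comp_apply, RingHom.comp_apply, (push_apply _ _).2] at this
  have hfm : ∀ i, f i ∈ maximalIdeal _ := fun i => hspan ▸ Ideal.subset_span ⟨i, rfl⟩
  have hgm : ∀ x ∈ maximalIdeal (Localization.AtPrime q), g x ∈ maximalIdeal U :=
    fun x hx hu => hx (isUnit_of_map_unit g x hu)
  let F : Fin c → maximalIdeal U := fun i => ⟨g (f i), hgm _ (hfm i)⟩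
  have hli : LinearIndependent (ResidueField U) (fun i => (maximalIdeal U).toCotangent (F i)) := by
    rw [Fintype.linearIndependent_iff]
    intro v hv
    choose a ha using fun i => IsLocalRing.residue_surjective (v i)
    have hx2 : ∑ i, a i * g (f i) ∈ maximalIdeal U ^ 2 := by
      have hz : (maximalIdeal U).toCotangent (∑ i, a i • F i) = 0 := by
        rw [map_sum, ← hv]
        refine Finset.sum_congr rfl fun i _ => ?_
        rw [map_smul, ← ha i]
        rfl
      simpa [F] using (Ideal.toCotangent_eq_zero _ _).1 hz
    have hj : ∀ j, ∑ i, v i * residue U (g (h j (f i)).snd) = 0 := fun j => by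
      have h1 := (hHs j).snd_mem (maximalIdeal U) 1 _ hx2
      rw [pow_one, ← residue_eq_zero_iff, map_sum, TrivSqZeroExt.snd_sum, map_sum] at h1
      rw [← h1]
      refine Finset.sum_congr rfl fun i _ => ?_
      rw [(hHs j).leibniz, map_add, map_mul, map_mul, ha, hcomm,
        (residue_eq_zero_iff (g (f i))).2 (hgm _ (hfm i)), zero_mul, add_zero]
    intro l
    have h2 : ∀ i, residue U (∑ j, g (h j (f i)).snd * g (N j l)) =
        residue U (if i = l then 1 else 0) := fun i => by
      rw [← sub_eq_zero, ← map_sub, residue_eq_zero_iff]
      have := hgm _ (hN i l)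
      simpa [map_sub, map_sum, map_mul, apply_ite g] using this
    have h3 : v l = ∑ i, v i * residue U (if i = l then 1 else 0) := by
      simp [apply_ite (residue U)]
    rw [h3, Finset.sum_congr rfl fun i _ => (congrArg (v i * ·) (h2 i)).symm]
    simp only [map_sum, map_mul, Finset.mul_sum]
    rw [Finset.sum_comm]
    refine Finset.sum_eq_zero fun j _ => ?_
    simp only [← mul_assoc, ← Finset.sum_mul]
    rw [hj j, zero_mul]
  have := (Groth.Agent.Lib.Regular.Indep.quotient_of_indep F hli).1
  rwa [show (maximalIdeal (Localization.AtPrime q)).map g =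
    Ideal.span (Set.range fun i => (F i : U)) by rw [← hspan, Ideal.map_span, ← Set.range_comp]; rfl]

end Groth.Agent.H60.GRingPerfect
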