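import Groth.Agent.Lib.Comod.Linear
import Groth.Agent.Lib.Comod.Diag
import Mathlib.Algebra.MonoidAlgebra.Basic
import Mathlib.RingTheory.FiniteType
import Mathlib.Data.Int.Interval
import Mathlib.RingTheory.Polynomial.Basic
import Mathlib.RingTheory.IntegralClosure.Algebra.Basic
import Mathlib.RingTheory.Spectrum.Prime.RingHom

/-!
Diagonal actions of the multiplicative group on affine space.
-/

universe u v

open TensorProduct LaurentPolynomial Groth.Agent.Lib.Comod.Basic Groth.Agent.Lib.Comod.Reynolds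
  Groth.Agent.Lib.Comod.Alg Groth.Agent.Lib.Comod.Orbits Groth.Agent.Lib.Comod.Linear

namespace Groth.Agent.H60.GmDiag

set_option linter.unusedSectionVars false
set_option linter.style.haveILetI false

noncomputable section

variable {k : Type u} [Field k] {ι : Type u} [Fintype ι]
  [HopfRep.Comod k k[T;T⁻¹] (MvPolynomial ι k)] [GLin.IsCoactAlg k k[T;T⁻¹] (MvPolynomial ι k)]
  {r : ι → ℤ}
  (hr : ∀ i : ι, HopfRep.Comod.coact (k := k) (A := k[T;T⁻¹]) (MvPolynomial.X i : MvPolynomial ι k) =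
      (MvPolynomial.X i : MvPolynomial ι k) ⊗ₜ[k] (T (r i) : k[T;T⁻¹]))

/-- The weight of a monomial. -/
def wtE (r : ι → ℤ) (e : ι →₀ ℕ) : ℤ := ∑ i, (e i : ℤ) * r i

include hr

theorem coact_monomial (e : ι →₀ ℕ) :
    HopfRep.Comod.coact (k := k) (A := k[T;T⁻¹]) (MvPolynomial.monomial e 1 : MvPolynomial ι k) =
      (MvPolynomial.monomial e 1 : MvPolynomial ι k) ⊗ₜ[k] (T (wtE r e) : k[T;T⁻¹]) := by
  classical
  induction e using Finsupp.induction_linear with
  | zero =>
    rw [MvPolynomial.monomial_zero', map_one, GLin.IsCoactAlg.coact_one, Algebra.TensorProduct.one_def]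
    simp [wtE]
  | add e f he hf =>
    rw [show MvPolynomial.monomial (e + f) (1 : k) = MvPolynomial.monomial e 1 * MvPolynomial.monomial f 1 by
      rw [MvPolynomial.monomial_mul, one_mul], GLin.IsCoactAlg.coact_mul, he, hf,
      Algebra.TensorProduct.tmul_mul_tmul, ← T_add]
    congr 2
    simp [wtE, Finsupp.add_apply, add_mul, Finset.sum_add_distrib]
  | single i n =>
    rw [← MvPolynomial.X_pow_eq_monomial, ← GLin.coactAlgHom_apply, map_pow, GLin.coactAlgHom_apply,
      hr, Algebra.TensorProduct.tmul_pow, T_pow]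
    congr 2
    simp [wtE, Finsupp.single_apply]

theorem dact_monomial (φ : k[T;T⁻¹] →ₗ[k] k) (e : ι →₀ ℕ) (c : k) :
    dact (MvPolynomial ι k) φ (MvPolynomial.monomial e c) =
      φ (T (wtE r e)) • MvPolynomial.monomial e c := by
  rw [show MvPolynomial.monomial e c = c • MvPolynomial.monomial e (1 : k) by
    rw [MvPolynomial.smul_monomial, smul_eq_mul, mul_one], map_smul, dact_apply, coact_monomial hr,
    contract_tmul, smul_comm]

theorem monomial_mem_invariants {e : ι →₀ ℕ} (he : wtE r e = 0) :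
    MvPolynomial.monomial e (1 : k) ∈ GLin.invariants k k[T;T⁻¹] (MvPolynomial ι k) := by
  rw [GLin.mem_invariants_iff, coact_monomial hr, he, T_zero]

theorem wt_eq_zero_of_mem {F : MvPolynomial ι k}
    (hF : F ∈ GLin.invariants k k[T;T⁻¹] (MvPolynomial ι k)) {e : ι →₀ ℕ}
    (he : F.coeff e ≠ 0) : wtE r e = 0 := by
  classical
  let φ : k[T;T⁻¹] →ₗ[k] k := (Finsupp.lapply (0 : ℤ)) ∘ₗ (AddMonoidAlgebra.coeffLinearEquiv k).toLinearMap
  have h := congrArg (MvPolynomial.coeff e) (mem_fixedPts_iff.1 hF φ)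
  have hφ : ∀ n : ℤ, φ (T n) = if n = 0 then 1 else 0 := fun n => T_apply (R := k) 0 n
  conv_lhs at h => rw [MvPolynomial.as_sum F, map_sum, MvPolynomial.coeff_sum]
  simp only [dact_monomial hr, MvPolynomial.coeff_smul, MvPolynomial.coeff_monomial, hφ] at h
  rw [Finset.sum_eq_single e (fun b _ hb => by simp [hb])
    (fun hb => absurd (MvPolynomial.mem_support_iff.2 he) hb), if_pos rfl] at h
  have h1 : φ (1 : k[T;T⁻¹]) = 1 := by rw [← T_zero, hφ, if_pos rfl]
  rw [h1, one_smul] at h
  by_contra hne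
  rw [if_neg hne, zero_smul] at h
  exact he h.symm

theorem orbitHom_X (v : ι → k) (i : ι) :
    GLin.orbitHom k k[T;T⁻¹] (GLin.vecPt k ι v) (MvPolynomial.X i) = v i • T (r i) := by
  simp [GLin.orbitHom, hr i]

theorem semistable_iff (v : ι → k) :
    GLin.IsSemistableVec k k[T;T⁻¹] v ↔ ∃ i j : ι, v i ≠ 0 ∧ v j ≠ 0 ∧ r i ≤ 0 ∧ 0 ≤ r j := by
  classical
  simp only [GLin.IsSemistableVec, GLin.IsNullform, not_forall, exists_prop]
  constructor
  · rintro ⟨F, hF, d, hd, hhom, hne⟩
    rw [MvPolynomial.eval_eq'] at hne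
    obtain ⟨e, he, hterm⟩ := Finset.exists_ne_zero_of_sum_ne_zero hne
    have hce := MvPolynomial.mem_support_iff.1 he
    have hw := wt_eq_zero_of_mem hr hF hce
    have hv : ∀ i, e i ≠ 0 → v i ≠ 0 := by
      intro i hi hvi
      refine hterm ?_
      rw [Finset.prod_eq_zero (Finset.mem_univ i) (by rw [hvi, zero_pow hi]), mul_zero]
    have he0 : ∃ i, e i ≠ 0 := by
      by_contra hcon
      push Not at hcon
      have := hhom hce
      rw [show e = 0 from Finsupp.ext hcon, map_zero] at this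
      omega
    obtain ⟨i₀, hi₀⟩ := he0
    have hi : ∃ i, e i ≠ 0 ∧ r i ≤ 0 := by
      by_contra hcon
      push Not at hcon
      have hpos : 0 < wtE r e := by
        refine Finset.sum_pos' (fun i _ => ?_) ⟨i₀, Finset.mem_univ _,
          mul_pos (by omega) (hcon i₀ hi₀)⟩
        rcases eq_or_ne (e i) 0 with h | h
        · simp [h]
        · exact mul_nonneg (by positivity) (hcon i h).le
      omega
    have hj : ∃ i, e i ≠ 0 ∧ 0 ≤ r i := by
      by_contra hcon
      push Not at hcon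
      have hneg : wtE r e < 0 := by
        refine Finset.sum_neg' (fun i _ => ?_) ⟨i₀, Finset.mem_univ _,
          mul_neg_of_pos_of_neg (by omega) (hcon i₀ hi₀)⟩
        rcases eq_or_ne (e i) 0 with h | h
        · simp [h]
        · exact mul_nonpos_of_nonneg_of_nonpos (by positivity) (hcon i h).le
      omega
    obtain ⟨i, hi1, hi2⟩ := hi
    obtain ⟨j, hj1, hj2⟩ := hj
    exact ⟨i, j, hv i hi1, hv j hj1, hi2, hj2⟩
  · rintro ⟨i, j, hvi, hvj, hri, hrj⟩
    obtain ⟨a, c, hac, hw⟩ : ∃ a c : ℕ, 0 < a + c ∧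
        wtE r (Finsupp.single i a + Finsupp.single j c) = 0 := by
      have hwt : ∀ a c : ℕ, wtE r (Finsupp.single i a + Finsupp.single j c) = a * r i + c * r j := by
        intro a c
        simp [wtE, Finsupp.single_apply, add_mul, Finset.sum_add_distrib]
      by_cases h0 : r i = 0
      · exact ⟨1, 0, by omega, by rw [hwt]; simp [h0]⟩
      · refine ⟨(r j).toNat, (-r i).toNat, by omega, ?_⟩
        rw [hwt, Int.toNat_of_nonneg hrj, Int.toNat_of_nonneg (by omega)]
        ring
    refine ⟨MvPolynomial.monomial (Finsupp.single i a + Finsupp.single j c) 1,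
      monomial_mem_invariants hr hw, a + c, hac,
      MvPolynomial.isHomogeneous_monomial _ (by simp [map_add, Finsupp.degree_single]), ?_⟩
    rw [MvPolynomial.eval_monomial, one_mul, Finsupp.prod_add_index' (by simp) (by simp [pow_add]),
      Finsupp.prod_single_index (by simp), Finsupp.prod_single_index (by simp)]
    exact mul_ne_zero (pow_ne_zero _ hvi) (pow_ne_zero _ hvj)

theorem orbitHom_finite {v : ι → k} {i j : ι} (hvi : v i ≠ 0) (hvj : v j ≠ 0)
    (hi : r i < 0) (hj : 0 < r j) :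
    (GLin.orbitHom k k[T;T⁻¹] (GLin.vecPt k ι v)).toRingHom.IsIntegral := by
  set φ := GLin.orbitHom k k[T;T⁻¹] (GLin.vecPt k ι v)
  have hT : ∀ l, v l ≠ 0 → ∀ n : ℕ, ∃ f, φ f = T (n * r l) := by
    intro l hl n
    refine ⟨((v l)⁻¹ • MvPolynomial.X l) ^ n, ?_⟩
    rw [map_pow, map_smul, orbitHom_X hr, smul_smul, inv_mul_cancel₀ hl, one_smul, T_pow]
  obtain ⟨a, ha⟩ : ∃ a : ℕ, (a : ℤ) = r j := ⟨(r j).toNat, Int.toNat_of_nonneg hj.le⟩
  obtain ⟨c, hc⟩ : ∃ c : ℕ, (c : ℤ) = -r i := ⟨(-r i).toNat, Int.toNat_of_nonneg (by omega)⟩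
  -- the image contains every power of `T ^ (a * c)`
  have hTn : ∀ n : ℤ, ∃ f, φ f = T (n * (a * c : ℕ)) := by
    intro n
    obtain ⟨m, rfl | rfl⟩ := n.eq_nat_or_neg
    · obtain ⟨f, hf⟩ := hT j hvj (m * c)
      exact ⟨f, hf.trans (congrArg T (by push_cast; rw [ha]; ring))⟩
    · obtain ⟨f, hf⟩ := hT i hvi (m * a)
      exact ⟨f, hf.trans (congrArg T (by push_cast; rw [hc]; ring))⟩
  have hN : 0 < a * c := Nat.mul_pos (by omega) (by omega)
  have hTint : ∀ n : ℤ, φ.toRingHom.IsIntegralElem (T n) := by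
    intro n
    obtain ⟨f, hf⟩ := hTn n
    refine ⟨Polynomial.X ^ (a * c) - Polynomial.C f, Polynomial.monic_X_pow_sub_C f hN.ne', ?_⟩
    simp only [Polynomial.eval₂_sub, Polynomial.eval₂_pow, Polynomial.eval₂_X, Polynomial.eval₂_C,
      T_pow]
    rw [show φ.toRingHom f = φ f from rfl, hf, sub_eq_zero]
    exact congrArg T (mul_comm _ _)
  intro L
  induction L using LaurentPolynomial.induction_on' with
  | add p q hp hq => exact hp.add φ.toRingHom hq
  | C_mul_T n c =>
    refine RingHom.IsIntegralElem.mul _ ?_ (hTint n)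
    have : (C c : k[T;T⁻¹]) = φ.toRingHom (MvPolynomial.C c) := (φ.commutes c).symm
    exact this ▸ φ.toRingHom.isIntegralElem_map

theorem stabIdeal_finite {v : ι → k} {j : ι} (hvj : v j ≠ 0) (hj : 0 < r j) :
    GLin.HasFiniteStab k k[T;T⁻¹] (GLin.vecPt k ι v) := by
  set I := GLin.stabIdeal k k[T;T⁻¹] (GLin.vecPt k ι v)
  have hmem : (T (r j) : k[T;T⁻¹]) - 1 ∈ I := by
    have h : GLin.orbitHom k k[T;T⁻¹] (GLin.vecPt k ι v) (MvPolynomial.X j - MvPolynomial.C (v j)) ∈ I :=
      Ideal.mem_map_of_mem _ (by simp [RingHom.mem_ker])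
    rw [map_sub, orbitHom_X hr, ← MvPolynomial.algebraMap_eq, AlgHom.commutes,
      Algebra.algebraMap_eq_smul_one, ← smul_sub] at h
    have h' := Submodule.smul_of_tower_mem I ((v j)⁻¹) h
    rwa [smul_smul, inv_mul_cancel₀ hvj, one_smul] at h'
  have hper : ∀ n : ℤ, ∀ q : ℤ, Ideal.Quotient.mk I (T (n + q * r j)) = Ideal.Quotient.mk I (T n) := by
    have h1 : Ideal.Quotient.mk I (T (r j)) = 1 :=
      (Ideal.Quotient.eq.2 hmem).trans (map_one _)
    have h2 : ∀ q : ℕ, Ideal.Quotient.mk I (T ((q : ℤ) * r j)) = 1 := fun q => by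
      rw [show (T ((q : ℤ) * r j) : k[T;T⁻¹]) = T (r j) ^ q by rw [T_pow], map_pow, h1, one_pow]
    intro n q
    obtain ⟨q, rfl | rfl⟩ := q.eq_nat_or_neg
    · rw [T_add, map_mul, h2, mul_one]
    · conv_rhs => rw [show n = (n + -(q : ℤ) * r j) + (q : ℤ) * r j by ring, T_add, map_mul, h2, mul_one]
  classical
  refine ⟨⟨(Finset.Ico (0 : ℤ) (r j)).image fun n => Ideal.Quotient.mk I (T n), ?_⟩⟩
  rw [eq_top_iff]
  rintro y -
  obtain ⟨L, rfl⟩ := Ideal.Quotient.mk_surjective y
  induction L using LaurentPolynomial.induction_on' with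
  | add p q hp hq => rw [map_add]; exact add_mem hp hq
  | C_mul_T n c =>
    rw [show (C c : k[T;T⁻¹]) * T n = c • T n from (Algebra.smul_def c (T n)).symm]
    change Ideal.Quotient.mkₐ k I (c • T n) ∈ _
    rw [map_smul]
    refine Submodule.smul_mem _ _ (Submodule.subset_span (Finset.mem_coe.2 (Finset.mem_image.2
      ⟨n % r j, Finset.mem_Ico.2 ⟨Int.emod_nonneg _ hj.ne', Int.emod_lt_of_pos _ hj⟩, ?_⟩)))
    change Ideal.Quotient.mk I (T (n % r j)) = Ideal.Quotient.mk I (T n)
    conv_rhs => rw [show n = n % r j + n / r j * r j by rw [Int.emod_def]; ring]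
    exact (hper _ _).symm

theorem stable_iff [IsAlgClosed k] (v : ι → k) :
    GLin.IsStableVec k k[T;T⁻¹] v ↔ ∃ i j : ι, v i ≠ 0 ∧ v j ≠ 0 ∧ r i < 0 ∧ 0 < r j := by
  haveI : AddMonoid.FG ℤ := AddGroup.fg_iff_addMonoid_fg.1 inferInstance
  haveI : Algebra.FiniteType k k[T;T⁻¹] := AddMonoidAlgebra.finiteType_iff_fg.2 inferInstance
  constructor
  · rintro ⟨hcl, hfin⟩
    by_contra hno
    -- all nonzero weights have one sign
    have hsign : (∀ l, v l ≠ 0 → 0 ≤ r l) ∨ ∀ l, v l ≠ 0 → r l ≤ 0 := by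
      by_contra hcon
      push Not at hcon
      obtain ⟨⟨i, hi, hi'⟩, j, hj, hj'⟩ := hcon
      exact hno ⟨i, j, hi, hj, hi', hj'⟩
    let w : ι → k := fun l => if r l = 0 then v l else 0
    -- `w` is in the closure of the orbit
    have hw : orbitKer (A := k[T;T⁻¹]) (GLin.vecPt k ι v) ≤ RingHom.ker (GLin.vecPt k ι w) := by
      obtain ⟨Φ, hΦinj, p, hp, hp0⟩ : ∃ (Φ : Polynomial k →ₐ[k] k[T;T⁻¹]) (_ : Function.Injective Φ)
          (p : MvPolynomial ι k →ₐ[k] Polynomial k),
          Φ.comp p = GLin.orbitHom k k[T;T⁻¹] (GLin.vecPt k ι v) ∧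
          (Polynomial.aeval (0 : k)).comp p = GLin.vecPt k ι w := by
        rcases hsign with h | h
        · refine ⟨Polynomial.toLaurentAlg, Polynomial.toLaurent_injective,
            MvPolynomial.aeval fun l => Polynomial.monomial (r l).toNat (v l),
            MvPolynomial.algHom_ext fun l => ?_, MvPolynomial.algHom_ext fun l => ?_⟩
          · rw [orbitHom_X hr]
            rcases eq_or_ne (v l) 0 with hl | hl
            · simp [hl]
            · simp [Int.toNat_of_nonneg (h l hl), ← Polynomial.C_mul_X_pow_eq_monomial, Algebra.smul_def]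
          · rcases eq_or_ne (v l) 0 with hl | hl
            · simp [hl, w]
            · simp only [AlgHom.comp_apply, MvPolynomial.aeval_X, ← Polynomial.coeff_zero_eq_aeval_zero,
                Polynomial.coeff_monomial, w]
              have := h l hl
              split_ifs <;> first | rfl | omega
        · refine ⟨(LaurentPolynomial.invert : k[T;T⁻¹] ≃ₐ[k] k[T;T⁻¹]).toAlgHom.comp Polynomial.toLaurentAlg,
            (LaurentPolynomial.invert : k[T;T⁻¹] ≃ₐ[k] k[T;T⁻¹]).injective.comp Polynomial.toLaurent_injective,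
            MvPolynomial.aeval fun l => Polynomial.monomial (-r l).toNat (v l),
            MvPolynomial.algHom_ext fun l => ?_, MvPolynomial.algHom_ext fun l => ?_⟩
          · rw [orbitHom_X hr]
            rcases eq_or_ne (v l) 0 with hl | hl
            · simp [hl]
            · simp [Int.toNat_of_nonneg (show 0 ≤ -r l by have := h l hl; omega),
                ← Polynomial.C_mul_X_pow_eq_monomial, Algebra.smul_def]
          · rcases eq_or_ne (v l) 0 with hl | hl
            · simp [hl, w]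
            · simp only [AlgHom.comp_apply, MvPolynomial.aeval_X, ← Polynomial.coeff_zero_eq_aeval_zero,
                Polynomial.coeff_monomial, w]
              have := h l hl
              split_ifs <;> first | rfl | omega
      intro f hf
      rw [RingHom.mem_ker, ← hp, AlgHom.comp_apply] at hf
      rw [RingHom.mem_ker, ← hp0, AlgHom.comp_apply, hΦinj (hf.trans (map_zero Φ).symm), map_zero]
    obtain ⟨g, hg⟩ := inOrbit_of_isClosedOrbit hcl hw
    have hfix : ∀ l, r l ≠ 0 → v l = 0 := by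
      intro l hl
      have h := AlgHom.congr_fun hg (MvPolynomial.X l)
      rw [MvPolynomial.aeval_X] at h
      change w l = g (GLin.orbitHom k k[T;T⁻¹] (GLin.vecPt k ι v) (MvPolynomial.X l)) at h
      rw [orbitHom_X hr, map_smul, smul_eq_mul] at h
      simp only [w, if_neg hl] at h
      rcases mul_eq_zero.1 h.symm with h1 | h1
      · exact h1
      · exact absurd h1 ((isUnit_T (R := k) (r l)).map g).ne_zero
    have hstab : GLin.stabIdeal k k[T;T⁻¹] (GLin.vecPt k ι v) = ⊥ := by
      rw [GLin.stabIdeal, Ideal.map_eq_bot_iff_le_ker]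
      intro f hf
      have : GLin.orbitHom k k[T;T⁻¹] (GLin.vecPt k ι v) =
          (Algebra.ofId k k[T;T⁻¹]).comp (GLin.vecPt k ι v) := by
        refine MvPolynomial.algHom_ext fun l => ?_
        rw [orbitHom_X hr]
        by_cases hl : r l = 0
        · simp [hl, Algebra.algebraMap_eq_smul_one, Algebra.ofId_apply]
        · simp [hfix l hl]
      rw [RingHom.mem_ker] at hf ⊢
      rw [this]
      simp only [AlgHom.comp_apply, hf, map_zero]
    unfold GLin.HasFiniteStab at hfin
    rw [hstab] at hfin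
    haveI := hfin
    haveI : Module.Finite k k[T;T⁻¹] := Module.Finite.equiv (AlgEquiv.quotientBot k k[T;T⁻¹]).toLinearEquiv
    exact not_finite_iff_infinite.2 (inferInstance : Infinite ℤ)
      (Module.Finite.finite_basis (Groth.Agent.Lib.Comod.Diag.monoBasis k ℤ))
  · rintro ⟨i, j, hvi, hvj, hi, hj⟩
    exact ⟨(PrimeSpectrum.isClosedMap_comap_of_isIntegral _
      (orbitHom_finite hr hvi hvj hi hj)).isClosed_range, stabIdeal_finite hr hvj hj⟩

end

end Groth.Agent.H60.GmDiag
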