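import Groth.Agent.Lib.Comod.Alg
import Groth.Agent.Lib.Comod.Orbits
import Groth.Agent.H60.FreeOrbit

/-! The invariant integral of a linearly reductive group and averaging of linear maps. -/

set_option autoImplicit false
set_option linter.unusedSectionVars false
universe u v w

open TensorProduct
open Groth.Agent.Lib.Comod.Basic Groth.Agent.Lib.Comod.Reynolds Groth.Agent.Lib.Comod.Alg

namespace Groth.Agent.H60.Haar

variable {k : Type u} [Field k] {A : Type u} [CommRing A] [HopfAlgebra k A]

/-- Matrix coefficient of a functional. -/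
noncomputable def coef {V : Type u} [AddCommGroup V] [Module k V] [HopfRep.Comod k A V] (l : V →ₗ[k] k) :
    V →ₗ[k] A :=
  (TensorProduct.lid k A).toLinearMap ∘ₗ l.rTensor A ∘ₗ HopfRep.Comod.coact (k := k) (A := A)

theorem apply_coef {V : Type u} [AddCommGroup V] [Module k V] [HopfRep.Comod k A V] (l : V →ₗ[k] k)
    (φ : A →ₗ[k] k) (v : V) : φ (coef l v) = l (dact V φ v) := by
  simp only [coef, dact_apply, LinearMap.comp_apply, LinearEquiv.coe_coe]
  induction HopfRep.Comod.coact (k := k) (A := A) v using TensorProduct.induction_on with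
  | zero => simp
  | tmul w a => simp [mul_comm]
  | add y z hy hz => simp only [map_add, hy, hz]

theorem isComodHom_coef {V : Type u} [AddCommGroup V] [Module k V] [HopfRep.Comod k A V] (l : V →ₗ[k] k) :
    Hoch.IsComodHom A (coef (A := A) l) := by
  refine (isComodHom_iff _).2 fun χ v => ?_
  refine (Module.Free.chooseBasis k A).repr.injective (Finsupp.ext fun i => ?_)
  change (Module.Free.chooseBasis k A).coord i _ = (Module.Free.chooseBasis k A).coord i _
  rw [apply_coef, FreeOrbit.dact_regular, apply_coef, dact_dact]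

/-- The invariant integral: it acts as the Reynolds operator on every comodule. -/
theorem exists_haar (hG : HopfRep.IsLinearlyReductive k A) :
    ∃ η : A →ₗ[k] k, η 1 = 1 ∧ ∀ (V : Type u) [AddCommGroup V] [Module k V] [HopfRep.Comod k A V] (v : V),
      dact V η v ∈ HopfRep.fixedPts k A V := by
  obtain ⟨E, hE⟩ := exists_isReynolds (A := A) A hG
  have h1 : (1 : A) ∈ HopfRep.fixedPts k A A := by
    change CoalgebraStruct.comul (R := k) (1 : A) = _
    rw [Bialgebra.comul_one, Algebra.TensorProduct.one_def]
  refine ⟨CoalgebraStruct.counit ∘ₗ E, by simp [hE.apply_of_mem h1], fun V _ _ _ v => ?_⟩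
  obtain ⟨F, hF⟩ := exists_isReynolds (A := A) V hG
  suffices dact V (CoalgebraStruct.counit ∘ₗ E) v = F v from this ▸ hF.mem v
  refine sub_eq_zero.1 ((Module.forall_dual_apply_eq_zero_iff (R := k) _).1 fun l => ?_)
  rw [map_sub, sub_eq_zero, ← apply_coef l, LinearMap.comp_apply,
    hF.natural_apply hG hE (isComodHom_coef l), apply_coef l, dact_counit_apply]

section Hom

variable {R : Type u} [CommRing R] [Algebra k R] [HopfRep.Comod k A R] [GLin.IsCoactAlg k A R]
variable {W : Type u} [AddCommGroup W] [Module k W] [HopfRep.Comod k A W]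

/-- The action of a functional on linear maps out of a comodule. -/
noncomputable def homDact (ψ : A →ₗ[k] k) (F : W →ₗ[k] R) : W →ₗ[k] R :=
  contract R ψ ∘ₗ twist R ∘ₗ F.rTensor A ∘ₗ
    (HopfAlgebraStruct.antipode (R := k) (A := A)).lTensor W ∘ₗ HopfRep.Comod.coact (k := k) (A := A)

theorem homDact_add (ψ : A →ₗ[k] k) (F G : W →ₗ[k] R) :
    homDact (A := A) ψ (F + G) = homDact ψ F + homDact ψ G := by
  simp [homDact, LinearMap.rTensor_add, LinearMap.comp_add, LinearMap.add_comp]

theorem homDact_zero (ψ : A →ₗ[k] k) : homDact (A := A) (W := W) (R := R) ψ 0 = 0 := by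
  simp [homDact]

theorem homDact_smul (ψ : A →ₗ[k] k) (r : R) {φ : W →ₗ[k] R} (hφ : Hoch.IsComodHom A φ) :
    homDact (A := A) ψ (r • φ) = dact R ψ r • φ := by
  refine LinearMap.ext fun w => ?_
  simp only [homDact, LinearMap.comp_apply, LinearMap.smul_apply, smul_eq_mul]
  have h1 : ∀ y : W ⊗[k] A, twist R ((r • φ).rTensor A y) =
      HopfRep.Comod.coact (k := k) (A := A) r * twist R (φ.rTensor A y) := by
    intro y
    induction y using TensorProduct.induction_on with
    | zero => simp
    | add y z hy hz => simp only [map_add, hy, hz, mul_add]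
    | tmul u a =>
      simp only [LinearMap.rTensor_tmul, LinearMap.smul_apply, smul_eq_mul, twist_tmul]
      rw [GLin.IsCoactAlg.coact_mul (k := k) (A := A), mul_assoc]
  rw [h1, ← LinearMap.comp_apply (φ.rTensor A), LinearMap.rTensor_comp_lTensor,
    ← LinearMap.lTensor_comp_rTensor, LinearMap.comp_apply]
  rw [show φ.rTensor A (HopfRep.Comod.coact (k := k) (A := A) w) =
      HopfRep.Comod.coact (k := k) (A := A) (φ w) from (LinearMap.congr_fun hφ w).symm, twist_antipode,
    dact_apply]
  induction HopfRep.Comod.coact (k := k) (A := A) r using TensorProduct.induction_on with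
  | zero => simp
  | add y z hy hz => simp only [map_add, add_mul, hy, hz]
  | tmul u a => simp

end Hom

end Groth.Agent.H60.Haar
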