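import Groth.Agent.H60.Luna
import Groth.Agent.H60.Haar

/-! Equivariant Krull intersection: formal surjectivity along a closed orbit gives surjectivity
over an invariant neighbourhood. -/

set_option autoImplicit false
set_option linter.unusedSectionVars false
set_option linter.style.haveILetI false
universe u

open TensorProduct
open Groth.Agent.Lib.Comod.Basic Groth.Agent.Lib.Comod.Reynolds Groth.Agent.Lib.Comod.Orbits
open Groth.Agent.Lib.Comod Groth.Agent.Lib.Comod.Alg Groth.Agent.H60.Haar Groth.Agent.H60.Luna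

namespace Groth.Agent.H60.LunaSurj

variable {k : Type u} [Field k] {A : Type u} [CommRing A] [HopfAlgebra k A]

section Section

variable {V W : Type u} [AddCommGroup V] [Module k V] [HopfRep.Comod k A V]
  [AddCommGroup W] [Module k W] [HopfRep.Comod k A W]

/-- An equivariant map which is surjective modulo a stable subspace has an equivariant section modulo it. -/
theorem exists_comodHom_section (hG : HopfRep.IsLinearlyReductive k A) {f : V →ₗ[k] W}
    (hf : Hoch.IsComodHom A f) {J : Submodule k W} (hJ : HopfRep.IsSubcomod (k := k) (A := A) J)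
    (hsurj : ∀ w, ∃ v, w - f v ∈ J) :
    ∃ ψ : W →ₗ[k] V, Hoch.IsComodHom A ψ ∧ ∀ w, w - f (ψ w) ∈ J := by
  obtain ⟨U, hU, hc⟩ := Reynolds.exists_isCompl hG (Basic.isSubcomod_comap hf hJ)
  set π : U →ₗ[k] W ⧸ J := J.mkQ ∘ₗ f ∘ₗ U.subtype with hπ
  have hinj : Function.Injective π := by
    rw [← LinearMap.ker_eq_bot, eq_bot_iff]
    intro u hu
    rw [hπ, LinearMap.mem_ker, LinearMap.comp_apply, Submodule.mkQ_apply, Submodule.Quotient.mk_eq_zero] at hu
    exact Subtype.ext (Submodule.disjoint_def.1 hc.disjoint (u : V) hu u.2)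
  have hsur : Function.Surjective π := by
    intro q
    obtain ⟨w, rfl⟩ := J.mkQ_surjective q
    obtain ⟨v, hv⟩ := hsurj w
    obtain ⟨a, ha, b, hb, rfl⟩ := Submodule.mem_sup.1 (hc.sup_eq_top ▸ Submodule.mem_top : v ∈ _ ⊔ U)
    refine ⟨⟨b, hb⟩, ?_⟩
    refine ((Submodule.Quotient.eq J).2 ?_).symm
    rw [map_add, sub_add_eq_sub_sub_swap] at hv
    have := add_mem hv ha
    simpa [LinearMap.comp_apply] using this
  let e := LinearEquiv.ofBijective π ⟨hinj, hsur⟩
  let ψ : W →ₗ[k] V := U.subtype ∘ₗ e.symm.toLinearMap ∘ₗ J.mkQ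
  have hψU : ∀ w, ψ w ∈ U := fun w => (e.symm (J.mkQ w)).2
  have hψ : ∀ w, w - f (ψ w) ∈ J := fun w =>
    (Submodule.Quotient.eq J).1 (e.apply_symm_apply (J.mkQ w)).symm
  refine ⟨ψ, (isComodHom_iff _).2 fun φ w => ?_, hψ⟩
  refine sub_eq_zero.1 (Submodule.disjoint_def.1 hc.disjoint _ ?_ (sub_mem ?_ ?_))
  · change f _ ∈ J
    rw [map_sub, map_dact hf]
    have h1 := dact_mem hJ φ (hψ w)
    rw [map_sub] at h1
    have h2 := hψ (dact W φ w)
    have := sub_mem h1 h2
    rw [show dact W φ w - dact W φ (f (ψ w)) - (dact W φ w - f (ψ (dact W φ w))) =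
      f (ψ (dact W φ w)) - dact W φ (f (ψ w)) by abel] at this
    exact this
  · exact hψU _
  · exact dact_mem hU φ (hψU w)

end Section

variable {R : Type u} [CommRing R] [Algebra k R] [HopfRep.Comod k A R] [GLin.IsCoactAlg k A R]
variable [IsAlgClosed k] [Algebra.FiniteType k A] [Algebra.FiniteType k R]

/-- A stable ideal not vanishing at a closed orbit contains an invariant equal to one there. -/
theorem exists_invariant_mem (hG : HopfRep.IsLinearlyReductive k A) {x : R →ₐ[k] k}
    (hx : GLin.IsClosedOrbit k A x) {C : Ideal R}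
    (hC : HopfRep.IsSubcomod (k := k) (A := A) (C.restrictScalars k)) (hne : ¬ C ≤ RingHom.ker x) :
    ∃ c ∈ HopfRep.fixedPts k A R, c ∈ C ∧ x c = 1 := by
  obtain ⟨E, hE⟩ := exists_isReynolds (A := A) R hG
  obtain ⟨a, ha, i, hi, hai⟩ :=
    Submodule.mem_sup.1 ((sup_orbitKer_eq_top hx hC hne).ge (Submodule.mem_top (x := (1 : R))))
  refine ⟨E a, hE.mem a, hE.map_mem hG hC ha, ?_⟩
  have h1 : E a + E i = 1 := by rw [← map_add, hai, hE.apply_of_mem one_mem_fixedPts]
  have h2 : x (E i) = 0 := orbitKer_le_ker x (hE.map_mem hG (isSubcomod_orbitKer x) hi)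
  rw [eq_sub_of_add_eq h1, map_sub, map_one, h2, sub_zero]

variable {W : Type u} [AddCommGroup W] [Module k W] [HopfRep.Comod k A W] [Module.Finite k W]

/-- If an equivariant map is congruent to members of a set of equivariant maps modulo every power of
the ideal of a closed orbit, an invariant multiple of it is an invariant combination of them. -/
theorem exists_invariant_smul_mem (hG : HopfRep.IsLinearlyReductive k A) {x : R →ₐ[k] k}
    (hx : GLin.IsClosedOrbit k A x) (X : Set (W →ₗ[k] R)) (hX : ∀ χ ∈ X, Hoch.IsComodHom A χ)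
    {φ : W →ₗ[k] R} (hφ : Hoch.IsComodHom A φ)
    (happ : ∀ i : ℕ, ∃ χ ∈ X, ∀ w, φ w - χ w ∈ orbitKer (A := A) x ^ i)
    (U : Submodule k R) (hU : ∀ b ∈ HopfRep.fixedPts k A R, ∀ χ ∈ X, ∀ w, b * χ w ∈ U) :
    ∃ c ∈ HopfRep.fixedPts k A R, x c = 1 ∧ ∀ w, c * φ w ∈ U := by
  classical
  haveI : IsNoetherianRing R := Algebra.FiniteType.isNoetherianRing k R
  set J := orbitKer (A := A) x
  let bas := Module.Free.chooseBasis k W
  let e : Module.Free.ChooseBasisIndex k W → (W →ₗ[k] R) := fun j => (Algebra.linearMap k R) ∘ₗ bas.coord j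
  have hexp : ∀ δ : W →ₗ[k] R, δ = ∑ j, δ (bas j) • e j := by
    intro δ
    refine bas.ext fun i => ?_
    simp [e, Finsupp.single_apply, apply_ite (algebraMap k R)]
  haveI : Module.Finite R (W →ₗ[k] R) :=
    ⟨⟨Finset.univ.image e, eq_top_iff.2 fun δ _ => by
      rw [hexp δ]
      exact Submodule.sum_mem _ fun j _ => Submodule.smul_mem _ _ (Submodule.subset_span (by simp))⟩⟩
  set N := Submodule.span R X with hN
  have hmem : N.mkQ φ ∈ (⨅ i : ℕ, J ^ i • ⊤ : Submodule R ((W →ₗ[k] R) ⧸ N)) := by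
    rw [Submodule.mem_iInf]
    intro i
    obtain ⟨χ, hχX, hχ⟩ := happ i
    have : N.mkQ φ = N.mkQ (φ - χ) := by
      rw [map_sub, eq_comm, sub_eq_self, Submodule.mkQ_apply, Submodule.Quotient.mk_eq_zero]
      exact Submodule.subset_span hχX
    rw [this, hexp (φ - χ), map_sum]
    refine Submodule.sum_mem _ fun j _ => ?_
    rw [map_smul]
    exact Submodule.smul_mem_smul (hχ _) Submodule.mem_top
  obtain ⟨⟨j, hj⟩, hjφ⟩ := (Ideal.mem_iInf_smul_pow_eq_bot_iff _ _).1 hmem
  set C : Ideal R := N.comap (LinearMap.toSpanSingleton R (W →ₗ[k] R) φ) with hCdef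
  have hone : (1 - j) ∈ C := by
    change (1 - j) • φ ∈ N
    rw [← Submodule.Quotient.mk_eq_zero, ← Submodule.mkQ_apply, map_smul, sub_smul, one_smul, hjφ, sub_self]
  have hclosed : ∀ ψ : A →ₗ[k] k, ∀ G ∈ N, ∀ r : R, homDact (A := A) ψ (r • G) ∈ N := by
    intro ψ G hG
    induction hG using Submodule.span_induction with
    | mem χ hχ =>
      intro r
      rw [homDact_smul ψ r (hX χ hχ)]
      exact Submodule.smul_mem _ _ (Submodule.subset_span hχ)
    | zero => intro r; rw [smul_zero, homDact_zero]; exact zero_mem _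
    | add a b _ _ ha hb => intro r; rw [smul_add, homDact_add]; exact add_mem (ha r) (hb r)
    | smul s a _ ha => intro r; rw [smul_smul]; exact ha _
  have hC : HopfRep.IsSubcomod (k := k) (A := A) (C.restrictScalars k) := by
    refine (isSubcomod_iff _).2 fun ψ r hr => ?_
    change dact R ψ r • φ ∈ N
    have h := hclosed ψ (r • φ) hr 1
    rwa [one_smul, homDact_smul ψ r hφ] at h
  have hne : ¬ C ≤ RingHom.ker x := fun h => by
    have h5 : x (1 - j) = 0 := h hone
    rw [map_sub, map_one, RingHom.mem_ker.1 (orbitKer_le_ker x hj), sub_zero] at h5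
    exact one_ne_zero h5
  obtain ⟨c, hcf, hcC, hcx⟩ := exists_invariant_mem hG hx hC hne
  refine ⟨c, hcf, hcx, ?_⟩
  obtain ⟨η, hη1, hη⟩ := exists_haar hG
  have hav : ∀ G ∈ N, ∀ (r : R) w, homDact (A := A) η (r • G) w ∈ U := by
    intro G hGN
    induction hGN using Submodule.span_induction with
    | mem χ hχ =>
      intro r w
      rw [homDact_smul η r (hX χ hχ), LinearMap.smul_apply, smul_eq_mul]
      exact hU _ (hη R r) χ hχ w
    | zero => intro r w; rw [smul_zero, homDact_zero]; exact zero_mem _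
    | add a b _ _ ha hb => intro r w; rw [smul_add, homDact_add]; exact add_mem (ha r w) (hb r w)
    | smul s a _ ha => intro r w; rw [smul_smul]; exact ha _ w
  intro w
  have h := hav (c • φ) hcC 1 w
  rwa [one_smul, homDact_smul η c hφ, LinearMap.smul_apply, smul_eq_mul,
    mem_fixedPts_iff.1 hcf η, hη1, one_smul] at h

end Groth.Agent.H60.LunaSurj
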