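import Groth.Agent.H60.StabFun
import Groth.Agent.Lib.Comod.Invariants
import Groth.Agent.Lib.LocalFlat.Criterion
import Groth.Agent.Lib.Unram.AtPrime
import Mathlib.RingTheory.Nakayama
import Mathlib.RingTheory.Flat.FaithfullyFlat.Algebra
import Mathlib.RingTheory.Flat.Localization

/-! Luna's fundamental lemma: formal comparison along a closed orbit. -/

set_option autoImplicit false
set_option linter.unusedSectionVars false
set_option linter.style.haveILetI false
universe u

open TensorProduct
open Groth.Agent.Lib.Comod.Basic Groth.Agent.Lib.Comod.Reynolds Groth.Agent.Lib.Comod.Orbits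
open Groth.Agent.Lib.Comod.Alg Groth.Agent.Lib.Comod.Invariants
open Groth.Agent.H60.FreeOrbit Groth.Agent.H60.OrbitDim

namespace Groth.Agent.H60.Luna

section Gen

variable {k : Type u} [Field k] {A : Type u} [CommRing A] [HopfAlgebra k A]
variable {V W : Type u} [AddCommGroup V] [Module k V] [HopfRep.Comod k A V]
  [AddCommGroup W] [Module k W] [HopfRep.Comod k A W]

theorem isSubcomod_map {g : V →ₗ[k] W} (hg : Hoch.IsComodHom A g) {U : Submodule k V}
    (hU : HopfRep.IsSubcomod (k := k) (A := A) U) :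
    HopfRep.IsSubcomod (k := k) (A := A) (U.map g) :=
  (isSubcomod_iff _).2 fun φ w hw => by
    obtain ⟨u, hu, rfl⟩ := hw
    exact ⟨dact V φ u, dact_mem hU φ hu, map_dact hg φ u⟩

theorem isSubcomod_comap {g : V →ₗ[k] W} (hg : Hoch.IsComodHom A g) {U : Submodule k W}
    (hU : HopfRep.IsSubcomod (k := k) (A := A) U) :
    HopfRep.IsSubcomod (k := k) (A := A) (U.comap g) :=
  (isSubcomod_iff _).2 fun φ v hv => by
    rw [Submodule.mem_comap, map_dact hg φ v]
    exact dact_mem hU φ hv

variable {R : Type u} [CommRing R] [Algebra k R] [HopfRep.Comod k A R] [GLin.IsCoactAlg k A R]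

theorem isSubcomod_ideal_pow {J : Ideal R}
    (hJ : HopfRep.IsSubcomod (k := k) (A := A) (J.restrictScalars k)) :
    ∀ n : ℕ, HopfRep.IsSubcomod (k := k) (A := A) ((J ^ n).restrictScalars k) := by
  intro n
  induction n with
  | zero =>
    rw [pow_zero, Ideal.one_eq_top, Submodule.restrictScalars_top]
    exact isSubcomod_top
  | succ n ih =>
    have : J ^ (n + 1) = Ideal.span ((J ^ n).restrictScalars k * J.restrictScalars k : Submodule k R) := by
      refine le_antisymm ?_ (Ideal.span_le.2 fun x hx => ?_)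
      · rw [pow_succ, Ideal.mul_le]
        exact fun a ha b hb => Ideal.subset_span (Submodule.mul_mem_mul ha hb)
      · refine Submodule.mul_induction_on hx (fun a ha b hb => ?_) fun a b ha hb => add_mem ha hb
        rw [pow_succ]
        exact Ideal.mul_mem_mul ha hb
    rw [this]
    exact isSubcomod_idealSpan (isSubcomod_mul ih hJ)

variable [IsAlgClosed k] [Algebra.FiniteType k A] [Algebra.FiniteType k R]

/-- A stable ideal not vanishing at a point with closed orbit is comaximal with the orbit ideal. -/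
theorem sup_orbitKer_eq_top {x : R →ₐ[k] k} (hx : GLin.IsClosedOrbit k A x) {C : Ideal R}
    (hC : HopfRep.IsSubcomod (k := k) (A := A) (C.restrictScalars k)) (hne : ¬ C ≤ RingHom.ker x) :
    C ⊔ orbitKer (A := A) x = ⊤ := by
  by_contra hcon
  obtain ⟨w, hw⟩ := exists_pt (k := k) hcon
  have h := inOrbit_of_isClosedOrbit hx (le_sup_right.trans hw)
  exact hne ((le_orbitKer hC (le_sup_left.trans hw)).trans (h.orbitKer_eq ▸ orbitKer_le_ker x))

/-- The invariant ring is of finite type. -/
theorem finiteType_invariants (hG : HopfRep.IsLinearlyReductive k A) :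
    Algebra.FiniteType k (GLin.invariants k A R) := by
  classical
  obtain ⟨t, ht⟩ := (Algebra.FiniteType.out : (⊤ : Subalgebra k R).FG)
  obtain ⟨U, hUfg, hU, htU⟩ := exists_subcomod_fg (k := k) (A := A) (V := R) t
  haveI : IsNoetherianRing (⊥ : Subalgebra k R) :=
    isNoetherianRing_of_surjective k _ ((Algebra.ofId k (⊥ : Subalgebra k R)).toRingHom) fun z => by
      obtain ⟨c, hc⟩ := Algebra.mem_bot.1 z.2
      exact ⟨c, Subtype.ext hc⟩
  obtain ⟨s, hs, hgen⟩ := exists_finset_invariants hG (⊥ : Subalgebra k R)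
    (by rw [Algebra.toSubmodule_bot]; exact isSubcomod_one) U hUfg hU
    (eq_top_iff.2 (ht ▸ Algebra.adjoin_mono (htU.trans Set.subset_union_right)))
  refine (Subalgebra.fg_iff_finiteType _).1 ⟨s, ?_⟩
  rw [hgen]
  refine le_antisymm (Algebra.adjoin_mono Set.subset_union_right) (Algebra.adjoin_le ?_)
  rintro z (⟨hz, -⟩ | hz)
  · obtain ⟨c, rfl⟩ := Algebra.mem_bot.1 hz
    exact Subalgebra.algebraMap_mem _ c
  · exact Algebra.subset_adjoin hz

/-- The orbit topology and the adic topology agree on invariants. -/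
theorem exists_pow_orbitKer_le (hG : HopfRep.IsLinearlyReductive k A) (x : R →ₐ[k] k)
    (hx : GLin.IsClosedOrbit k A x) (N : ℕ) :
    ∃ n : ℕ, ∀ f : GLin.invariants k A R, (f : R) ∈ orbitKer (A := A) x ^ n →
      f ∈ RingHom.ker (x.comp (GLin.invariants k A R).val) ^ N := by
  classical
  haveI : IsNoetherianRing R := Algebra.FiniteType.isNoetherianRing k R
  haveI := finiteType_invariants (A := A) (R := R) hG
  haveI : IsNoetherianRing (GLin.invariants k A R) :=
    Algebra.FiniteType.isNoetherianRing k (GLin.invariants k A R)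
  set ν := RingHom.ker (x.comp (GLin.invariants k A R).val) with hν
  haveI hνmax : ν.IsMaximal :=
    RingHom.ker_isMaximal_of_surjective _ fun c => ⟨algebraMap k _ c, AlgHom.commutes _ c⟩
  let Q := GLin.invariants k A R ⧸ ν ^ N
  haveI : IsNoetherianRing Q := inferInstance
  haveI : Ring.KrullDimLE 0 Q := Ring.KrullDimLE.mk₀ fun P hP => by
    haveI := hP
    have h1 : ν ≤ P.comap (Ideal.Quotient.mk (ν ^ N)) := by
      intro z hz
      refine (Ideal.comap_isPrime (Ideal.Quotient.mk (ν ^ N)) P).mem_of_pow_mem N ?_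
      rw [Ideal.mem_comap, Ideal.Quotient.eq_zero_iff_mem.2 (Ideal.pow_mem_pow hz N)]
      exact zero_mem _
    have h2 := hνmax.eq_of_le (Ideal.comap_ne_top _ hP.ne_top) h1
    rw [← Ideal.map_comap_of_surjective _ Ideal.Quotient.mk_surjective P, ← h2]
    refine (Ideal.map_eq_top_or_isMaximal_of_surjective _ Ideal.Quotient.mk_surjective hνmax).resolve_left
      fun h => hP.ne_top ?_
    rw [← Ideal.map_comap_of_surjective _ Ideal.Quotient.mk_surjective P, ← h2, h]
  haveI : IsArtinianRing Q := isArtinianRing_iff_isNoetherianRing_krullDimLE_zero.2 ⟨‹_›, ‹_›⟩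
  let K : ℕ →o (Ideal Q)ᵒᵈ :=
    ⟨fun n => OrderDual.toDual (((orbitKer (A := A) x ^ n).comap (GLin.invariants k A R).val.toRingHom).map
      (Ideal.Quotient.mk (ν ^ N))), fun a b hab => Ideal.map_mono (Ideal.comap_mono (Ideal.pow_le_pow_right hab))⟩
  obtain ⟨n₀, hn₀⟩ := IsArtinian.monotone_stabilizes (R := Q) (M := Q) K
  refine ⟨n₀, fun f hf => ?_⟩
  set 𝔞 : Ideal R := (ν ^ N).map (GLin.invariants k A R).val.toRingHom with h𝔞
  have hf' : ∀ n, (f : R) ∈ orbitKer (A := A) x ^ n ⊔ 𝔞 := by
    intro n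
    rcases le_total n n₀ with h | h
    · exact Ideal.mem_sup_left (Ideal.pow_le_pow_right h hf)
    have h1 : Ideal.Quotient.mk (ν ^ N) f ∈ ((orbitKer (A := A) x ^ n).comap
        (GLin.invariants k A R).val.toRingHom).map (Ideal.Quotient.mk (ν ^ N)) := by
      have h2 := congrArg OrderDual.ofDual (hn₀ n h)
      exact (le_of_eq h2) (Ideal.mem_map_of_mem _ hf)
    rw [Ideal.mem_map_iff_of_surjective _ Ideal.Quotient.mk_surjective] at h1
    obtain ⟨g, hg, hgf⟩ := h1
    rw [Ideal.Quotient.eq] at hgf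
    have h3 : (f : R) = (g : R) - ((g - f : GLin.invariants k A R) : R) := by simp
    rw [h3]
    exact sub_mem (Ideal.mem_sup_left hg) (Ideal.mem_sup_right (Ideal.mem_map_of_mem _ hgf))
  have h4 : Ideal.Quotient.mk 𝔞 (f : R) ∈
      (⨅ i : ℕ, orbitKer (A := A) x ^ i • ⊤ : Submodule R (R ⧸ 𝔞)) := by
    rw [Submodule.mem_iInf]
    intro i
    obtain ⟨a, ha, b, hb, hab⟩ := Submodule.mem_sup.1 (hf' i)
    rw [← hab, map_add, Ideal.Quotient.eq_zero_iff_mem.2 hb, add_zero,
      show Ideal.Quotient.mk 𝔞 a = a • (1 : R ⧸ 𝔞) by rw [Algebra.smul_def, mul_one]; rfl]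
    exact Submodule.smul_mem_smul ha Submodule.mem_top
  obtain ⟨⟨j, hj⟩, hjf⟩ := (Ideal.mem_iInf_smul_pow_eq_bot_iff _ _).1 h4
  have h𝔞sub : HopfRep.IsSubcomod (k := k) (A := A) (𝔞.restrictScalars k) := by
    have : 𝔞 = Ideal.span (((ν ^ N).restrictScalars k).map (GLin.invariants k A R).val.toLinearMap : Submodule k R) := rfl
    rw [this]
    refine isSubcomod_idealSpan ((isSubcomod_iff _).2 ?_)
    rintro φ _ ⟨g, hg, rfl⟩
    change dact R φ (g : R) ∈ _
    rw [mem_fixedPts_iff.1 g.2 φ]
    exact Submodule.smul_mem _ _ ⟨g, hg, rfl⟩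
  have hspan : HopfRep.IsSubcomod (k := k) (A := A) ((Ideal.span {(f : R)}).restrictScalars k) := by
    have : Ideal.span {(f : R)} = Ideal.span (Submodule.span k {(f : R)} : Submodule k R) := by
      refine le_antisymm (Ideal.span_mono Submodule.subset_span) (Ideal.span_le.2 fun z hz => ?_)
      obtain ⟨c, rfl⟩ := Submodule.mem_span_singleton.1 hz
      rw [Algebra.smul_def]
      exact Ideal.mul_mem_left _ _ (Ideal.subset_span rfl)
    rw [this]
    refine isSubcomod_idealSpan ((isSubcomod_iff _).2 fun φ z hz => ?_)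
    obtain ⟨c, rfl⟩ := Submodule.mem_span_singleton.1 hz
    rw [map_smul, mem_fixedPts_iff.1 f.2 φ]
    exact Submodule.smul_mem _ _ (Submodule.smul_mem _ _ (Submodule.mem_span_singleton_self _))
  have hC := isSubcomod_colon hspan h𝔞sub
  by_contra hfN
  have hfa : (f : R) ∉ 𝔞 := fun h => hfN (by rw [← comap_map_eq hG (ν ^ N)]; exact h)
  set C := 𝔞.colon ((Ideal.span {(f : R)} : Ideal R) : Set R) with hCdef
  have hCne : C ≠ ⊤ := fun h => hfa (by
    have := Submodule.mem_colon.1 (show (1 : R) ∈ C from h ▸ Submodule.mem_top) _ (Ideal.subset_span rfl)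
    rwa [one_smul] at this)
  obtain ⟨z, hCz, hz⟩ := Groth.Agent.Lib.Comod.Orbits2.exists_isClosedOrbit_of_le hC hCne
  have h1j : 1 - j ∈ C := by
    rw [hCdef, Submodule.mem_colon]
    intro s hs
    obtain ⟨a, rfl⟩ := Ideal.mem_span_singleton'.1 hs
    have : (1 - j) • Ideal.Quotient.mk 𝔞 (f : R) = 0 := by
      rw [sub_smul, one_smul, hjf, sub_self]
    rw [Algebra.smul_def, show algebraMap R (R ⧸ 𝔞) = Ideal.Quotient.mk 𝔞 from rfl, ← map_mul,
      Ideal.Quotient.eq_zero_iff_mem] at this
    rw [smul_eq_mul, show (1 - j) * (a * (f : R)) = a * ((1 - j) * f) by ring]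
    exact Ideal.mul_mem_left _ _ this
  have hzx : ∀ g ∈ HopfRep.fixedPts k A R, z g = x g := by
    have hνz : ν ≤ RingHom.ker (z.comp (GLin.invariants k A R).val) := by
      intro g hg
      refine (RingHom.ker_isPrime (z.comp (GLin.invariants k A R).val).toRingHom).mem_of_pow_mem N ?_
      refine orbitKer_le_ker z (hCz ?_)
      rw [hCdef, Submodule.mem_colon]
      intro s _
      exact Ideal.mul_mem_right _ _ (Ideal.mem_map_of_mem _ (Ideal.pow_mem_pow hg N))
    intro g hg
    have h := hνz (show (⟨g, hg⟩ : GLin.invariants k A R) - algebraMap k _ (x g) ∈ ν by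
      simp [hν, RingHom.mem_ker])
    rw [RingHom.mem_ker, map_sub, AlgHom.commutes, sub_eq_zero] at h
    exact h
  have horb := Groth.Agent.Lib.Comod.Orbits2.inOrbit_of_invariants_eq hG hx hz fun g hg => (hzx g hg).symm
  have h5 : x (1 - j) = 0 := orbitKer_le_ker x (horb.orbitKer_eq.symm ▸ hCz h1j)
  rw [map_sub, map_one, RingHom.mem_ker.1 (orbitKer_le_ker x hj), sub_zero] at h5
  exact one_ne_zero h5

end Gen

section Rel

variable {k : Type u} [Field k] [IsAlgClosed k] {A : Type u} [CommRing A] [IsDomain A]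
  [HopfAlgebra k A] [Algebra.FiniteType k A]
variable {S R : Type u} [CommRing S] [Algebra k S] [Algebra.FiniteType k S] [HopfRep.Comod k A S]
  [GLin.IsCoactAlg k A S] [CommRing R] [Algebra k R] [Algebra.FiniteType k R] [HopfRep.Comod k A R]
  [GLin.IsCoactAlg k A R] [Algebra S R] [IsScalarTower k S R]

local notation "θ" => IsScalarTower.toAlgHom k S R

/-- The hypotheses of the fundamental lemma: equivariance, a closed orbit downstairs, injectivity on the
orbit and unramifiedness at the point. -/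
structure Data (x : R →ₐ[k] k) : Prop where
  hom : Hoch.IsComodHom A (IsScalarTower.toAlgHom k S R).toLinearMap
  closed : GLin.IsClosedOrbit k A (x.comp (IsScalarTower.toAlgHom k S R))
  inj : ∀ g : A →ₐ[k] k, GLin.actPt k g (x.comp (IsScalarTower.toAlgHom k S R)) =
      x.comp (IsScalarTower.toAlgHom k S R) → GLin.actPt k g x = x
  unram : ∀ r : R, x r = 0 → ∃ t : R, x t ≠ 0 ∧
    t * r ∈ (RingHom.ker (x.comp (IsScalarTower.toAlgHom k S R))).map (algebraMap S R)

variable {x : R →ₐ[k] k} (D : Data (A := A) (S := S) x)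
include D

theorem orbitHom_comp : GLin.orbitHom k A (x.comp θ) = (GLin.orbitHom k A x).comp θ := by
  refine AlgHom.ext fun s => ?_
  refine (Module.Free.chooseBasis k A).repr.injective (Finsupp.ext fun i => ?_)
  change (Module.Free.chooseBasis k A).coord i _ = (Module.Free.chooseBasis k A).coord i _
  rw [apply_orbitHom, AlgHom.comp_apply, AlgHom.comp_apply, apply_orbitHom]
  exact congrArg x (map_dact D.hom _ s)

theorem orbitKer_comp : orbitKer (A := A) (x.comp θ) = (orbitKer (A := A) x).comap (algebraMap S R) := by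
  ext s; rw [Ideal.mem_comap, RingHom.mem_ker, RingHom.mem_ker, orbitHom_comp D]; rfl

theorem stabIdeal_le : GLin.stabIdeal k A x ≤ GLin.stabIdeal k A (x.comp θ) := by
  rw [GLin.stabIdeal, Ideal.map_le_iff_le_comap]
  intro r hr
  rw [Ideal.mem_comap]
  obtain ⟨t, ht, htr⟩ := D.unram r hr
  have h1 : GLin.orbitHom k A x (t * r) ∈ GLin.stabIdeal k A (x.comp θ) := by
    rw [GLin.stabIdeal, orbitHom_comp D]
    have h2 := Ideal.mem_map_of_mem (GLin.orbitHom k A x).toRingHom htr
    rw [Ideal.map_map] at h2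
    exact h2
  rw [map_mul] at h1
  set a := GLin.orbitHom k A x t
  have hunit : Ideal.span {a} ⊔ GLin.stabIdeal k A (x.comp θ) = ⊤ := by
    by_contra hne
    obtain ⟨g, hg⟩ := exists_pt (k := k) hne
    have h2 : g a = 0 := hg (Ideal.mem_sup_left (Ideal.subset_span rfl))
    have h3 : GLin.actPt k g x = x := D.inj g (AlgHom.ext fun s => by
      rw [actPt_apply, ← act_eq_dact]
      exact (stabilizer_le_iff _ g).1 (le_sup_right.trans hg) s)
    exact ht ((AlgHom.congr_fun h3 t).symm.trans h2)
  obtain ⟨u, hu, v, hv, huv⟩ := Submodule.mem_sup.1 (hunit.ge (Submodule.mem_top (x := (1 : A))))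
  obtain ⟨c, rfl⟩ := Ideal.mem_span_singleton'.1 hu
  rw [← one_mul (GLin.orbitHom k A x r), ← huv, add_mul, mul_assoc]
  exact add_mem (Ideal.mul_mem_left _ c h1) (Ideal.mul_mem_right _ _ hv)

theorem range_le : (GLin.orbitHom k A x).range ≤ (GLin.orbitHom k A (x.comp θ)).range :=
  StabFun.range_orbitHom_le x _ D.closed (stabIdeal_le D)

theorem exists_sub_mem_orbitKer (r : R) : ∃ s : S, r - algebraMap S R s ∈ orbitKer (A := A) x := by
  obtain ⟨s, hs⟩ := range_le D ⟨r, rfl⟩
  refine ⟨s, ?_⟩
  rw [RingHom.mem_ker, map_sub, sub_eq_zero]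
  change GLin.orbitHom k A (x.comp θ) s = GLin.orbitHom k A x r at hs
  rw [orbitHom_comp D] at hs
  exact hs.symm

theorem closed_orbit : GLin.IsClosedOrbit k A x := by
  refine isClosedOrbit_of_forall fun z hz => inOrbit_of_ringKrullDim_le hz ?_
  have hzy : InOrbit A (x.comp θ) (z.comp θ) := inOrbit_of_isClosedOrbit D.closed fun s hs => by
    rw [orbitKer_comp D, Ideal.mem_comap] at hs
    exact hz hs
  have hsurj : Function.Surjective ((Ideal.Quotient.mk (orbitKer (A := A) x)).comp (algebraMap S R)) := by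
    intro r
    obtain ⟨r, rfl⟩ := Ideal.Quotient.mk_surjective r
    obtain ⟨s, hs⟩ := exists_sub_mem_orbitKer D r
    exact ⟨s, (Ideal.Quotient.eq.2 hs).symm⟩
  have hle : orbitKer (A := A) x ≤ orbitKer (A := A) z := orbitKer_le_orbitKer hz
  have hzy' : (orbitKer (A := A) z).comap (algebraMap S R) = (orbitKer (A := A) x).comap (algebraMap S R) := by
    refine le_antisymm (fun s hs => ?_) (Ideal.comap_mono hle)
    rw [← orbitKer_comp D, hzy.orbitKer_eq]
    refine (mem_orbitKer_iff _ _).2 fun φ => ?_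
    have h := (mem_orbitKer_iff z _).1 (Ideal.mem_comap.1 hs) φ
    rwa [← show algebraMap S R (dact S φ s) = dact R φ (algebraMap S R s) from map_dact D.hom φ s] at h
  have : orbitKer (A := A) z ≤ orbitKer (A := A) x := fun r hr => by
    obtain ⟨s, hs⟩ := exists_sub_mem_orbitKer D r
    have h1 : s ∈ (orbitKer (A := A) z).comap (algebraMap S R) := by
      rw [Ideal.mem_comap, ← sub_sub_cancel r (algebraMap S R s)]
      exact sub_mem hr (hle hs)
    rw [hzy', Ideal.mem_comap] at h1
    rw [← sub_add_cancel r (algebraMap S R s)]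
    exact add_mem hs h1
  rw [le_antisymm hle this]

/-- `I R`, the ideal generated by the downstairs orbit. -/
theorem isSubcomod_mapOrbit :
    HopfRep.IsSubcomod (k := k) (A := A)
      (((orbitKer (A := A) (x.comp θ)).map (algebraMap S R)).restrictScalars k) := by
  have : (orbitKer (A := A) (x.comp θ)).map (algebraMap S R) =
      Ideal.span (((orbitKer (A := A) (x.comp θ)).restrictScalars k).map (θ).toLinearMap : Submodule k R) := rfl
  rw [this]
  exact isSubcomod_idealSpan (isSubcomod_map D.hom (isSubcomod_orbitKer _))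

theorem orbitKer_local : ∀ j ∈ orbitKer (A := A) x, ∃ t : R, x t ≠ 0 ∧
    t * j ∈ (orbitKer (A := A) (x.comp θ)).map (algebraMap S R) := by
  haveI : IsNoetherianRing R := Algebra.FiniteType.isNoetherianRing k R
  set J := orbitKer (A := A) x
  set IR := (orbitKer (A := A) (x.comp θ)).map (algebraMap S R) with hIR
  haveI : (RingHom.ker x).IsPrime := RingHom.ker_isPrime x.toRingHom
  set L := Localization.AtPrime (RingHom.ker x)
  have key : ∀ j ∈ J, ∃ t : R, x t ≠ 0 ∧ t * j ∈ IR ⊔ RingHom.ker x * J := by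
    intro j hj
    obtain ⟨t, ht, htj⟩ := D.unram j (orbitKer_le_ker x hj)
    refine ⟨t, ht, ?_⟩
    have hz : ∀ z ∈ (RingHom.ker (x.comp θ)).map (algebraMap S R), ∃ s : S,
        z - algebraMap S R s ∈ RingHom.ker x * J := by
      intro z hz
      rw [Ideal.map] at hz
      induction hz using Submodule.span_induction with
      | mem y hy => obtain ⟨s, -, rfl⟩ := hy; exact ⟨s, by simp⟩
      | zero => exact ⟨0, by simp⟩
      | add a b _ _ ha hb =>
        obtain ⟨s, hs⟩ := ha
        obtain ⟨s', hs'⟩ := hb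
        exact ⟨s + s', by rw [map_add, add_sub_add_comm]; exact add_mem hs hs'⟩
      | smul r a ha' ha =>
        obtain ⟨s, hs⟩ := ha
        obtain ⟨s₀, hs₀⟩ := exists_sub_mem_orbitKer D r
        refine ⟨s₀ * s, ?_⟩
        rw [smul_eq_mul, map_mul,
          show r * a - algebraMap S R s₀ * algebraMap S R s =
            algebraMap S R s₀ * (a - algebraMap S R s) + a * (r - algebraMap S R s₀) by ring]
        refine add_mem (Ideal.mul_mem_left _ _ hs) (Ideal.mul_mem_mul ?_ hs₀)
        exact (Ideal.map_le_iff_le_comap.2 fun s hs => hs) ha'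
    obtain ⟨s, hs⟩ := hz _ htj
    rw [← sub_add_cancel (t * j) (algebraMap S R s)]
    refine add_mem (Ideal.mem_sup_right hs) (Ideal.mem_sup_left (Ideal.mem_map_of_mem _ ?_))
    rw [orbitKer_comp D, Ideal.mem_comap, ← sub_sub_cancel (t * j) (algebraMap S R s)]
    exact sub_mem (Ideal.mul_mem_left _ _ hj) (Ideal.mul_le_right hs)
  have hle : J.map (algebraMap R L) ≤ IR.map (algebraMap R L) := by
    refine Submodule.le_of_le_smul_of_le_jacobson_bot (I := (RingHom.ker x).map (algebraMap R L))
      (IsNoetherian.noetherian _) ?_ ?_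
    · rw [IsLocalRing.jacobson_eq_maximalIdeal ⊥ bot_ne_top, ← Localization.AtPrime.map_eq_maximalIdeal]
    · rw [Ideal.map_le_iff_le_comap]
      intro j hj
      obtain ⟨t, ht, htj⟩ := key j hj
      have h := Ideal.mem_map_of_mem (algebraMap R L) htj
      rw [Ideal.map_sup, Ideal.map_mul, map_mul] at h
      rw [Ideal.mem_comap, smul_eq_mul]
      exact (Ideal.unit_mul_mem_iff_mem _ (IsLocalization.map_units L (⟨t, ht⟩ : (RingHom.ker x).primeCompl))).1 h
  intro j hj
  have h := hle (Ideal.mem_map_of_mem _ hj)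
  rw [IsLocalization.algebraMap_mem_map_algebraMap_iff (RingHom.ker x).primeCompl] at h
  obtain ⟨t, ht, htj⟩ := h
  exact ⟨t, ht, htj⟩

theorem orbitKer_le_sup : orbitKer (A := A) x ≤
    (orbitKer (A := A) (x.comp θ)).map (algebraMap S R) ⊔ orbitKer (A := A) x * orbitKer (A := A) x := by
  classical
  haveI : IsNoetherianRing R := Algebra.FiniteType.isNoetherianRing k R
  set J := orbitKer (A := A) x
  set IR := (orbitKer (A := A) (x.comp θ)).map (algebraMap S R)
  obtain ⟨gens, hgens⟩ := IsNoetherian.noetherian J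
  have hg : ∀ j ∈ gens, j ∈ J := fun j hj => hgens ▸ Submodule.subset_span hj
  choose t ht htj using fun j (hj : j ∈ gens) => orbitKer_local D j (hg j hj)
  let T : R := ∏ j ∈ gens.attach, t j.1 j.2
  have hT : x T ≠ 0 := by
    rw [map_prod]; exact Finset.prod_ne_zero_iff.2 fun j _ => ht j.1 j.2
  have hTC : T ∈ IR.colon (J : Set R) := by
    rw [Submodule.mem_colon]
    intro j hj
    rw [SetLike.mem_coe, ← hgens] at hj
    induction hj using Submodule.span_induction with
    | mem y hy =>
      change T * y ∈ IR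
      rw [show T * y = (∏ j ∈ gens.attach.erase ⟨y, hy⟩, t j.1 j.2) * (t y hy * y) by
        rw [← mul_assoc, Finset.prod_erase_mul _ _ (Finset.mem_attach _ ⟨y, hy⟩)]]
      exact Ideal.mul_mem_left _ _ (htj y hy)
    | zero => simp
    | add a b _ _ ha hb => rw [smul_add]; exact add_mem ha hb
    | smul r a _ ha => rw [smul_comm]; exact Ideal.mul_mem_left _ r ha
  have hC := isSubcomod_colon (isSubcomod_orbitKer (A := A) x) (isSubcomod_mapOrbit D)
  have htop := sup_orbitKer_eq_top (closed_orbit D) hC fun h => hT (h hTC)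
  intro j hj
  obtain ⟨c, hc, i, hi, hci⟩ := Submodule.mem_sup.1 (htop.ge (Submodule.mem_top (x := (1 : R))))
  rw [← one_mul j, ← hci, add_mul]
  exact add_mem (Ideal.mem_sup_left (Submodule.mem_colon.1 hc j hj)) (Ideal.mem_sup_right (Ideal.mul_mem_mul hi hj))

theorem pow_orbitKer_le_sup (n : ℕ) : orbitKer (A := A) x ^ n ≤
    ((orbitKer (A := A) (x.comp θ)) ^ n).map (algebraMap S R) ⊔ orbitKer (A := A) x ^ (n + 1) := by
  induction n with
  | zero => simp [Ideal.map_top]
  | succ n ih =>
    set J := orbitKer (A := A) x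
    set I := orbitKer (A := A) (x.comp θ)
    have hIJ : I.map (algebraMap S R) ≤ J := Ideal.map_le_iff_le_comap.2 (orbitKer_comp D).le
    calc J ^ (n + 1) = J ^ n * J := pow_succ _ _
      _ ≤ ((I ^ n).map (algebraMap S R) ⊔ J ^ (n + 1)) * (I.map (algebraMap S R) ⊔ J * J) :=
        Ideal.mul_mono ih (orbitKer_le_sup D)
      _ ≤ (I ^ (n + 1)).map (algebraMap S R) ⊔ J ^ (n + 1 + 1) := by
        have hn : (I ^ n).map (algebraMap S R) ≤ J ^ n := by
          rw [Ideal.map_pow]; exact Ideal.pow_right_mono hIJ n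
        rw [Ideal.mul_sup, Ideal.sup_mul, Ideal.sup_mul, ← Ideal.map_mul, ← pow_succ]
        refine sup_le (sup_le le_sup_left (le_sup_of_le_right ?_)) (sup_le (le_sup_of_le_right ?_) (le_sup_of_le_right ?_))
        · rw [pow_succ J (n + 1)]; exact Ideal.mul_mono le_rfl hIJ
        · refine (Ideal.mul_mono hn le_rfl).trans (le_of_eq ?_)
          rw [← mul_assoc, ← pow_succ, ← pow_succ]
        · refine (Ideal.mul_mono le_rfl (Ideal.mul_le_left (I := J) (J := J))).trans (le_of_eq ?_)
          rw [← pow_succ]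

theorem exists_sub_mem_pow (n : ℕ) (r : R) :
    ∃ s : S, r - algebraMap S R s ∈ orbitKer (A := A) x ^ n := by
  induction n generalizing r with
  | zero => exact ⟨0, by simp⟩
  | succ n ih =>
    obtain ⟨s, hs⟩ := ih r
    have h1 := pow_orbitKer_le_sup D n hs
    obtain ⟨a, ha, b, hb, hab⟩ := Submodule.mem_sup.1 h1
    have key : ∀ a ∈ ((orbitKer (A := A) (x.comp θ)) ^ n).map (algebraMap S R),
        ∃ s₁ : S, a - algebraMap S R s₁ ∈ orbitKer (A := A) x ^ (n + 1) := by
      intro a ha
      rw [Ideal.map] at ha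
      induction ha using Submodule.span_induction with
      | mem y hy => obtain ⟨s₁, -, rfl⟩ := hy; exact ⟨s₁, by simp⟩
      | zero => exact ⟨0, by simp⟩
      | add a b _ _ ha hb =>
        obtain ⟨s₁, hs₁⟩ := ha
        obtain ⟨s₂, hs₂⟩ := hb
        exact ⟨s₁ + s₂, by rw [map_add, add_sub_add_comm]; exact add_mem hs₁ hs₂⟩
      | smul c a ha' ha =>
        obtain ⟨s₁, hs₁⟩ := ha
        obtain ⟨s₀, hs₀⟩ := exists_sub_mem_orbitKer D c
        refine ⟨s₀ * s₁, ?_⟩
        rw [smul_eq_mul, map_mul,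
          show c * a - algebraMap S R s₀ * algebraMap S R s₁ =
            algebraMap S R s₀ * (a - algebraMap S R s₁) + a * (c - algebraMap S R s₀) by ring]
        refine add_mem (Ideal.mul_mem_left _ _ hs₁) ?_
        rw [pow_succ]
        refine Ideal.mul_mem_mul ((Ideal.map_le_iff_le_comap.2 ?_) ha') hs₀
        rw [orbitKer_comp D]
        exact (Ideal.le_comap_pow _ n)
    obtain ⟨s₁, hs₁⟩ := key a ha
    refine ⟨s + s₁, ?_⟩
    rw [map_add, show r - (algebraMap S R s + algebraMap S R s₁) = (a - algebraMap S R s₁) + b by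
      rw [← sub_sub, ← hab]; ring]
    exact add_mem hs₁ hb

theorem mem_pow_of_algebraMap_mem [(RingHom.ker x.toRingHom).IsPrime]
    [Module.Flat S (Localization.AtPrime (RingHom.ker x.toRingHom))]
    (n : ℕ) (s : S) (hs : algebraMap S R s ∈ orbitKer (A := A) x ^ n) :
    s ∈ orbitKer (A := A) (x.comp θ) ^ n := by
  classical
  haveI : IsNoetherianRing S := Algebra.FiniteType.isNoetherianRing k S
  set J := orbitKer (A := A) x
  set I := orbitKer (A := A) (x.comp θ)
  set m := RingHom.ker x.toRingHom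
  set p := m.under S
  haveI : m.LiesOver p := ⟨rfl⟩
  letI := Localization.AtPrime.algebraOfLiesOver p m
  set L := Localization.AtPrime m
  set Sp := Localization.AtPrime p
  haveI : Module.Flat Sp L := (Module.flat_iff_of_isLocalization Sp p.primeCompl L).mpr inferInstance
  haveI : Module.FaithfullyFlat Sp L := Module.FaithfullyFlat.of_flat_of_isLocalHom
  have hJL : J.map (algebraMap R L) = (I.map (algebraMap S R)).map (algebraMap R L) := by
    refine le_antisymm ?_ (Ideal.map_mono (Ideal.map_le_iff_le_comap.2 (orbitKer_comp D).le))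
    rw [Ideal.map_le_iff_le_comap]
    intro j hj
    obtain ⟨t, ht, htj⟩ := orbitKer_local D j hj
    rw [Ideal.mem_comap, IsLocalization.algebraMap_mem_map_algebraMap_iff m.primeCompl]
    exact ⟨t, ht, htj⟩
  have hloc : ∀ s : S, algebraMap S R s ∈ J ^ n → ∃ u ∉ p, u * s ∈ I ^ n := by
    intro s hs
    have h1 := Ideal.mem_map_of_mem (algebraMap R L) hs
    rw [Ideal.map_pow, hJL, ← Ideal.map_pow, ← Ideal.map_pow, Ideal.map_map,
      ← IsScalarTower.algebraMap_apply, ← IsScalarTower.algebraMap_eq] at h1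
    rw [IsScalarTower.algebraMap_eq S Sp L, ← Ideal.map_map] at h1
    have h2 : algebraMap S Sp s ∈ (I ^ n).map (algebraMap S Sp) := by
      rw [← Ideal.comap_map_eq_self_of_faithfullyFlat (B := L) ((I ^ n).map (algebraMap S Sp))]
      exact h1
    rw [IsLocalization.algebraMap_mem_map_algebraMap_iff p.primeCompl] at h2
    exact h2
  set K : Ideal S := (J ^ n).comap (algebraMap S R) with hKdef
  have hK : HopfRep.IsSubcomod (k := k) (A := A) (K.restrictScalars k) := by
    rw [show K.restrictScalars k = ((J ^ n).restrictScalars k).comap (θ).toLinearMap from rfl]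
    exact isSubcomod_comap D.hom (isSubcomod_ideal_pow (isSubcomod_orbitKer x) n)
  obtain ⟨gens, hgens⟩ := IsNoetherian.noetherian K
  have hg : ∀ j ∈ gens, j ∈ K := fun j hj => hgens ▸ Submodule.subset_span hj
  choose u hu hus using fun j (hj : j ∈ gens) => hloc j (hg j hj)
  let T : S := ∏ j ∈ gens.attach, u j.1 j.2
  have hT : T ∉ p := fun h => by
    obtain ⟨j, -, hj⟩ := (inferInstance : p.IsPrime).prod_mem_iff.1 h
    exact hu j.1 j.2 hj
  have hTC : T ∈ (I ^ n).colon (K : Set S) := by
    rw [Submodule.mem_colon]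
    intro j hj
    rw [SetLike.mem_coe, ← hgens] at hj
    induction hj using Submodule.span_induction with
    | mem y hy =>
      change T * y ∈ I ^ n
      rw [show T * y = (∏ j ∈ gens.attach.erase ⟨y, hy⟩, u j.1 j.2) * (u y hy * y) by
        rw [← mul_assoc, Finset.prod_erase_mul _ _ (Finset.mem_attach _ ⟨y, hy⟩)]]
      exact Ideal.mul_mem_left _ _ (hus y hy)
    | zero => simp
    | add a b _ _ ha hb => rw [smul_add]; exact add_mem ha hb
    | smul r a _ ha => rw [smul_comm]; exact Ideal.mul_mem_left _ r ha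
  have hC := isSubcomod_colon hK (isSubcomod_ideal_pow (isSubcomod_orbitKer (A := A) (x.comp θ)) n)
  have htop := Ideal.sup_pow_eq_top (n := n) (sup_orbitKer_eq_top D.closed hC fun h => hT (h hTC))
  obtain ⟨c, hc, i, hi, hci⟩ := Submodule.mem_sup.1 (htop.ge (Submodule.mem_top (x := (1 : S))))
  rw [← one_mul s, ← hci, add_mul]
  exact add_mem (Submodule.mem_colon.1 hc s hs) (Ideal.mul_mem_right _ _ hi)

/-- Invariants upstairs are invariants downstairs to every order along the orbit. -/
theorem exists_invariant_sub_mem_pow (hG : HopfRep.IsLinearlyReductive k A) (n : ℕ)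
    {r : R} (hr : r ∈ HopfRep.fixedPts k A R) :
    ∃ s ∈ HopfRep.fixedPts k A S, r - algebraMap S R s ∈ orbitKer (A := A) x ^ n := by
  obtain ⟨s, hs⟩ := exists_sub_mem_pow D n r
  obtain ⟨E, hE⟩ := exists_isReynolds (A := A) S hG
  obtain ⟨F, hF⟩ := exists_isReynolds (A := A) R hG
  refine ⟨E s, hE.mem s, ?_⟩
  have h1 : F (r - algebraMap S R s) ∈ orbitKer (A := A) x ^ n :=
    hF.map_mem hG (isSubcomod_ideal_pow (isSubcomod_orbitKer x) n) hs
  rwa [map_sub, hF.apply_of_mem hr, show F (algebraMap S R s) = algebraMap S R (E s) from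
    LinearMap.congr_fun (IsReynolds.natural hG hE hF D.hom) s] at h1

end Rel

end Groth.Agent.H60.Luna
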