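import Mathlib.LinearAlgebra.FreeModule.PID
import Mathlib.Algebra.Order.Archimedean.Basic
import Mathlib.Algebra.Order.Group.Abs
import Mathlib.RingTheory.Finiteness.Basic
import Mathlib.LinearAlgebra.Dimension.Finite
import Mathlib.RingTheory.PrincipalIdealDomain
import Mathlib.Algebra.Order.Ring.Int
import Mathlib.Algebra.EuclideanDomain.Int
import Mathlib.Algebra.Module.Torsion.Free

/-!
# Integer valued homomorphisms positive on finitely many positive elements
-/

set_option autoImplicit false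
universe u
namespace Groth.Agent.H60.OrderHom

variable {G : Type u} [AddCommGroup G] [Module.Free ℤ G] (Pos : G → Prop)
  (hadd : ∀ a b, Pos a → Pos b → Pos (a + b)) (h0 : ¬ Pos 0)

include hadd h0

theorem exists_hom (P : Finset G) (hP : ∀ p ∈ P, Pos p) :
    ∃ φ : G →+ ℤ, ∀ p ∈ P, 0 < φ p := by
  classical
  have hsmul : ∀ (a : G), Pos a → ∀ m : ℕ, Pos ((m + 1) • a) := by
    intro a ha m
    induction m with
    | zero => simpa using ha
    | succ m ih => rw [succ_nsmul]; exact hadd _ _ ih ha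
  have hzsmul : ∀ (a : G), Pos a → ∀ z : ℤ, 0 < z → Pos (z • a) := by
    intro a ha z hz
    obtain ⟨m, rfl⟩ : ∃ m : ℕ, z = (m + 1 : ℕ) := ⟨z.toNat - 1, by omega⟩
    rw [natCast_zsmul]
    exact hsmul a ha m
  have hone : ∀ p, Pos p → ∃ φ : G →+ ℤ, 0 < φ p := by
    intro p hp
    let b := Module.Free.chooseBasis ℤ G
    have hp0 : p ≠ 0 := fun h => h0 (h ▸ hp)
    obtain ⟨i, hi⟩ : ∃ i, b.coord i p ≠ 0 := by
      by_contra hcon
      push Not at hcon
      exact hp0 (b.forall_coord_eq_zero_iff.1 hcon)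
    rcases lt_or_gt_of_ne hi with h | h
    · exact ⟨-(b.coord i).toAddMonoidHom, by simpa using h⟩
    · exact ⟨(b.coord i).toAddMonoidHom, by simpa using h⟩
  suffices H : ∀ m : ℕ, ∀ P : Finset G, P.card ≤ m → (∀ p ∈ P, Pos p) → ∃ φ : G →+ ℤ, ∀ p ∈ P, 0 < φ p from
    H P.card P le_rfl hP
  intro m
  induction m with
  | zero => exact fun P hc _ => ⟨0, fun p hp => absurd (Finset.card_pos.2 ⟨p, hp⟩) (by omega)⟩
  | succ m ih =>
    intro P hc hP
    rcases P.eq_empty_or_nonempty with rfl | ⟨p, hp⟩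
    · exact ⟨0, by simp⟩
    have hc' : (P.erase p).card ≤ m := by rw [Finset.card_erase_of_mem hp]; omega
    obtain ⟨φ, hφ⟩ := ih _ hc' fun q hq => hP q (Finset.mem_of_mem_erase hq)
    rcases lt_trichotomy (φ p) 0 with hneg | hzero | hpos
    · let T : G → G := fun q => φ q • p + (-φ p) • q
      obtain ⟨ψ, hψ⟩ := ih ((P.erase p).image T) (Finset.card_image_le.trans hc') fun z hz => by
        obtain ⟨q, hq, rfl⟩ := Finset.mem_image.1 hz
        exact hadd _ _ (hzsmul _ (hP p hp) _ (hφ q hq))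
          (hzsmul _ (hP q (Finset.mem_of_mem_erase hq)) _ (by omega))
      set N := ∑ q ∈ P.erase p, φ q + 1 with hN
      refine ⟨(N * ψ p - 1) • φ + (N * (-φ p)) • ψ, fun q hq => ?_⟩
      simp only [AddMonoidHom.add_apply, AddMonoidHom.smul_apply, smul_eq_mul]
      by_cases hqp : q = p
      · subst hqp
        nlinarith
      · have hq' : q ∈ P.erase p := Finset.mem_erase.2 ⟨hqp, hq⟩
        have h1 : 0 < φ q * ψ p + (-φ p) * ψ q := by
          have := hψ _ (Finset.mem_image_of_mem T hq')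
          simpa [T] using this
        have h2 : φ q < N := by
          have := Finset.single_le_sum (fun r hr => (hφ r hr).le) hq'
          omega
        nlinarith [hφ q hq']
    · obtain ⟨ψ, hψ⟩ := hone p (hP p hp)
      set N := ∑ q ∈ P.erase p, |ψ q| + 1 with hN
      refine ⟨N • φ + ψ, fun q hq => ?_⟩
      simp only [AddMonoidHom.add_apply, AddMonoidHom.smul_apply, smul_eq_mul]
      by_cases hqp : q = p
      · subst hqp
        rw [hzero, mul_zero, zero_add]
        exact hψ
      · have hq' : q ∈ P.erase p := Finset.mem_erase.2 ⟨hqp, hq⟩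
        have h2 : |ψ q| < N := by
          have := Finset.single_le_sum (fun r _ => abs_nonneg (ψ r)) hq'
          omega
        have h3 := neg_abs_le (ψ q)
        nlinarith [hφ q hq', abs_nonneg (ψ q)]
    · refine ⟨φ, fun q hq => ?_⟩
      by_cases hqp : q = p
      · exact hqp ▸ hpos
      · exact hφ q (Finset.mem_erase.2 ⟨hqp, hq⟩)

omit hadd h0 in
/-- For a finite family in an ordered group: integers with the same signs on finitely many combinations. -/
theorem exists_int_weights {Γ : Type u} [AddCommGroup Γ] [LinearOrder Γ] [IsOrderedAddMonoid Γ]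
    {ι : Type*} [Fintype ι] (γ : ι → Γ) (hγ : ∃ i, γ i ≠ 0) (S : Finset (ι → ℤ)) :
    ∃ r : ι → ℤ, r ≠ 0 ∧ (∑ i, γ i = 0 → ∑ i, r i = 0) ∧
      ∀ w ∈ S, (0 ≤ ∑ i, w i • γ i → 0 ≤ ∑ i, w i * r i) ∧ (0 < ∑ i, w i • γ i → 0 < ∑ i, w i * r i) := by
  classical
  let H : Submodule ℤ Γ := Submodule.span ℤ (Set.range γ)
  haveI : Module.Finite ℤ H := Module.Finite.span_of_finite ℤ (Set.finite_range γ)
  haveI : Module.Free ℤ H := Module.free_of_finite_type_torsion_free'
  let g : ι → H := fun i => ⟨γ i, Submodule.subset_span ⟨i, rfl⟩⟩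
  let val : (ι → ℤ) → H := fun w => ∑ i, w i • g i
  have hval : ∀ w, ((val w : H) : Γ) = ∑ i, w i • γ i := fun w => by simp [val, g]
  obtain ⟨i₀, hi₀⟩ := hγ
  let e : H := if 0 < γ i₀ then g i₀ else -g i₀
  have he : (0 : Γ) < (e : Γ) := by
    simp only [e]
    split_ifs with h
    · exact h
    · simpa [g] using lt_of_le_of_ne (not_lt.1 h) hi₀
  obtain ⟨φ, hφ⟩ := exists_hom (fun a : H => (0 : Γ) < a) (fun a b ha hb => add_pos ha hb) (lt_irrefl _)
    (insert e ((S.image val).filter fun a : H => (0 : Γ) < a)) (fun p hp => by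
      rcases Finset.mem_insert.1 hp with rfl | hp
      exacts [he, (Finset.mem_filter.1 hp).2])
  have hr : ∀ w : ι → ℤ, ∑ i, w i * φ (g i) = φ (val w) := fun w => by simp [val]
  refine ⟨fun i => φ (g i), fun h => ?_, fun h => ?_, fun w hw => ?_⟩
  · have h1 : φ (g i₀) = 0 := congrFun h i₀
    have h2 := hφ e (Finset.mem_insert_self _ _)
    simp only [e] at h2
    split_ifs at h2 <;> simp [h1] at h2
  · have h1 : ∑ i, g i = 0 := Subtype.ext (by simpa [g] using h)
    rw [← map_sum, h1, map_zero]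
  · have hpos : 0 < ∑ i, w i • γ i → 0 < φ (val w) := fun hlt => hφ _ (Finset.mem_insert_of_mem
      (Finset.mem_filter.2 ⟨Finset.mem_image_of_mem _ hw, by rwa [hval]⟩))
    refine ⟨fun hle => ?_, fun hlt => by rw [hr]; exact hpos hlt⟩
    rw [hr]
    rcases hle.eq_or_lt with h | h
    · have : val w = 0 := Subtype.ext (by rw [hval, ← h]; rfl)
      rw [this, map_zero]
    · exact (hpos h).le

end Groth.Agent.H60.OrderHom
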