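import Mathlib.RingTheory.Valuation.ValuationRing
import Mathlib.LinearAlgebra.Matrix.Determinant.Basic
import Mathlib.LinearAlgebra.Matrix.NonsingularInverse
import Mathlib.RingTheory.Localization.FractionRing
import Mathlib.Data.Matrix.Block

/-!
# Diagonalisation over a valuation ring
-/

set_option autoImplicit false
universe u v
namespace Groth.Agent.H60.SmithVal

open Matrix

variable {R : Type u} [CommRing R] [IsDomain R] [ValuationRing R]
variable {K : Type v} [Field K] [Algebra R K] [IsFractionRing R K]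

/-- A nonempty family in the fraction field has a member dividing all of them. -/
theorem exists_dvd {ι : Type*} [Fintype ι] [Nonempty ι] (f : ι → K) :
    ∃ p, ∀ i, ∃ r : R, f i = algebraMap R K r * f p := by
  classical
  suffices h : ∀ s : Finset ι, s.Nonempty → ∃ p, ∀ i ∈ s, ∃ r : R, f i = algebraMap R K r * f p by
    obtain ⟨p, hp⟩ := h Finset.univ Finset.univ_nonempty
    exact ⟨p, fun i => hp i (Finset.mem_univ i)⟩
  intro s hs
  induction hs using Finset.Nonempty.cons_induction with
  | singleton a => exact ⟨a, fun i hi => ⟨1, by rw [Finset.mem_singleton.1 hi, map_one, one_mul]⟩⟩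
  | cons a s ha hs ih =>
    obtain ⟨p, hp⟩ := ih
    by_cases hp0 : f p = 0
    · exact ⟨a, fun i hi => by
        rcases Finset.mem_cons.1 hi with rfl | hi
        · exact ⟨1, by rw [map_one, one_mul]⟩
        · obtain ⟨r, hr⟩ := hp i hi; exact ⟨0, by rw [hr, hp0, mul_zero, map_zero, zero_mul]⟩⟩
    rcases ValuationRing.isInteger_or_isInteger R (f a / f p) with ⟨r, hr⟩ | ⟨r, hr⟩
    · exact ⟨p, fun i hi => by
        rcases Finset.mem_cons.1 hi with rfl | hi
        · exact ⟨r, by rw [hr, div_mul_cancel₀ _ hp0]⟩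
        · exact hp i hi⟩
    · rw [inv_div] at hr
      by_cases ha0 : f a = 0
      · exact ⟨p, fun i hi => by
          rcases Finset.mem_cons.1 hi with rfl | hi
          · exact ⟨0, by rw [ha0, map_zero, zero_mul]⟩
          · exact hp i hi⟩
      · exact ⟨a, fun i hi => by
          rcases Finset.mem_cons.1 hi with rfl | hi
          · exact ⟨1, by rw [map_one, one_mul]⟩
          · obtain ⟨s, hs⟩ := hp i hi
            exact ⟨s * r, by rw [hs, map_mul, hr, mul_assoc, div_mul_cancel₀ _ ha0]⟩⟩

theorem diagonalize_aux : ∀ (n : ℕ) (Ξ : Matrix (Fin n) (Fin n) K),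
    ∃ (A B : Matrix (Fin n) (Fin n) R) (d : Fin n → K), IsUnit A.det ∧ IsUnit B.det ∧
      Ξ = A.map (algebraMap R K) * diagonal d * B.map (algebraMap R K) := by
  intro n
  induction n with
  | zero => exact fun Ξ => ⟨1, 1, fun _ => 0, by simp, by simp, by ext i; exact i.elim0⟩
  | succ n ih =>
    intro Ξ
    obtain ⟨⟨a, b⟩, hp⟩ := exists_dvd (R := R) fun q : Fin (n + 1) × Fin (n + 1) => Ξ q.1 q.2
    choose c hc using fun i j => hp (i, j)
    let e₁ : Fin (n + 1) ≃ Unit ⊕ Fin n :=
      ((finSuccEquiv' a).trans (Equiv.optionEquivSumPUnit.{0, 0} (Fin n))).trans (Equiv.sumComm _ _)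
    let e₂ : Fin (n + 1) ≃ Unit ⊕ Fin n :=
      ((finSuccEquiv' b).trans (Equiv.optionEquivSumPUnit.{0, 0} (Fin n))).trans (Equiv.sumComm _ _)
    have ha : e₁.symm (Sum.inl ()) = a := by rw [Equiv.symm_apply_eq]; simp [e₁]
    have hb : e₂.symm (Sum.inl ()) = b := by rw [Equiv.symm_apply_eq]; simp [e₂]
    let φ := algebraMap R K
    let col : Matrix (Fin n) Unit R := Matrix.of fun i _ => c (e₁.symm (Sum.inr i)) b
    let row : Matrix Unit (Fin n) R := Matrix.of fun _ j => c a (e₂.symm (Sum.inr j))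
    let Ξ' : Matrix (Fin n) (Fin n) K := Matrix.of fun i j =>
      Ξ (e₁.symm (Sum.inr i)) (e₂.symm (Sum.inr j)) -
        φ (c (e₁.symm (Sum.inr i)) b) * Ξ a b * φ (c a (e₂.symm (Sum.inr j)))
    obtain ⟨A', B', d', hA', hB', hΞ'⟩ := ih Ξ'
    let L : Matrix (Unit ⊕ Fin n) (Unit ⊕ Fin n) R := fromBlocks 1 0 col A'
    let U : Matrix (Unit ⊕ Fin n) (Unit ⊕ Fin n) R := fromBlocks 1 row 0 B'
    let D : Unit ⊕ Fin n → K := Sum.elim (fun _ => Ξ a b) d'
    have hblock : Ξ.submatrix e₁.symm e₂.symm = L.map φ * diagonal D * U.map φ := by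
      have hD : diagonal D = fromBlocks (diagonal fun _ : Unit => Ξ a b) 0 0 (diagonal d') :=
        (fromBlocks_diagonal _ _).symm
      simp only [L, U, hD, fromBlocks_map, fromBlocks_multiply, Matrix.map_zero _ φ.map_zero,
        Matrix.map_one _ φ.map_zero φ.map_one, Matrix.mul_zero, Matrix.zero_mul, add_zero, zero_add,
        Matrix.one_mul, Matrix.mul_one, ← hΞ', φ]
      ext (i | i) (j | j)
      · simp [ha, hb]
      · simp [ha, row, Matrix.diagonal_mul, hc a (e₂.symm (Sum.inr j)), mul_comm]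
      · simp [hb, col, Matrix.mul_diagonal, hc (e₁.symm (Sum.inr i)) b]
      · simp [col, row, Matrix.mul_apply, Ξ', φ]
    refine ⟨L.submatrix e₁ e₁, U.submatrix e₁ e₂, D ∘ e₁, ?_, ?_, ?_⟩
    · rw [det_submatrix_equiv_self]
      simp only [L, det_fromBlocks_zero₁₂, det_one, one_mul]
      exact hA'
    · have : U.submatrix e₁ e₂ = (U.submatrix e₁ e₁).submatrix id (e₂.trans e₁.symm) := by
        ext i j; simp
      rw [this, det_permute', det_submatrix_equiv_self]
      simp only [U, det_fromBlocks_zero₂₁, det_one, one_mul]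
      exact IsUnit.mul ((Equiv.Perm.sign _).isUnit.map (Int.castRingHom R)) hB'
    · have h2 : Ξ = (Ξ.submatrix e₁.symm e₂.symm).submatrix e₁ e₂ := by ext i j; simp
      conv_lhs => rw [h2, hblock]
      rw [← submatrix_map, ← submatrix_map, ← submatrix_diagonal_equiv, submatrix_mul_equiv, submatrix_mul_equiv]

/-- Smith form over a valuation ring, with determinant one. -/
theorem diagonalize (n : ℕ) (Ξ : Matrix (Fin n) (Fin n) K) :
    ∃ (A B : Matrix (Fin n) (Fin n) R) (d : Fin n → K), A.det = 1 ∧ B.det = 1 ∧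
      Ξ = A.map (algebraMap R K) * diagonal d * B.map (algebraMap R K) := by
  classical
  rcases n with _ | n
  · exact ⟨1, 1, fun _ => 0, by simp, by simp, by ext i; exact i.elim0⟩
  obtain ⟨A, B, d, hA, hB, hΞ⟩ := diagonalize_aux (R := R) (n + 1) Ξ
  obtain ⟨u, hu⟩ := hA
  obtain ⟨w, hw⟩ := hB
  let P : R → Matrix (Fin (n + 1)) (Fin (n + 1)) R := fun r => diagonal fun i => if i = 0 then r else 1
  have hP : ∀ r, (P r).det = r := fun r => by simp [P, det_diagonal]
  have hPK : ∀ r, (P r).map (algebraMap R K) = diagonal fun i => if i = 0 then algebraMap R K r else 1 := fun r => by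
    ext i j
    by_cases h : i = j
    · subst h; simp [P, apply_ite (algebraMap R K)]
    · simp [P, h]
  refine ⟨A * P (↑u⁻¹), P (↑w⁻¹) * B,
    fun i => (if i = 0 then algebraMap R K u else 1) * d i * (if i = 0 then algebraMap R K w else 1), ?_, ?_, ?_⟩
  · rw [det_mul, hP, ← hu, Units.mul_inv]
  · rw [det_mul, hP, ← hw, Units.inv_mul]
  · simp only [Matrix.map_mul, hPK, Matrix.mul_assoc]
    rw [← Matrix.mul_assoc (diagonal _) (diagonal _) (B.map _), diagonal_mul_diagonal,
      ← Matrix.mul_assoc (diagonal _) (diagonal _) (B.map _), diagonal_mul_diagonal, ← Matrix.mul_assoc, hΞ]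
    refine congrArg (fun D => A.map (algebraMap R K) * diagonal D * B.map (algebraMap R K)) (funext fun i => ?_)
    by_cases h : i = 0
    · subst h
      simp only [if_true]
      have h1 : algebraMap R K ↑u⁻¹ * algebraMap R K u = 1 := by rw [← map_mul, Units.inv_mul, map_one]
      have h2 : algebraMap R K w * algebraMap R K ↑w⁻¹ = 1 := by rw [← map_mul, Units.mul_inv, map_one]
      linear_combination -d 0 * algebraMap R K w * algebraMap R K ↑w⁻¹ * h1 - d 0 * h2
    · simp [h]

end Groth.Agent.H60.SmithVal
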