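import Groth.Agent.Lib.Comod.Linear

/-!
# Semistability is avoiding the origin, for an index type in any universe
-/

set_option autoImplicit false
universe u
namespace Groth.Agent.H60.NullCone

theorem semistable_iff (k : Type u) [Field k] [IsAlgClosed k]
    (A : Type u) [CommRing A] [HopfAlgebra k A] [Algebra.FiniteType k A] (hG : HopfRep.IsLinearlyReductive k A)
    (ι : Type*) [Fintype ι] [HopfRep.Comod k A (MvPolynomial ι k)] [GLin.IsCoactAlg k A (MvPolynomial ι k)]
    (hlin : GLin.IsLinear k A ι) (v : ι → k) :
    GLin.IsSemistableVec k A v ↔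
      ¬ GLin.InOrbitClosure k A (GLin.vecPt k ι v) (GLin.vecPt k ι (fun _ => (0 : k))) := by
  rw [GLin.IsSemistableVec, not_iff_not]
  constructor
  · intro hnull
    refine fun p hp => ?_
    by_contra hne
    have hne' : MvPolynomial.eval (fun _ => (0 : k)) p ≠ 0 := by
      simpa [RingHom.mem_ker, MvPolynomial.aeval_def] using hne
    set I := Groth.Agent.Lib.Comod.Orbits.orbitKer (A := A) (GLin.vecPt k ι v)
    set o := GLin.vecPt k ι (fun _ => (0 : k))
    obtain ⟨z, hz⟩ : ∃ z, I ⊔ Groth.Agent.Lib.Comod.Orbits.orbitKer (A := A) o ≤ RingHom.ker z :=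
      Groth.Agent.Lib.Comod.Orbits.exists_pt (k := k)
        (Groth.Agent.Lib.Comod.Orbits.sup_orbitKer_ne_top hG fun f hf => by
          conv_lhs => rw [← MvPolynomial.sum_homogeneousComponent f]
          conv_rhs => rw [← MvPolynomial.sum_homogeneousComponent f]
          simp only [map_sum]
          refine Finset.sum_congr rfl fun j _ => ?_
          rcases Nat.eq_zero_or_pos j with rfl | hj
          · simp [MvPolynomial.homogeneousComponent_zero]
          · have h1 := hnull _ (Groth.Agent.Lib.Comod.Linear.homogeneousComponent_mem_invariants hlin j hf) j hj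
              (MvPolynomial.homogeneousComponent_isHomogeneous j f)
            have h2 : MvPolynomial.eval (fun _ => (0 : k)) (MvPolynomial.homogeneousComponent j f) = 0 := by
              rw [show (fun _ : ι => (0 : k)) = 0 from rfl, MvPolynomial.eval_zero,
                MvPolynomial.constantCoeff_eq, MvPolynomial.coeff_homogeneousComponent]
              simp [hj.ne]
            simp only [GLin.vecPt, o, MvPolynomial.aeval_def] at h1 h2 ⊢
            simp [MvPolynomial.eval₂_id, h1, MvPolynomial.constantCoeff_eq, MvPolynomial.coeff_homogeneousComponent, hj.ne])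
    have hker : Groth.Agent.Lib.Comod.Orbits.orbitKer (A := A) o = RingHom.ker o := by
      refine le_antisymm (Groth.Agent.Lib.Comod.Orbits.orbitKer_le_ker o)
        (Groth.Agent.Lib.Comod.Orbits.le_orbitKer ?_ le_rfl)
      rw [show (RingHom.ker o).restrictScalars k =
          LinearMap.ker (MvPolynomial.homogeneousComponent (σ := ι) (R := k) 0) from ?_]
      · exact Groth.Agent.Lib.Comod.Basic.isSubcomod_ker
          (Groth.Agent.Lib.Comod.Linear.isComodHom_homogeneousComponent hlin 0)
      · ext q
        simp [o, RingHom.mem_ker, MvPolynomial.homogeneousComponent_zero, MvPolynomial.constantCoeff_eq]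
    have hzo : RingHom.ker z = RingHom.ker o :=
      ((RingHom.ker_isMaximal_of_surjective o (fun c => ⟨MvPolynomial.C c, by simp [o]⟩)).eq_of_le
        (RingHom.ker_ne_top z) (hker ▸ le_sup_right.trans hz)).symm
    exact hne (hzo ▸ (le_sup_left.trans hz) hp)
  · intro hcl F hF d hd hhom
    have h := Groth.Agent.Lib.Comod.Orbits.eq_on_fixedPts (A := A) hcl hF
    have h0 : MvPolynomial.eval (fun _ => (0 : k)) F = 0 := by
      rw [show (fun _ : ι => (0 : k)) = 0 from rfl, MvPolynomial.eval_zero, MvPolynomial.constantCoeff_eq]
      exact hhom.coeff_eq_zero (by simp [hd.ne])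
    simp only [GLin.vecPt, MvPolynomial.aeval_def, Algebra.algebraMap_self, MvPolynomial.eval₂_id] at h
    exact h.symm.trans h0

end Groth.Agent.H60.NullCone
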