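import Groth.Agent.Lib.Comod.Orbits
import Groth.Agent.Lib.Comod.Orbits2
import Groth.Agent.Lib.Comod.Cartier
import Groth.Agent.H60.FreeOrbit
import Groth.Agent.Lib.Dim.Local
import Mathlib.RingTheory.Ideal.KrullsHeightTheorem
import Mathlib.RingTheory.Jacobson.Artinian

/-! Dimensions of orbits: finite stabilisers and orbits in orbit closures. -/

set_option autoImplicit false
set_option linter.unusedSectionVars false
set_option linter.style.haveILetI false
universe u

open TensorProduct
open Groth.Agent.Lib.Comod.Basic Groth.Agent.Lib.Comod.Reynolds Groth.Agent.Lib.Comod.Orbits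
open Groth.Agent.H60.FreeOrbit
open Groth.Agent.Lib.Dim

namespace Groth.Agent.H60.OrbitDim

noncomputable section

variable {k : Type u} [Field k] [IsAlgClosed k] {A : Type u} [CommRing A] [HopfAlgebra k A]
  [Algebra.FiniteType k A]
variable {R : Type u} [CommRing R] [Algebra k R] [HopfRep.Comod k A R] [GLin.IsCoactAlg k A R]

/-- Two orbit morphisms hitting a common prime of `R` give the same orbit. -/
theorem inOrbit_of_comap_eq {y z : R →ₐ[k] k} (p : Ideal R) [p.IsPrime] (q₁ q₂ : Ideal A) [q₁.IsPrime]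
    [q₂.IsPrime] (hq₁' : q₁.comap (GLin.orbitHom k A y).toRingHom = p)
    (hq₂' : q₂.comap (GLin.orbitHom k A z).toRingHom = p) : InOrbit A y z := by
  set φ := (GLin.orbitHom k A y).toRingHom
  set ψ := (GLin.orbitHom k A z).toRingHom
  let e₁ : p.ResidueField →+* q₁.ResidueField := Ideal.ResidueField.map p q₁ φ hq₁'.symm
  let e₂ : p.ResidueField →+* q₂.ResidueField := Ideal.ResidueField.map p q₂ ψ hq₂'.symm
  letI := e₁.toAlgebra
  letI := e₂.toAlgebra
  letI : Algebra k (q₁.ResidueField ⊗[p.ResidueField] q₂.ResidueField) :=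
    Algebra.compHom _ (algebraMap k p.ResidueField)
  have hk₁ : ∀ c : k, algebraMap A q₁.ResidueField (algebraMap k A c) =
      e₁ (algebraMap k p.ResidueField c) := by
    intro c
    rw [IsScalarTower.algebraMap_apply k R p.ResidueField, Ideal.ResidueField.map_algebraMap]
    exact congrArg _ ((GLin.orbitHom k A y).commutes c).symm
  have hk₂ : ∀ c : k, algebraMap A q₂.ResidueField (algebraMap k A c) =
      e₂ (algebraMap k p.ResidueField c) := by
    intro c
    rw [IsScalarTower.algebraMap_apply k R p.ResidueField, Ideal.ResidueField.map_algebraMap]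
    exact congrArg _ ((GLin.orbitHom k A z).commutes c).symm
  let i₁ : A →ₐ[k] q₁.ResidueField ⊗[p.ResidueField] q₂.ResidueField :=
    { ((Algebra.TensorProduct.includeLeftRingHom : q₁.ResidueField →+* _).comp
        (algebraMap A q₁.ResidueField)) with
      commutes' := fun c => by
        change Algebra.TensorProduct.includeLeftRingHom (algebraMap A q₁.ResidueField (algebraMap k A c)) = _
        rw [hk₁]
        rfl }
  let i₂ : A →ₐ[k] q₁.ResidueField ⊗[p.ResidueField] q₂.ResidueField :=
    { ((Algebra.TensorProduct.includeRight : q₂.ResidueField →ₐ[p.ResidueField] _).toRingHom.comp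
        (algebraMap A q₂.ResidueField)) with
      commutes' := fun c => by
        change Algebra.TensorProduct.includeRight (algebraMap A q₂.ResidueField (algebraMap k A c)) = _
        rw [hk₂]
        exact AlgHom.commutes _ _ }
  have key : ∀ f : R, i₁ (φ f) = i₂ (ψ f) := by
    intro f
    change Algebra.TensorProduct.includeLeftRingHom (algebraMap A q₁.ResidueField (φ f)) =
      Algebra.TensorProduct.includeRight (algebraMap A q₂.ResidueField (ψ f))
    rw [← Ideal.ResidueField.map_algebraMap p q₁ φ hq₁'.symm,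
      ← Ideal.ResidueField.map_algebraMap p q₂ ψ hq₂'.symm]
    exact (AlgHom.commutes (Algebra.TensorProduct.includeLeft :
      q₁.ResidueField →ₐ[p.ResidueField] _) _).trans
        (AlgHom.commutes (Algebra.TensorProduct.includeRight :
          q₂.ResidueField →ₐ[p.ResidueField] q₁.ResidueField ⊗[p.ResidueField] q₂.ResidueField) _).symm
  haveI : Algebra.FiniteType k (A ⊗[k] A) :=
    Algebra.FiniteType.trans (S := A) inferInstance (Algebra.FiniteType.baseChange A)
  let Ψ : A ⊗[k] A →ₐ[k] q₁.ResidueField ⊗[p.ResidueField] q₂.ResidueField :=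
    Algebra.TensorProduct.productMap i₁ i₂
  obtain ⟨w, hw⟩ := exists_pt (k := k) (RingHom.ker_ne_top Ψ)
  have hw' : ∀ f : R, w (φ f ⊗ₜ[k] 1) = w (1 ⊗ₜ[k] ψ f) := by
    intro f
    rw [← sub_eq_zero, ← map_sub]
    refine hw ?_
    rw [RingHom.mem_ker, map_sub, sub_eq_zero]
    simp [Ψ, key f]
  have h1 : InOrbit A y (GLin.actPt k (w.comp Algebra.TensorProduct.includeLeft) y) := ⟨_, rfl⟩
  have h2 : InOrbit A z (GLin.actPt k (w.comp Algebra.TensorProduct.includeRight) z) := ⟨_, rfl⟩
  have he : GLin.actPt k (w.comp Algebra.TensorProduct.includeLeft) y =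
      GLin.actPt k (w.comp Algebra.TensorProduct.includeRight) z := AlgHom.ext hw'
  exact h1.trans (he ▸ h2.symm)

theorem height_ker_eq (g : A →ₐ[k] k) :
    (RingHom.ker g).height = (RingHom.ker (Bialgebra.counitAlgHom k A)).height := by
  let e : A ≃ₐ[k] A := AlgEquiv.ofAlgHom (Groth.Agent.Lib.Comod.Cartier.trans g) (Groth.Agent.Lib.Comod.Cartier.trans (invPt g))
    (AlgHom.ext fun a => by
      simp only [AlgHom.comp_apply, AlgHom.id_apply, Groth.Agent.Lib.Comod.Cartier.trans_apply, dact_dact,
        ← mulPt_toLinearMap, mulPt_invPt]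
      exact dact_counit_apply A a)
    (AlgHom.ext fun a => Groth.Agent.Lib.Comod.Cartier.trans_invPt g a)
  rw [← RingEquiv.height_comap e.toRingEquiv (RingHom.ker (Bialgebra.counitAlgHom k A))]
  congr 1
  ext a
  simp only [Ideal.mem_comap, RingHom.mem_ker]
  exact iff_of_eq (congrArg (· = 0) (Groth.Agent.Lib.Comod.Cartier.counit_trans g a).symm)

theorem height_counit_eq :
    ((RingHom.ker (Bialgebra.counitAlgHom k A)).height : WithBot ℕ∞) = ringKrullDim A := by
  refine le_antisymm ?_ ?_
  · haveI := RingHom.ker_isPrime (Bialgebra.counitAlgHom k A).toRingHom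
    exact Ideal.height_le_ringKrullDim_of_ne_top (RingHom.ker_ne_top (Bialgebra.counitAlgHom k A).toRingHom)
  · rw [ringKrullDim_le_iff_isMaximal_height_le]
    intro m hm
    obtain ⟨g, hg⟩ := exists_pt (k := k) hm.ne_top
    rw [hm.eq_of_le (RingHom.ker_ne_top g.toRingHom) hg]
    exact le_of_eq (congrArg _ (height_ker_eq g))

/-- A finite set of rational points means a finite algebra. -/
theorem finite_of_finite_pts {Q : Type u} [CommRing Q] [Algebra k Q] [Algebra.FiniteType k Q]
    (h : Finite (Q →ₐ[k] k)) : Module.Finite k Q := by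
  haveI : IsNoetherianRing Q := Algebra.FiniteType.isNoetherianRing k Q
  haveI : IsJacobsonRing Q := isJacobsonRing_of_finiteType (A := k)
  classical
  haveI : Fintype (Q →ₐ[k] k) := Fintype.ofFinite _
  haveI : Ring.KrullDimLE 0 Q := Ring.KrullDimLE.mk₀ fun P hP => by
    have hle : Finset.univ.inf (fun g : Q →ₐ[k] k => if P ≤ RingHom.ker g then RingHom.ker g else ⊤) ≤ P := by
      conv_rhs => rw [← hP.isRadical.radical, Ideal.radical_eq_jacobson, Ideal.jacobson]
      refine le_sInf fun m hm => ?_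
      obtain ⟨g, hg⟩ := exists_pt (k := k) hm.2.ne_top
      refine (Finset.inf_le (Finset.mem_univ g)).trans ?_
      rw [if_pos (hm.1.trans hg), hm.2.eq_of_le (RingHom.ker_ne_top g.toRingHom) hg]
      exact le_rfl
    obtain ⟨g, -, hg⟩ := (Ideal.IsPrime.inf_le' hP).1 hle
    by_cases hPg : P ≤ RingHom.ker g
    · rw [if_pos hPg] at hg
      rw [le_antisymm hPg hg]
      exact RingHom.ker_isMaximal_of_surjective g fun c => ⟨algebraMap k Q c, AlgHom.commutes g c⟩
    · rw [if_neg hPg] at hg
      exact absurd (top_le_iff.1 hg) hP.ne_top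
  haveI : IsArtinianRing Q := isArtinianRing_iff_isNoetherianRing_krullDimLE_zero.2 ⟨‹_›, ‹_›⟩
  exact (Module.finite_iff_isArtinianRing k Q).2 ‹_›

theorem finite_pts_of_finite {Q : Type u} [CommRing Q] [Algebra k Q] [Module.Finite k Q] :
    Finite (Q →ₐ[k] k) := by
  haveI : IsArtinianRing Q := isArtinian_of_tower k inferInstance
  haveI : Finite {m : Ideal Q // m.IsMaximal} :=
    (IsArtinianRing.setOf_isMaximal_finite Q).to_subtype
  refine Finite.of_injective (β := {m : Ideal Q // m.IsMaximal}) (fun g => ⟨RingHom.ker g,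
    RingHom.ker_isMaximal_of_surjective g fun c => ⟨algebraMap k Q c, AlgHom.commutes g c⟩⟩) ?_
  intro g h hgh
  refine AlgHom.ext fun a => ?_
  have : a - algebraMap k Q (g a) ∈ RingHom.ker g := by simp [RingHom.mem_ker]
  rw [show RingHom.ker g = RingHom.ker h from congrArg Subtype.val hgh] at this
  rw [RingHom.mem_ker, map_sub, AlgHom.commutes, sub_eq_zero] at this
  exact this.symm

theorem stabilizer_le_iff (x : R →ₐ[k] k) (g : A →ₐ[k] k) :
    GLin.stabIdeal k A x ≤ RingHom.ker g ↔
      ∀ f : R, x (HopfRep.Comod.act k A R g f) = x f := by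
  have hact : ∀ f, x (HopfRep.Comod.act k A R g f) = g (GLin.orbitHom k A x f) := fun f =>
    (apply_orbitHom x g.toLinearMap f).symm
  rw [GLin.stabIdeal, Ideal.map_le_iff_le_comap]
  refine ⟨fun h f => ?_, fun h f hf => ?_⟩
  · have h1 : f - algebraMap k R (x f) ∈ RingHom.ker x := by simp [RingHom.mem_ker]
    have h2 := h h1
    rw [Ideal.mem_comap, RingHom.mem_ker, map_sub, AlgHom.commutes, map_sub, AlgHom.commutes,
      sub_eq_zero] at h2
    rw [hact, h2]; rfl
  · rw [Ideal.mem_comap, RingHom.mem_ker, ← hact, h]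
    exact hf

/-- The two notions of finite stabiliser agree. -/
theorem hasFiniteStab_iff (x : R →ₐ[k] k) :
    GLin.HasFiniteStab k A x ↔
      {g : A →ₐ[k] k | ∀ f : R, x (HopfRep.Comod.act k A R g f) = x f}.Finite := by
  haveI : Algebra.FiniteType k (A ⧸ GLin.stabIdeal k A x) :=
    Algebra.FiniteType.of_surjective (Ideal.Quotient.mkₐ k _) (Ideal.Quotient.mkₐ_surjective k _)
  let F : ((A ⧸ GLin.stabIdeal k A x) →ₐ[k] k) ≃
      {g : A →ₐ[k] k // ∀ f : R, x (HopfRep.Comod.act k A R g f) = x f} :=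
    { toFun := fun g => ⟨g.comp (Ideal.Quotient.mkₐ k _), (stabilizer_le_iff x _).1 fun a ha => by
        rw [RingHom.mem_ker, AlgHom.comp_apply, Ideal.Quotient.mkₐ_eq_mk, Ideal.Quotient.eq_zero_iff_mem.2 ha, map_zero]⟩
      invFun := fun g => Ideal.Quotient.liftₐ _ g.1 fun a ha => (stabilizer_le_iff x g.1).2 g.2 ha
      left_inv := fun g => Ideal.Quotient.algHom_ext _ (AlgHom.ext fun a => by simp)
      right_inv := fun g => Subtype.ext (AlgHom.ext fun a => by simp) }
  constructor
  · intro h
    haveI : Module.Finite k (A ⧸ GLin.stabIdeal k A x) := h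
    haveI := finite_pts_of_finite (k := k) (Q := A ⧸ GLin.stabIdeal k A x)
    exact Set.finite_coe_iff.1 (Finite.of_equiv _ F)
  · intro h
    exact finite_of_finite_pts (@Finite.of_equiv _ _ h.to_subtype F.symm)

variable [Algebra.FiniteType k R]

/-- With finite stabiliser the orbit has the dimension of the group. -/
theorem ringKrullDim_le_orbit (y : R →ₐ[k] k) (hy : GLin.HasFiniteStab k A y) :
    ringKrullDim A ≤ ringKrullDim (R ⧸ orbitKer (A := A) y) := by
  haveI : IsNoetherianRing A := Algebra.FiniteType.isNoetherianRing k A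
  haveI : Module.Finite k (A ⧸ GLin.stabIdeal k A y) := hy
  set φ := GLin.orbitHom k A y with hφ
  set B : Subalgebra k A := φ.range
  haveI : Algebra.FiniteType k B := Algebra.FiniteType.of_surjective φ.rangeRestrict φ.rangeRestrict_surjective
  haveI : IsNoetherianRing B := Algebra.FiniteType.isNoetherianRing k B
  haveI hP : (RingHom.ker (Bialgebra.counitAlgHom k A)).IsPrime :=
    RingHom.ker_isPrime (Bialgebra.counitAlgHom k A).toRingHom
  set P : Ideal A := RingHom.ker (Bialgebra.counitAlgHom k A) with hPdef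
  set p : Ideal B := P.under B with hpdef
  haveI : P.LiesOver p := ⟨rfl⟩
  have hε : ∀ r, Bialgebra.counitAlgHom k A (φ r) = y r := fun r => by
    have h := apply_orbitHom y (CoalgebraStruct.counit (R := k) (A := A)) r
    rw [dact_counit_apply] at h
    exact h
  have hp : p = (RingHom.ker y).map φ.rangeRestrict := by
    refine le_antisymm (fun b hb => ?_) (Ideal.map_le_iff_le_comap.2 fun r hr => ?_)
    · obtain ⟨r, rfl⟩ := φ.rangeRestrict_surjective b
      exact Ideal.mem_map_of_mem _ (RingHom.mem_ker.2 ((hε r).symm.trans hb))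
    · exact RingHom.mem_ker.2 ((hε r).trans hr)
  have hstab : p.map (algebraMap B A) = GLin.stabIdeal k A y := by
    rw [hp, GLin.stabIdeal]
    exact Ideal.map_map φ.rangeRestrict.toRingHom (algebraMap B A)
  have h0 : (P.map (Ideal.Quotient.mk (p.map (algebraMap B A)))).height = 0 := by
    haveI hprime : (P.map (Ideal.Quotient.mk (p.map (algebraMap B A)))).IsPrime :=
      Ideal.map_isPrime_of_surjective Ideal.Quotient.mk_surjective (by
        rw [Ideal.mk_ker, Ideal.map_le_iff_le_comap])
    haveI : Ring.KrullDimLE 0 (A ⧸ p.map (algebraMap B A)) := by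
      rw [hstab]
      haveI : IsArtinianRing (A ⧸ GLin.stabIdeal k A y) := isArtinian_of_tower k inferInstance
      infer_instance
    refine le_antisymm ?_ zero_le
    have := Ideal.height_le_ringKrullDim_of_ne_top hprime.ne_top
    exact_mod_cast this.trans (Ring.krullDimLE_iff.1 ‹_›)
  have hker : RingHom.ker φ.rangeRestrict.toRingHom = orbitKer (A := A) y := by
    ext r
    simp only [RingHom.mem_ker]
    exact ⟨fun h => congrArg Subtype.val h, fun h => Subtype.ext h⟩
  have hB : ringKrullDim B = ringKrullDim (R ⧸ orbitKer (A := A) y) := by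
    rw [← hker]
    exact (ringKrullDim_eq_of_ringEquiv
      (RingHom.quotientKerEquivOfSurjective (f := φ.rangeRestrict.toRingHom) φ.rangeRestrict_surjective)).symm
  rw [← height_counit_eq (k := k) (A := A), ← hB]
  have h := Ideal.height_le_height_add_of_liesOver p P
  rw [h0, add_zero] at h
  exact le_trans (WithBot.coe_le_coe.2 h) (Ideal.height_le_ringKrullDim_of_ne_top
    (Ideal.IsPrime.ne_top (I := p) inferInstance))

theorem exists_max_component (y : R →ₐ[k] k) :
    ∃ p : Ideal R, p.IsPrime ∧ p ∈ (orbitKer (A := A) y).minimalPrimes ∧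
      ringKrullDim (R ⧸ orbitKer (A := A) y) = (Basic.dimQ k p : WithBot ℕ∞) := by
  haveI : Nontrivial (R ⧸ orbitKer (A := A) y) := Ideal.Quotient.nontrivial_iff.2 (orbitKer_ne_top y)
  obtain ⟨q, hq, hdim, -⟩ := Local.exists_ringKrullDim_eq_dimQ k (A := R ⧸ orbitKer (A := A) y)
  haveI := hq.1.1
  refine ⟨q.comap (Ideal.Quotient.mk _), Ideal.comap_isPrime _ _, ?_, ?_⟩
  · rw [Ideal.minimalPrimes_eq_comap]
    exact ⟨q, hq, rfl⟩
  · rw [hdim, ← Basic.ringKrullDim_quotient_prime, ← Basic.ringKrullDim_quotient_prime]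
    refine (ringKrullDim_eq_of_ringEquiv ?_).symm
    have hs : Function.Surjective ((Ideal.Quotient.mk q).comp (Ideal.Quotient.mk (orbitKer (A := A) y))) :=
      Ideal.Quotient.mk_surjective.comp Ideal.Quotient.mk_surjective
    exact (Ideal.quotEquivOfEq (by ext r; simp [Ideal.Quotient.eq_zero_iff_mem])).trans
      (RingHom.quotientKerEquivOfSurjective hs)

/-- An orbit has dimension at most that of the group. -/
theorem ringKrullDim_orbit_le (x : R →ₐ[k] k) :
    ringKrullDim (R ⧸ orbitKer (A := A) x) ≤ ringKrullDim A := by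
  obtain ⟨p, hp, hmin, hdim⟩ := exists_max_component (A := A) x
  obtain ⟨q, hq, -, hq'⟩ :=
    Ideal.exists_comap_eq_of_mem_minimalPrimes (GLin.orbitHom k A x).toRingHom (I := ⊥) p hmin
  let f : (R ⧸ p) →ₐ[k] (A ⧸ q) := Ideal.quotientMapₐ q (GLin.orbitHom k A x) hq'.ge
  have hinj : Function.Injective f := Ideal.quotientMap_injective' (H := hq'.ge) hq'.le
  rw [hdim]
  refine le_trans ?_ (Local.dimQ_le_ringKrullDim k q)
  have := trdeg_le_of_injective f hinj
  rw [Basic.trdeg_quotient, Basic.trdeg_quotient] at this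
  exact_mod_cast this

/-- A point of an orbit closure whose orbit is not smaller lies in the orbit. -/
theorem inOrbit_of_ringKrullDim_le {x y : R →ₐ[k] k} (hxy : orbitKer (A := A) x ≤ RingHom.ker y)
    (hdim : ringKrullDim (R ⧸ orbitKer (A := A) x) ≤ ringKrullDim (R ⧸ orbitKer (A := A) y)) :
    InOrbit A x y := by
  have hle := orbitKer_le_orbitKer hxy
  obtain ⟨p, hp, hmin, hpdim⟩ := exists_max_component (A := A) y
  have hminx : p ∈ (orbitKer (A := A) x).minimalPrimes := by
    refine ⟨⟨hp, hle.trans hmin.1.2⟩, fun P hP hPp => ?_⟩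
    obtain ⟨hP, hxP⟩ := hP
    by_contra hne
    haveI := hP
    have hlt := Basic.dimQ_lt_of_lt k (lt_of_le_not_ge hPp hne)
    have hPdim : (Basic.dimQ k P : WithBot ℕ∞) ≤ ringKrullDim (R ⧸ orbitKer (A := A) x) := by
      rw [← Basic.ringKrullDim_quotient_prime]
      exact ringKrullDim_le_of_surjective _ (Ideal.Quotient.factor_surjective hxP)
    have : Basic.dimQ k P ≤ Basic.dimQ k p := by
      exact_mod_cast (hPdim.trans hdim).trans hpdim.le
    omega
  obtain ⟨q₁, hq₁, -, hq₁'⟩ :=
    Ideal.exists_comap_eq_of_mem_minimalPrimes (GLin.orbitHom k A x).toRingHom (I := ⊥) p hminx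
  obtain ⟨q₂, hq₂, -, hq₂'⟩ :=
    Ideal.exists_comap_eq_of_mem_minimalPrimes (GLin.orbitHom k A y).toRingHom (I := ⊥) p hmin
  exact inOrbit_of_comap_eq p q₁ q₂ hq₁' hq₂'

/-- A point with finite stabiliser in an orbit closure lies in the orbit. -/
theorem inOrbit_of_hasFiniteStab {x y : R →ₐ[k] k} (hxy : orbitKer (A := A) x ≤ RingHom.ker y)
    (hy : GLin.HasFiniteStab k A y) : InOrbit A x y :=
  inOrbit_of_ringKrullDim_le hxy ((ringKrullDim_orbit_le x).trans (ringKrullDim_le_orbit y hy))

theorem mulPt_apply (g h : A →ₐ[k] k) (a : A) : mulPt g h a = g (dact A h.toLinearMap a) := by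
  rw [← AlgHom.toLinearMap_apply g (dact A _ a), dact_regular, ← mulPt_toLinearMap]
  rfl

theorem mulPt_assoc (a b c : A →ₐ[k] k) : mulPt (mulPt a b) c = mulPt a (mulPt b c) :=
  AlgHom.ext fun z => by
    rw [mulPt_apply, mulPt_apply, mulPt_apply, dact_dact, mulPt_toLinearMap b c]

theorem one_mulPt (g : A →ₐ[k] k) : mulPt (Bialgebra.counitAlgHom k A) g = g :=
  AlgHom.ext fun z => by rw [mulPt_apply]; exact Groth.Agent.Lib.Comod.Cartier.counit_inv g.toLinearMap z

theorem mulPt_one (g : A →ₐ[k] k) : mulPt g (Bialgebra.counitAlgHom k A) = g :=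
  AlgHom.ext fun z => by rw [mulPt_apply]; exact congrArg g (dact_counit_apply A z)

theorem hasFiniteStab_of_inOrbit {x y : R →ₐ[k] k} (h : InOrbit A x y)
    (hx : GLin.HasFiniteStab k A x) : GLin.HasFiniteStab k A y := by
  obtain ⟨g, rfl⟩ := h
  rw [hasFiniteStab_iff] at hx ⊢
  have hact : ∀ (z : R →ₐ[k] k) (h : A →ₐ[k] k),
      (∀ f, z (HopfRep.Comod.act k A R h f) = z f) ↔ GLin.actPt k h z = z := fun z h => by
    rw [AlgHom.ext_iff]
    exact forall_congr' fun f => by rw [actPt_apply, act_eq_dact]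
  refine Set.Finite.subset (hx.image fun h => mulPt (mulPt (invPt g) h) g) fun h hh => ?_
  refine ⟨mulPt (mulPt g h) (invPt g), ?_, ?_⟩
  · rw [Set.mem_setOf_eq, hact] at hh ⊢
    rw [← actPt_actPt, ← actPt_actPt, hh, actPt_invPt_actPt]
  · simp only [mulPt_assoc, invPt_mulPt, mulPt_one]
    rw [← mulPt_assoc, invPt_mulPt, one_mulPt]

end

end Groth.Agent.H60.OrbitDim
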