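import Groth.Agent.Lib.Comod.Orbits
import Mathlib.RingTheory.Valuation.LocalSubring
import Mathlib.RingTheory.Spectrum.Prime.Topology
import Mathlib.RingTheory.Ideal.MinimalPrime.Basic
import Mathlib.RingTheory.Ideal.Over
import Mathlib.RingTheory.IntegralClosure.IsIntegralClosure.Basic
import Mathlib.RingTheory.IntegralClosure.IntegrallyClosed
import Mathlib.RingTheory.Noetherian.Basic

/-!
# Valuative criteria for orbit maps
-/

set_option autoImplicit false
universe u
open TensorProduct Groth.Agent.Lib.Comod.Orbits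
namespace Groth.Agent.H60.OrbitVal

variable {k : Type u} [Field k] {A : Type u} [CommRing A] [HopfAlgebra k A] [Algebra.FiniteType k A]
variable {R : Type u} [CommRing R] [Algebra k R] [HopfRep.Comod k A R] [GLin.IsCoactAlg k A R]

/-- An integral orbit map gives a stable point. -/
theorem isStablePt_of_isIntegral (x : R →ₐ[k] k) (h : (GLin.orbitHom k A x).toRingHom.IsIntegral) :
    GLin.IsStablePt k A x := by
  constructor
  · exact (PrimeSpectrum.isClosedMap_comap_of_isIntegral _ h).isClosed_range
  · have hf : (GLin.orbitHom k A x).toRingHom.Finite := RingHom.IsIntegral.to_finite h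
      (RingHom.FiniteType.of_comp_finiteType (f := algebraMap k R) (by
        rw [AlgHom.toRingHom_eq_coe, AlgHom.comp_algebraMap]
        exact RingHom.finiteType_algebraMap.2 inferInstance))
    letI := (GLin.orbitHom k A x).toRingHom.toAlgebra
    obtain ⟨s, hs⟩ := (RingHom.finite_algebraMap.1 hf : Module.Finite R A).fg_top
    classical
    refine ⟨⟨s.image (Ideal.Quotient.mk _), ?_⟩⟩
    rw [eq_top_iff]
    intro q _
    obtain ⟨a, rfl⟩ := Ideal.Quotient.mk_surjective q
    have ha : a ∈ Submodule.span R (s : Set A) := hs ▸ Submodule.mem_top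
    induction ha using Submodule.span_induction with
    | mem a ha => exact Submodule.subset_span (Finset.mem_coe.2 (Finset.mem_image_of_mem _ (Finset.mem_coe.1 ha)))
    | zero => exact zero_mem _
    | add a b _ _ ha hb =>
      rw [map_add]
      exact add_mem (ha trivial) (hb trivial)
    | smul r a _ ha =>
      have h1 : Ideal.Quotient.mk (GLin.stabIdeal k A x) (r • a) = x r • Ideal.Quotient.mk _ a := by
        rw [Algebra.smul_def, map_mul, Algebra.smul_def]
        congr 1
        rw [IsScalarTower.algebraMap_apply k A (A ⧸ _), Ideal.Quotient.algebraMap_eq, Ideal.Quotient.eq]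
        change GLin.orbitHom k A x r - algebraMap k A (x r) ∈ _
        rw [← (GLin.orbitHom k A x).commutes, ← map_sub]
        exact Ideal.mem_map_of_mem _ (by simp [RingHom.mem_ker])
      rw [h1]
      exact Submodule.smul_mem _ _ (ha trivial)

/-- A non-integral orbit map has a valuation witnessing it. -/
theorem exists_valuation_of_not_integral (x : R →ₐ[k] k) (h : ¬ (GLin.orbitHom k A x).toRingHom.IsIntegral) :
    ∃ (K : Type u) (_ : Field K) (_ : Algebra k K) (χ : A →ₐ[k] K) (V : ValuationSubring K),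
      (∀ c : k, algebraMap k K c ∈ V) ∧ (∀ f : R, χ (GLin.orbitHom k A x f) ∈ V) ∧ ∃ t : A, χ t ∉ V := by
  classical
  haveI : IsNoetherianRing A := Algebra.FiniteType.isNoetherianRing k A
  set φ := (GLin.orbitHom k A x).toRingHom
  obtain ⟨t, ht⟩ := not_forall.1 h
  obtain ⟨P, hP, hPt⟩ : ∃ P : Ideal A, P.IsPrime ∧
      ∀ g : Polynomial R, g.Monic → g.eval₂ φ t ∉ P := by
    by_contra hcon
    push Not at hcon
    choose g hg hgP using hcon
    have hfin := minimalPrimes.finite_of_isNoetherianRing A
    let G : Polynomial R := ∏ P ∈ hfin.toFinset.attach, g P.1 ((hfin.mem_toFinset.1 P.2).1.1)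
    have hG : G.Monic := Polynomial.monic_prod_of_monic _ _ fun P _ => hg _ _
    have hnil : G.eval₂ φ t ∈ nilradical A := by
      rw [nilradical_eq_sInf, Ideal.mem_sInf]
      intro P hP
      haveI : Ideal.IsPrime P := hP
      obtain ⟨Q, hQ, hQP⟩ := Ideal.exists_minimalPrimes_le (bot_le : ⊥ ≤ P)
      refine hQP ?_
      simp only [G, Polynomial.eval₂_finsetProd]
      exact Ideal.prod_mem _ (Finset.mem_attach _ ⟨Q, hfin.mem_toFinset.2 hQ⟩) (hgP _ _)
    obtain ⟨N, hN⟩ := mem_nilradical.1 hnil
    exact ht ⟨G ^ N, hG.pow N, by rw [Polynomial.eval₂_pow, hN]⟩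
  haveI := hP
  letI : Field (FractionRing (A ⧸ P)) := inferInstance
  let χ : A →ₐ[k] FractionRing (A ⧸ P) :=
    (IsScalarTower.toAlgHom k (A ⧸ P) _).comp (Ideal.Quotient.mkₐ k P)
  let h' : R →+* FractionRing (A ⧸ P) := χ.toRingHom.comp φ
  let S := integralClosure h'.range (FractionRing (A ⧸ P))
  have htS : χ t ∉ S.toSubring := by
    intro hmem
    obtain ⟨g, hg, hg0⟩ := (mem_integralClosure_iff _ _).1 hmem
    obtain ⟨g', hg'map, -, hg'mon⟩ :=
      Polynomial.lifts_and_degree_eq_and_monic (f := h'.rangeRestrict)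
        ((Polynomial.map_surjective _ h'.rangeRestrict_surjective g).imp fun _ => id) hg
    refine hPt g' hg'mon ?_
    rw [← hg'map, Polynomial.eval₂_map] at hg0
    rw [show (algebraMap h'.range (FractionRing (A ⧸ P))).comp h'.rangeRestrict = χ.toRingHom.comp φ from rfl] at hg0
    have h2 := Polynomial.hom_eval₂ g' φ χ.toRingHom t
    rw [show χ.toRingHom t = χ t from rfl, hg0] at h2
    exact Ideal.Quotient.eq_zero_iff_mem.1 (IsFractionRing.injective (A ⧸ P) (FractionRing (A ⧸ P))
      (by rw [map_zero]; exact h2))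
  haveI : IsIntegrallyClosedIn S.toSubring (FractionRing (A ⧸ P)) :=
    inferInstanceAs (IsIntegrallyClosedIn (integralClosure h'.range (FractionRing (A ⧸ P))) (FractionRing (A ⧸ P)))
  obtain ⟨V, hV, htV⟩ := Subring.exists_le_valuationSubring_of_isIntegrallyClosedIn htS
  have hran : ∀ f : R, χ (GLin.orbitHom k A x f) ∈ V := fun f =>
    hV (Subalgebra.algebraMap_mem S ⟨_, f, rfl⟩)
  refine ⟨_, _, inferInstance, χ, V, fun c => ?_, hran, t, htV⟩
  have := hran (algebraMap k R c)
  rwa [AlgHom.commutes, AlgHom.commutes] at this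

/-- A point of the orbit closure is a limit along a valuation. -/
theorem exists_valuation_of_inOrbitClosure {x z : R →ₐ[k] k} (h : GLin.InOrbitClosure k A x z) :
    ∃ (K : Type u) (_ : Field K) (_ : Algebra k K) (χ : A →ₐ[k] K) (V : ValuationSubring K),
      (∀ c : k, algebraMap k K c ∈ V) ∧ (∀ f : R, χ (GLin.orbitHom k A x f) ∈ V) ∧
        ∀ f : R, z f = 0 → χ (GLin.orbitHom k A x f) ∈ V.nonunits := by
  classical
  set φ := (GLin.orbitHom k A x).toRingHom with hφ
  haveI := RingHom.ker_isPrime z.toRingHom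
  obtain ⟨Q, hQ, hQz⟩ := Ideal.exists_minimalPrimes_le (I := RingHom.ker φ) (J := RingHom.ker z.toRingHom) h
  obtain ⟨P, hP, -, hPQ⟩ := Ideal.exists_comap_eq_of_mem_minimalPrimes φ (I := ⊥) Q
    (by rwa [← RingHom.ker_eq_comap_bot])
  haveI := hP
  let χ : A →ₐ[k] FractionRing (A ⧸ P) :=
    (IsScalarTower.toAlgHom k (A ⧸ P) _).comp (Ideal.Quotient.mkₐ k P)
  let h' : R →+* FractionRing (A ⧸ P) := χ.toRingHom.comp φ
  have hker : RingHom.ker h'.rangeRestrict ≤ RingHom.ker z.toRingHom := by
    intro f hf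
    refine hQz ?_
    rw [← hPQ, Ideal.mem_comap, ← Ideal.Quotient.eq_zero_iff_mem]
    refine IsFractionRing.injective (A ⧸ P) (FractionRing (A ⧸ P)) ?_
    rw [map_zero]
    exact congrArg Subtype.val (RingHom.mem_ker.1 hf)
  have hne : (RingHom.ker z.toRingHom).map h'.rangeRestrict ≠ ⊤ := fun htop => by
    have := congrArg (Ideal.comap h'.rangeRestrict) htop
    rw [Ideal.comap_map_of_surjective _ h'.rangeRestrict_surjective, ← RingHom.ker_eq_comap_bot,
      sup_eq_left.2 hker, Ideal.comap_top] at this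
    exact RingHom.ker_ne_top z.toRingHom this
  obtain ⟨V, hV, hVn⟩ := Ideal.image_subset_nonunits_valuationSubring _ hne
  have hran : ∀ f : R, χ (GLin.orbitHom k A x f) ∈ V := fun f => hV ⟨f, rfl⟩
  refine ⟨_, inferInstance, inferInstance, χ, V, fun c => ?_, hran, fun f hf => ?_⟩
  · have := hran (algebraMap k R c)
    rwa [AlgHom.commutes, AlgHom.commutes] at this
  · exact hVn ⟨h'.rangeRestrict f, Ideal.mem_map_of_mem _ hf, rfl⟩

end Groth.Agent.H60.OrbitVal
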