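import Groth.Agent.H60.Luna

/-! Luna's fundamental lemma: étaleness of the quotient map. -/

set_option autoImplicit false
set_option linter.unusedSectionVars false
set_option linter.style.haveILetI false
universe u

open TensorProduct
open Groth.Agent.Lib.Comod.Basic Groth.Agent.Lib.Comod.Reynolds Groth.Agent.Lib.Comod.Orbits
open Groth.Agent.Lib.Comod.Invariants
open Groth.Agent.H60.Luna

namespace Groth.Agent.H60.LunaEtale

variable {k : Type u} [Field k] [IsAlgClosed k] {A : Type u} [CommRing A] [IsDomain A]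
  [HopfAlgebra k A] [Algebra.FiniteType k A]
variable {S R : Type u} [CommRing S] [Algebra k S] [Algebra.FiniteType k S] [HopfRep.Comod k A S]
  [GLin.IsCoactAlg k A S] [CommRing R] [Algebra k R] [Algebra.FiniteType k R] [HopfRep.Comod k A R]
  [GLin.IsCoactAlg k A R] [Algebra S R] [IsScalarTower k S R]

/-- Unramified at `x`: the fibre of the point is reduced there. -/
theorem unram_of_isUnramifiedAt (x : R →ₐ[k] k) [(RingHom.ker x.toRingHom).IsPrime]
    (h : Algebra.IsUnramifiedAt S (RingHom.ker x.toRingHom)) (r : R) (hr : x r = 0) :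
    ∃ t : R, x t ≠ 0 ∧
      t * r ∈ (RingHom.ker (x.comp (IsScalarTower.toAlgHom k S R))).map (algebraMap S R) := by
  haveI : Algebra.FiniteType S R := Algebra.FiniteType.of_restrictScalars_finiteType k S R
  set m := RingHom.ker x.toRingHom
  haveI : m.LiesOver (m.under S) := ⟨rfl⟩
  letI := Localization.AtPrime.algebraOfLiesOver (m.under S) m
  have h2 := ((Algebra.isUnramifiedAt_iff_map_eq (p := m.under S) _ _).1 h).2
  have h3 : algebraMap R (Localization.AtPrime m) r ∈ (m.under S).map (algebraMap S (Localization.AtPrime m)) := by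
    rw [h2, ← Localization.AtPrime.map_eq_maximalIdeal]
    exact Ideal.mem_map_of_mem _ hr
  rw [IsScalarTower.algebraMap_eq S R (Localization.AtPrime m), ← Ideal.map_map,
    IsLocalization.algebraMap_mem_map_algebraMap_iff m.primeCompl] at h3
  obtain ⟨t, ht, htr⟩ := h3
  exact ⟨t, ht, htr⟩

/-- Luna's fundamental lemma: the quotient map is étale at the image point. -/
theorem isEtaleAt (hG : HopfRep.IsLinearlyReductive k A) {x : R →ₐ[k] k} (D : Data (A := A) (S := S) x)
    [(RingHom.ker x.toRingHom).IsPrime] [Module.Flat S (Localization.AtPrime (RingHom.ker x.toRingHom))]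
    {S₀ R₀ : Type u} [CommRing S₀] [Algebra k S₀] [Algebra S₀ S] [IsScalarTower k S₀ S]
    (hS₀i : Function.Injective (algebraMap S₀ S))
    (hS₀ : (IsScalarTower.toAlgHom k S₀ S).range = GLin.invariants k A S)
    [CommRing R₀] [Algebra k R₀] [Algebra R₀ R] [IsScalarTower k R₀ R]
    (hR₀i : Function.Injective (algebraMap R₀ R))
    (hR₀ : (IsScalarTower.toAlgHom k R₀ R).range = GLin.invariants k A R)
    [Algebra S₀ R₀] [Algebra S₀ R] [IsScalarTower S₀ S R] [IsScalarTower S₀ R₀ R]
    (n : Ideal R₀) [n.IsPrime] (hn : n = (RingHom.ker x.toRingHom).comap (algebraMap R₀ R)) :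
    Algebra.IsEtaleAt S₀ n := by
  classical
  haveI hkS : IsScalarTower k S₀ R₀ := .of_algebraMap_eq fun c => hR₀i <| by
    rw [← IsScalarTower.algebraMap_apply k R₀ R, ← IsScalarTower.algebraMap_apply S₀ R₀ R,
      IsScalarTower.algebraMap_apply S₀ S R, ← IsScalarTower.algebraMap_apply k S₀ S,
      ← IsScalarTower.algebraMap_apply k S R]
  -- the invariant rings
  let eS : S₀ ≃ₐ[k] GLin.invariants k A S :=
    (AlgEquiv.ofInjective (IsScalarTower.toAlgHom k S₀ S) hS₀i).trans (Subalgebra.equivOfEq _ _ hS₀)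
  let eR : R₀ ≃ₐ[k] GLin.invariants k A R :=
    (AlgEquiv.ofInjective (IsScalarTower.toAlgHom k R₀ R) hR₀i).trans (Subalgebra.equivOfEq _ _ hR₀)
  haveI := finiteType_invariants (A := A) (R := S) hG
  haveI := finiteType_invariants (A := A) (R := R) hG
  haveI : Algebra.FiniteType k S₀ := Algebra.FiniteType.equiv inferInstance eS.symm
  haveI : Algebra.FiniteType k R₀ := Algebra.FiniteType.equiv inferInstance eR.symm
  haveI : IsNoetherianRing S₀ := Algebra.FiniteType.isNoetherianRing k S₀
  haveI : IsNoetherianRing R₀ := Algebra.FiniteType.isNoetherianRing k R₀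
  haveI : Algebra.FiniteType S₀ R₀ := Algebra.FiniteType.of_restrictScalars_finiteType k S₀ R₀
  haveI : Algebra.FinitePresentation S₀ R₀ := Algebra.FinitePresentation.of_finiteType.1 inferInstance
  subst hn
  set n : Ideal R₀ := (RingHom.ker x.toRingHom).comap (algebraMap R₀ R) with hn
  set ν : Ideal S₀ := n.under S₀ with hν
  haveI : n.LiesOver ν := ⟨rfl⟩
  set J := orbitKer (A := A) x
  set y := x.comp (IsScalarTower.toAlgHom k S R)
  have hxsurj : ∀ c : k, (x.comp (IsScalarTower.toAlgHom k R₀ R)) (algebraMap k R₀ c) = c :=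
    fun c => AlgHom.commutes _ c
  haveI hnmax : n.IsMaximal := by
    rw [show n = RingHom.ker (x.comp (IsScalarTower.toAlgHom k R₀ R)) from rfl]
    exact RingHom.ker_isMaximal_of_surjective _ fun c => ⟨_, hxsurj c⟩
  haveI hνmax : ν.IsMaximal := by
    rw [show ν = RingHom.ker ((x.comp (IsScalarTower.toAlgHom k R₀ R)).comp (IsScalarTower.toAlgHom k S₀ R₀)) from rfl]
    exact RingHom.ker_isMaximal_of_surjective _ fun c => ⟨algebraMap k S₀ c, AlgHom.commutes _ c⟩
  have htr : ∀ s : S₀, algebraMap R₀ R (algebraMap S₀ R₀ s) = algebraMap S R (algebraMap S₀ S s) := fun s => by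
    rw [← IsScalarTower.algebraMap_apply, ← IsScalarTower.algebraMap_apply]
  have hRmem : ∀ r : R₀, algebraMap R₀ R r ∈ HopfRep.fixedPts k A R := fun r => by
    have : algebraMap R₀ R r ∈ GLin.invariants k A R := hR₀ ▸ ⟨r, rfl⟩
    exact this
  have hSex : ∀ s ∈ HopfRep.fixedPts k A S, ∃ t : S₀, algebraMap S₀ S t = s := fun s hs => by
    have : s ∈ (IsScalarTower.toAlgHom k S₀ S).range := hS₀.symm ▸ hs
    exact this
  -- comparison of the two topologies upstairs and downstairs
  have hcofR : ∀ N, ∃ M, ∀ r : R₀, algebraMap R₀ R r ∈ J ^ M → r ∈ n ^ N := by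
    intro N
    obtain ⟨M, hM⟩ := exists_pow_orbitKer_le hG x (closed_orbit D) N
    refine ⟨M, fun r hr => ?_⟩
    have h := Ideal.mem_map_of_mem (eR.symm : GLin.invariants k A R →ₐ[k] R₀) (hM (eR r) hr)
    rw [Ideal.map_pow] at h
    have he : Ideal.map (eR.symm : GLin.invariants k A R →ₐ[k] R₀)
        (RingHom.ker (x.comp (GLin.invariants k A R).val)) ≤ n := by
      rw [Ideal.map_le_iff_le_comap]
      intro z hz
      change x (algebraMap R₀ R (eR.symm z)) = 0
      rw [show algebraMap R₀ R (eR.symm z) = (eR (eR.symm z) : R) from rfl, eR.apply_symm_apply]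
      exact hz
    simpa using Ideal.pow_right_mono he N h
  have hcofS : ∀ N, ∃ M, ∀ s : S₀, algebraMap S₀ S s ∈ orbitKer (A := A) y ^ M → s ∈ ν ^ N := by
    intro N
    obtain ⟨M, hM⟩ := exists_pow_orbitKer_le hG y D.closed N
    refine ⟨M, fun r hr => ?_⟩
    have h := Ideal.mem_map_of_mem (eS.symm : GLin.invariants k A S →ₐ[k] S₀) (hM (eS r) hr)
    rw [Ideal.map_pow] at h
    have he : Ideal.map (eS.symm : GLin.invariants k A S →ₐ[k] S₀)
        (RingHom.ker (y.comp (GLin.invariants k A S).val)) ≤ ν := by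
      rw [Ideal.map_le_iff_le_comap]
      intro z hz
      change x (algebraMap R₀ R (algebraMap S₀ R₀ (eS.symm z))) = 0
      rw [htr, show algebraMap S₀ S (eS.symm z) = (eS (eS.symm z) : S) from rfl, eS.apply_symm_apply]
      exact hz
    simpa using Ideal.pow_right_mono he N h
  have happrox : ∀ M, ∀ r : R₀, ∃ s : S₀, algebraMap R₀ R (r - algebraMap S₀ R₀ s) ∈ J ^ M := by
    intro M r
    obtain ⟨s, hs, hrs⟩ := exists_invariant_sub_mem_pow D hG M (hRmem r)
    obtain ⟨t, rfl⟩ := hSex s hs
    exact ⟨t, by rwa [map_sub, htr]⟩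
  have hsurj : ∀ N, ∀ r : R₀, ∃ s : S₀, r - algebraMap S₀ R₀ s ∈ n ^ N := fun N r => by
    obtain ⟨M, hM⟩ := hcofR N
    obtain ⟨s, hs⟩ := happrox M r
    exact ⟨s, hM _ hs⟩
  have hinj : ∀ N, ∀ s : S₀, algebraMap S₀ R₀ s ∈ n ^ N → s ∈ ν ^ N := by
    intro N s hs
    obtain ⟨M, hM⟩ := hcofS N
    have key : ∀ N', ∀ r ∈ n ^ N', ∃ t ∈ ν ^ N', algebraMap R₀ R (r - algebraMap S₀ R₀ t) ∈ J ^ M := by
      intro N'
      induction N' with
      | zero =>
        intro r _
        obtain ⟨t, ht⟩ := happrox M r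
        exact ⟨t, by simp, ht⟩
      | succ N' ih =>
        intro r hr
        rw [pow_succ] at hr
        refine Submodule.mul_induction_on hr (fun a ha b hb => ?_) fun a b ⟨t, ht, h⟩ ⟨t', ht', h'⟩ =>
          ⟨t + t', add_mem ht ht', by rw [map_add, add_sub_add_comm, map_add]; exact add_mem h h'⟩
        obtain ⟨t, ht, hat⟩ := ih a ha
        obtain ⟨t', ht'⟩ := happrox (max M 1) b
        have hb1 : algebraMap S₀ R₀ t' ∈ n := by
          have h1 : algebraMap R₀ R (b - algebraMap S₀ R₀ t') ∈ RingHom.ker x.toRingHom :=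
            orbitKer_le_ker x (Ideal.pow_le_self (by omega : max M 1 ≠ 0) ht')
          rw [← sub_sub_cancel b (algebraMap S₀ R₀ t')]
          exact sub_mem hb h1
        refine ⟨t * t', by rw [pow_succ]; exact Ideal.mul_mem_mul ht hb1, ?_⟩
        rw [map_mul, show a * b - algebraMap S₀ R₀ t * algebraMap S₀ R₀ t' =
          (a - algebraMap S₀ R₀ t) * b + algebraMap S₀ R₀ t * (b - algebraMap S₀ R₀ t') by ring,
          map_add, map_mul, map_mul]
        exact add_mem (Ideal.mul_mem_right _ _ hat)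
          (Ideal.mul_mem_left _ _ (Ideal.pow_le_pow_right (le_max_left M 1) ht'))
    obtain ⟨t, ht, hst⟩ := key N _ hs
    rw [← map_sub, htr] at hst
    have h1 := hM _ (mem_pow_of_algebraMap_mem D M _ hst)
    rw [← sub_add_cancel s t]
    exact add_mem h1 ht
  -- local rings
  letI := Localization.AtPrime.algebraOfLiesOver ν n
  set L := Localization.AtPrime n
  set A0 := Localization.AtPrime ν
  have hmap : ν.map (algebraMap S₀ L) = IsLocalRing.maximalIdeal L := by
    have hle : ν.map (algebraMap S₀ L) ≤ IsLocalRing.maximalIdeal L := by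
      rw [IsScalarTower.algebraMap_eq S₀ R₀ L, ← Ideal.map_map, ← Localization.AtPrime.map_eq_maximalIdeal]
      exact Ideal.map_mono (Ideal.map_le_iff_le_comap.2 le_rfl)
    refine le_antisymm hle (Submodule.le_of_le_smul_of_le_jacobson_bot (I := IsLocalRing.maximalIdeal L)
      (IsNoetherian.noetherian _) (IsLocalRing.jacobson_eq_maximalIdeal ⊥ bot_ne_top).ge ?_)
    rw [smul_eq_mul, ← Localization.AtPrime.map_eq_maximalIdeal, ← Ideal.map_mul, Ideal.map_le_iff_le_comap]
    intro r hr
    obtain ⟨s, hs⟩ := hsurj 2 r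
    have hs' : s ∈ ν := by
      rw [hν, Ideal.mem_comap, ← sub_sub_cancel r (algebraMap S₀ R₀ s)]
      exact sub_mem hr (Ideal.pow_le_self two_ne_zero hs)
    rw [Ideal.mem_comap, ← add_sub_cancel (algebraMap S₀ R₀ s) r, map_add]
    refine add_mem (Ideal.mem_sup_left ?_) (Ideal.mem_sup_right ?_)
    · rw [← IsScalarTower.algebraMap_apply]
      exact Ideal.mem_map_of_mem _ hs'
    · rw [← pow_two]; exact Ideal.mem_map_of_mem _ hs
  rw [Groth.Agent.Lib.Unram.AtPrime.isEtaleAt_iff]
  refine ⟨?_, (Algebra.isUnramifiedAt_iff_map_eq (p := ν) _ _).2 ⟨?_, hmap⟩⟩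
  · -- flatness
    haveI : Module.Flat S₀ A0 := IsLocalization.flat A0 ν.primeCompl
    suffices Module.Flat A0 L from Module.Flat.trans S₀ A0 L
    have hmL : (IsLocalRing.maximalIdeal A0).map (algebraMap A0 L) = IsLocalRing.maximalIdeal L := by
      rw [← Localization.AtPrime.map_eq_maximalIdeal, Ideal.map_map, ← IsScalarTower.algebraMap_eq, hmap]
    have hdec : ∀ N, ∀ l : L, ∃ a : A0,
        l - algebraMap A0 L a ∈ ((IsLocalRing.maximalIdeal A0) ^ N).map (algebraMap A0 L) := by
      intro N l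
      obtain ⟨r, ⟨u, hu⟩, rfl⟩ := IsLocalization.exists_mk'_eq n.primeCompl l
      obtain ⟨sr, hsr⟩ := hsurj (N + 1) r
      obtain ⟨su, hsu⟩ := hsurj (N + 1) u
      have hsu' : su ∉ ν := fun h => hu (by
        rw [← sub_add_cancel u (algebraMap S₀ R₀ su)]
        exact add_mem (Ideal.pow_le_self (Nat.succ_ne_zero N) hsu) h)
      refine ⟨IsLocalization.mk' A0 sr (⟨su, hsu'⟩ : ν.primeCompl), ?_⟩
      rw [Ideal.map_pow, hmL]
      have hx1 : ∀ r' s', r' - algebraMap S₀ R₀ s' ∈ n ^ (N + 1) →
          algebraMap R₀ L r' - algebraMap A0 L (algebraMap S₀ A0 s') ∈ IsLocalRing.maximalIdeal L ^ N := by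
        intro r' s' h
        rw [← IsScalarTower.algebraMap_apply, IsScalarTower.algebraMap_apply S₀ R₀ L, ← map_sub,
          ← Localization.AtPrime.map_eq_maximalIdeal, ← Ideal.map_pow]
        exact Ideal.mem_map_of_mem _ (Ideal.pow_le_pow_right (Nat.le_succ N) h)
      have hunit : IsUnit (algebraMap R₀ L u) := IsLocalization.map_units L (⟨u, hu⟩ : n.primeCompl)
      refine (Ideal.unit_mul_mem_iff_mem _ hunit).1 ?_
      have hspec1 := IsLocalization.mk'_spec' L r (⟨u, hu⟩ : n.primeCompl)
      have hspec2 := congrArg (algebraMap A0 L) (IsLocalization.mk'_spec' A0 sr (⟨su, hsu'⟩ : ν.primeCompl))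
      rw [map_mul] at hspec2
      simp only at hspec1 hspec2
      rw [mul_sub, hspec1, show algebraMap R₀ L r - algebraMap R₀ L u * algebraMap A0 L (IsLocalization.mk' A0 sr ⟨su, hsu'⟩) =
        (algebraMap R₀ L r - algebraMap A0 L (algebraMap S₀ A0 sr)) -
        (algebraMap R₀ L u - algebraMap A0 L (algebraMap S₀ A0 su)) * algebraMap A0 L (IsLocalization.mk' A0 sr ⟨su, hsu'⟩) by
          rw [sub_mul, hspec2]; ring]
      exact sub_mem (hx1 _ _ hsr) (Ideal.mul_mem_right _ _ (hx1 _ _ hsu))
    have hinjA : ∀ N, ∀ a : A0, algebraMap A0 L a ∈ ((IsLocalRing.maximalIdeal A0) ^ N).map (algebraMap A0 L) →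
        a ∈ (IsLocalRing.maximalIdeal A0) ^ N := by
      intro N a ha
      obtain ⟨s, ⟨u, hu⟩, rfl⟩ := IsLocalization.exists_mk'_eq ν.primeCompl a
      rw [Ideal.map_pow, hmL, ← Localization.AtPrime.map_eq_maximalIdeal, ← Ideal.map_pow] at ha
      have h1 := Ideal.mul_mem_left _ (algebraMap A0 L (algebraMap S₀ A0 u)) ha
      rw [← map_mul, show algebraMap S₀ A0 u * IsLocalization.mk' A0 s (⟨u, hu⟩ : ν.primeCompl) = algebraMap S₀ A0 s
        from IsLocalization.mk'_spec' A0 s ⟨u, hu⟩, ← IsScalarTower.algebraMap_apply,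
        IsScalarTower.algebraMap_apply S₀ R₀ L, IsLocalization.algebraMap_mem_map_algebraMap_iff n.primeCompl] at h1
      obtain ⟨t, ht, hts⟩ := h1
      obtain ⟨t', ht'⟩ := hsurj N t
      have ht'ν : N = 0 ∨ t' ∉ ν := by
        rcases Nat.eq_zero_or_pos N with h | h
        · exact Or.inl h
        · refine Or.inr fun hc => ht ?_
          rw [← sub_add_cancel t (algebraMap S₀ R₀ t')]
          exact add_mem (Ideal.pow_le_self h.ne' ht') hc
      rcases ht'ν with rfl | ht'ν
      · simp
      have h2 : t' * s ∈ ν ^ N := hinj N _ (by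
        rw [map_mul, show algebraMap S₀ R₀ t' * algebraMap S₀ R₀ s =
          t * algebraMap S₀ R₀ s - (t - algebraMap S₀ R₀ t') * algebraMap S₀ R₀ s by ring]
        exact sub_mem hts (Ideal.mul_mem_right _ _ ht'))
      rw [← Localization.AtPrime.map_eq_maximalIdeal, ← Ideal.map_pow,
        IsLocalization.mk'_mem_map_algebraMap_iff ν.primeCompl]
      exact ⟨t', ht'ν, h2⟩
    refine Groth.Agent.Lib.LocalFlat.Criterion.flat_of_forall_pow L (IsLocalRing.maximalIdeal A0)
      (Groth.Agent.Lib.LocalFlat.Criterion.map_le_jacobson_bot_of_isLocalHom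
        (Ideal.IsPrime.ne_top inferInstance)) fun N p => ?_
    rw [injective_iff_map_eq_zero]
    intro z hz
    obtain ⟨q, rfl⟩ : ∃ q : p, z = (1 : L) ⊗ₜ[A0] q := by
      clear hz
      induction z using TensorProduct.induction_on with
      | zero => exact ⟨0, (TensorProduct.tmul_zero _ _).symm⟩
      | add a b ha hb =>
        obtain ⟨q, rfl⟩ := ha
        obtain ⟨q', rfl⟩ := hb
        exact ⟨q + q', (TensorProduct.tmul_add _ _ _).symm⟩
      | tmul l q =>
        obtain ⟨a, ha⟩ := hdec N l
        refine ⟨a • q, ?_⟩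
        rw [← sub_add_cancel l (algebraMap A0 L a), TensorProduct.add_tmul, Algebra.algebraMap_eq_smul_one a,
          TensorProduct.smul_tmul, add_eq_right]
        rw [Algebra.algebraMap_eq_smul_one a, Ideal.map] at ha
        generalize l - a • (1 : L) = w0 at ha ⊢
        induction ha using Submodule.span_induction with
        | mem w hw =>
          obtain ⟨i, hi, rfl⟩ := hw
          rw [Algebra.algebraMap_eq_smul_one, TensorProduct.smul_tmul,
            show i • q = 0 from Subtype.ext ?_, TensorProduct.tmul_zero]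
          change i • (q : A0 ⧸ IsLocalRing.maximalIdeal A0 ^ N) = 0
          obtain ⟨c, hc⟩ := Ideal.Quotient.mk_surjective (q : A0 ⧸ IsLocalRing.maximalIdeal A0 ^ N)
          rw [← hc, Algebra.smul_def]
          exact Ideal.Quotient.eq_zero_iff_mem.2 (Ideal.mul_mem_right _ _ hi)
        | zero => exact TensorProduct.zero_tmul _ _
        | add u v _ _ hu hv => rw [TensorProduct.add_tmul, hu, hv, add_zero]
        | smul c u _ hu => rw [← TensorProduct.smul_tmul', hu, smul_zero]
    rw [LinearMap.lTensor_tmul] at hz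
    obtain ⟨a, ha⟩ := Ideal.Quotient.mk_surjective (q : A0 ⧸ IsLocalRing.maximalIdeal A0 ^ N)
    have h0 := congrArg (TensorProduct.lift ((LinearMap.mul A0 (L ⧸ ((IsLocalRing.maximalIdeal A0) ^ N).map (algebraMap A0 L))).compl₁₂
      (IsScalarTower.toAlgHom A0 L _).toLinearMap
      (Ideal.Quotient.liftₐ _ (Algebra.ofId A0 (L ⧸ ((IsLocalRing.maximalIdeal A0) ^ N).map (algebraMap A0 L)))
        (fun i hi => Ideal.Quotient.eq_zero_iff_mem.2 (Ideal.mem_map_of_mem _ hi))).toLinearMap)) hz
    have h1 : Ideal.Quotient.mk (((IsLocalRing.maximalIdeal A0) ^ N).map (algebraMap A0 L)) (algebraMap A0 L a) = 0 := by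
      rw [map_zero] at h0
      rw [Submodule.subtype_apply, ← ha] at h0
      simpa using h0
    have h2 := hinjA N a (Ideal.Quotient.eq_zero_iff_mem.1 h1)
    have hq : q = 0 := Subtype.ext (by rw [← ha, Submodule.coe_zero, Ideal.Quotient.eq_zero_iff_mem.2 h2])
    rw [hq, TensorProduct.tmul_zero]
  · -- residue fields
    have hs : Function.Surjective (algebraMap ν.ResidueField n.ResidueField) := by
      have h1 : Function.Surjective (algebraMap S₀ n.ResidueField) := fun z => by
        obtain ⟨z, rfl⟩ := Ideal.algebraMap_residueField_surjective n z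
        refine ⟨algebraMap k S₀ (x (algebraMap R₀ R z)), ?_⟩
        rw [IsScalarTower.algebraMap_apply S₀ R₀ n.ResidueField, ← IsScalarTower.algebraMap_apply k S₀ R₀, ← sub_eq_zero,
          ← map_sub, Ideal.algebraMap_residueField_eq_zero]
        change x (algebraMap R₀ R _) = 0
        rw [map_sub, map_sub, ← IsScalarTower.algebraMap_apply k R₀ R, AlgHom.commutes]
        exact sub_self _
      intro z
      obtain ⟨s, rfl⟩ := h1 z
      exact ⟨algebraMap S₀ ν.ResidueField s, (IsScalarTower.algebraMap_apply _ _ _ s).symm⟩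
    haveI : Algebra.IsSeparable ν.ResidueField n.ResidueField := ⟨fun z => by
      obtain ⟨c, rfl⟩ := hs z
      exact isSeparable_algebraMap c⟩
    infer_instance

end Groth.Agent.H60.LunaEtale
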