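import Groth.Agent.H60.MuTranslate
import Groth.Agent.Lib.GrpSch.AttrAffine
import Groth.Agent.Lib.GrpSch.MonPts

/-!
Limit points are unique, fixed, and carry the numerical function.
-/

set_option autoImplicit false
set_option backward.isDefEq.respectTransparency false
set_option backward.isDefEq.respectTransparency.types false

universe u

open CategoryTheory CategoryTheory.Limits AlgebraicGeometry MonoidalCategory CartesianMonoidalCategory
open MonObj Opposite Groth.Agent.Lib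

namespace Groth.Agent.H60.MuLimit

variable {S : Scheme.{u}} {G X : Over S} [GrpObj G] {a : AlgGrp.Action G X} {l : Red.Gm S ⟶ G} [IsMonHom l]
  {T : Over S}

theorem isLimitPt_unique [IsSeparated X.hom] {x y y' : T ⟶ X} (h : HMNum.IsLimitPt a l x y)
    (h' : HMNum.IsLimitPt a l x y') : y = y' := by
  obtain ⟨φ, hφx, rfl⟩ := h
  obtain ⟨φ', hφx', rfl⟩ := h'
  have e : φ.1 = φ'.1 := GrpSch.ext_of_AMonS_map HMNum.plus.subtype Subtype.val_injective (by
    rw [GrpSch.attr_restrict_eq (HMNum.gmAct a l) HMNum.plus φ,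
      GrpSch.attr_restrict_eq (HMNum.gmAct a l) HMNum.plus φ', hφx, hφx'])
  rw [HMNum.limitPt_eq, HMNum.limitPt_eq, e]

theorem isFixedBy_of_isLimitPt {x y : T ⟶ X} (h : HMNum.IsLimitPt a l x y) :
    HMNum.IsFixedBy a l y := by
  obtain ⟨φ, -, rfl⟩ := h
  intro T' t g
  let ξ₀ := (Magnet.attrFace (HMNum.gmAct a l) HMNum.isFace_bot).app (op T) φ
  let o : T' ⟶ Magnet.AMonS S ↥(⊥ : AddSubmonoid ℤ) := toUnit T' ≫ η[Magnet.AMonS S ↥(⊥ : AddSubmonoid ℤ)]
  have hsub : lift g o ≫ (Magnet.subAct S ℤ ⊥).act = o :=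
    GrpSch.monFn_ext fun n ↦ by
      rw [show n = 0 from Subtype.ext (AddSubmonoid.mem_bot.1 n.2), GrpSch.monFn_zero, GrpSch.monFn_zero]
  have h2 := (Magnet.MonAct.mem_eqvHom_iff ξ₀.1).1 ξ₀.2 T' g o t
  rw [hsub] at h2
  have hy : lift o t ≫ ξ₀.1 = t ≫ HMNum.limitPt φ := by
    change lift o t ≫ ξ₀.1 = t ≫ lift (toUnit T ≫ η[Magnet.AMonS S ↥(⊥ : AddSubmonoid ℤ)]) (𝟙 T) ≫ ξ₀.1
    rw [comp_lift_assoc, Category.comp_id, ← Category.assoc t (toUnit T),
      toUnit_unique (t ≫ toUnit T) (toUnit T')]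
  rw [hy] at h2
  simp only [Magnet.MonAct.lift_restrict_act, Magnet.MonAct.ofAction_act] at h2
  exact h2.symm

theorem isLimitPt_self {y : T ⟶ X} (hy : HMNum.IsFixedBy a l y) : HMNum.IsLimitPt a l y y := by
  refine ⟨⟨snd (HMNum.A1 S) T ≫ y, (Magnet.MonAct.mem_eqvHom_iff _).2 fun T' g b t ↦ ?_⟩, ?_, ?_⟩
  · simp only [Magnet.MonAct.lift_restrict_act, Magnet.MonAct.ofAction_act, lift_snd_assoc]
    exact (hy T' t g).symm
  · change lift (toUnit T ≫ η[HMNum.A1 S]) (𝟙 T) ≫ snd (HMNum.A1 S) T ≫ y = y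
    rw [lift_snd_assoc, Category.id_comp]
  · rw [HMNum.limitPt_eq, lift_snd_assoc, Category.id_comp]

theorem isMu_iff [IsSeparated X.hom] (B : GLinSh.LinBun G a) {x y : T ⟶ X}
    (hy : HMNum.IsLimitPt a l x y) (m : ℤ) : HMNum.IsMu B l x m ↔ HMNum.IsMu B l y m := by
  constructor
  · rintro ⟨y', hy', hw⟩
    obtain rfl := isLimitPt_unique hy hy'
    exact ⟨y, isLimitPt_self hw.1, hw⟩
  · rintro ⟨y', hy', hw⟩
    obtain rfl := isLimitPt_unique (isLimitPt_self (isFixedBy_of_isLimitPt hy)) hy'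
    exact ⟨y, hy, hw⟩

end Groth.Agent.H60.MuLimit
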