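import Groth.Agent.H60.MuTranslate
import Groth.Agent.Lib.GrpSch.AttrAffine
import Groth.Agent.Lib.GrpSch.MonPts

/-!
The numerical function is unchanged by translation with a point of the parabolic subgroup of a
one-parameter subgroup.
-/

set_option autoImplicit false
set_option backward.isDefEq.respectTransparency false
set_option backward.isDefEq.respectTransparency.types false

universe u

open CategoryTheory CategoryTheory.Limits AlgebraicGeometry MonoidalCategory CartesianMonoidalCategory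
open MonObj Opposite Groth.Agent.Lib

namespace Groth.Agent.H60.MuParabolic

variable {S : Scheme.{u}} {G X : Over S} [GrpObj G]

/-- Conjugation through a one-parameter subgroup. -/
noncomputable def conjAct (l : Red.Gm S ⟶ G) [IsMonHom l] : Magnet.MonAct (Red.Gm S) G where
  act := (fst _ _ ≫ l) * snd _ _ * (fst _ _ ≫ l)⁻¹
  one_act := by
    refine Magnet.hom_ext_lift₂ fun T t x ↦ ?_
    rw [lift_whiskerRight_assoc, show t ≫ η[Red.Gm S] = 1 by rw [Hom.one_def, toUnit_unique t]]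
    simp only [comp_mul, GrpObj.comp_inv, lift_fst_assoc, lift_snd, MonObj.one_comp, inv_one,
      _root_.mul_one, _root_.one_mul, leftUnitor_hom]
  mul_act := by
    refine Magnet.hom_ext_lift₃ fun T g h x ↦ ?_
    rw [lift_whiskerRight_assoc, lift_lift_associator_hom_assoc, lift_whiskerLeft_assoc, ← Hom.mul_def]
    simp only [comp_mul, GrpObj.comp_inv, lift_fst_assoc, lift_snd, MonObj.mul_comp]
    group

theorem lift_conjAct (l : Red.Gm S ⟶ G) [IsMonHom l] {T : Over S} (g : T ⟶ Red.Gm S) (x : T ⟶ G) :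
    lift g x ≫ (conjAct l).act = (g ≫ l) * x * (g ≫ l)⁻¹ := by
  simp only [conjAct, comp_mul, GrpObj.comp_inv, lift_fst_assoc, lift_snd]

variable {a : AlgGrp.Action G X} (B : GLinSh.LinBun G a) (l : Red.Gm S ⟶ G) [IsMonHom l] {T : Over S}

/-- Translation by a point whose conjugates under the subgroup have a limit. -/
theorem isMu_of_attr (g₀ : T ⟶ G) (ξ : (Magnet.attr (conjAct l) HMNum.plus).obj (op T))
    (hξ : (Magnet.attrToX (conjAct l) HMNum.plus).app (op T) ξ = g₀) (x : T ⟶ X)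
    (hcover : ∀ x₁ : T ⟶ X, ∃ (U : X.left.Opens) (y : Γ(B.V.left, B.π.left ⁻¹ᵁ U)),
      y ∈ B.atlas.chart U ∧ x₁.left ⁻¹ᵁ U = ⊤)
    (m : ℤ) (h : HMNum.IsMu B l x m) : HMNum.IsMu B l (lift g₀ x ≫ a.act) m := by
  obtain ⟨y, ⟨φ, hφx, hφy⟩, hwt⟩ := h
  let ψ := lift ξ.1 φ.1 ≫ a.act
  have hψ : Magnet.MonAct.IsEquivariant
      ((Magnet.subAct S ℤ HMNum.plus).prod (Magnet.MonAct.trivial (Red.Gm S) T)) (HMNum.gmAct a l) ψ := by
    refine (Magnet.MonAct.mem_eqvHom_iff ψ).2 fun T' g b t ↦ ?_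
    have h1 := (Magnet.MonAct.mem_eqvHom_iff φ.1).1 φ.2 T' g b t
    have h2 := (Magnet.MonAct.mem_eqvHom_iff ξ.1).1 ξ.2 T' g b t
    simp only [Magnet.MonAct.lift_restrict_act, Magnet.MonAct.ofAction_act] at h1 ⊢
    rw [lift_conjAct] at h2
    simp only [ψ, comp_lift_assoc]
    rw [h1, h2, ← GrpSch.act_mul, ← GrpSch.act_mul, inv_mul_cancel_right]
  let p : T ⟶ G := lift (toUnit T ≫ HMNum.origin S) (𝟙 T) ≫ ξ.1
  have hp : ∀ (T' : Over S) (t : T' ⟶ T) (g : T' ⟶ Red.Gm S),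
      (g ≫ l) * (t ≫ p) * (g ≫ l)⁻¹ = t ≫ p := by
    intro T' t g
    let o : T' ⟶ Magnet.AMonS S ↥(⊥ : AddSubmonoid ℤ) := toUnit T' ≫ η[Magnet.AMonS S ↥(⊥ : AddSubmonoid ℤ)]
    have hsub : lift g o ≫ (Magnet.subAct S ℤ ⊥).act = o :=
      GrpSch.monFn_ext fun n ↦ by
        rw [show n = 0 from Subtype.ext (AddSubmonoid.mem_bot.1 n.2), GrpSch.monFn_zero, GrpSch.monFn_zero]
    let ξ₀ := (Magnet.attrFace (conjAct l) HMNum.isFace_bot).app (op T) ξ
    have h2 := (Magnet.MonAct.mem_eqvHom_iff ξ₀.1).1 ξ₀.2 T' g o t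
    rw [hsub, lift_conjAct] at h2
    have ho : lift o t ≫ ξ₀.1 = t ≫ p := by
      simp only [ξ₀, Magnet.attrFace_app_coe, o, p, HMNum.origin]
      rw [lift_whiskerRight_assoc, comp_lift_assoc, Category.comp_id, ← Category.assoc t (toUnit T),
        toUnit_unique (t ≫ toUnit T) (toUnit T'), Category.assoc]
    rw [ho] at h2
    exact h2.symm
  refine ⟨lift p y ≫ a.act, ⟨⟨ψ, hψ⟩, ?_, ?_⟩, ?_⟩
  · change lift (toUnit T ≫ η[HMNum.A1 S]) (𝟙 T) ≫ ψ = _
    simp only [ψ, comp_lift_assoc]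
    rw [show lift (toUnit T ≫ η[HMNum.A1 S]) (𝟙 T) ≫ φ.1 = x from hφx,
      show lift (toUnit T ≫ η[HMNum.A1 S]) (𝟙 T) ≫ ξ.1 = g₀ from hξ]
  · rw [HMNum.limitPt_eq]
    rw [HMNum.limitPt_eq] at hφy
    change lift (toUnit T ≫ HMNum.origin S) (𝟙 T) ≫ ψ = _
    simp only [ψ, comp_lift_assoc]
    rw [hφy]
  · have h' := MuTranslate.hasFibreWeight_translate B l l p⁻¹ y (fun T' t g ↦ by
      rw [GrpObj.comp_inv, inv_inv]
      have h3 := mul_inv_eq_iff_eq_mul.1 (hp T' t g)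
      rw [← h3, mul_inv_cancel_right]) hcover (-m) hwt
    rwa [inv_inv] at h'

end Groth.Agent.H60.MuParabolic
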