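import Groth.Prelude.Def_HMNum
import Groth.Agent.Lib.GrpSch.Basic

/-!
Translation of the numerical function by a point of the group.
-/

set_option autoImplicit false
set_option backward.isDefEq.respectTransparency false
set_option backward.isDefEq.respectTransparency.types false

universe u

open CategoryTheory CategoryTheory.Limits AlgebraicGeometry MonoidalCategory CartesianMonoidalCategory
open MonObj Opposite Groth.Agent.Lib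

namespace Groth.Agent.H60.MuTranslate

variable {S : Scheme.{u}} {G X : Over S} [GrpObj G] {a : AlgGrp.Action G X}

theorem evalFn_congr {V : Over S} (π : V ⟶ X) {U : X.left.Opens} (y : Γ(V.left, π.left ⁻¹ᵁ U))
    {T' : Over S} {v v' : T' ⟶ V} (h : ⊤ ≤ v.left ⁻¹ᵁ (π.left ⁻¹ᵁ U))
    (h' : ⊤ ≤ v'.left ⁻¹ᵁ (π.left ⁻¹ᵁ U)) (e : v = v') :
    HMNum.evalFn π y v h = HMNum.evalFn π y v' h' := by subst e; rfl

variable (B : GLinSh.LinBun G a) {T : Over S}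

theorem lift_π_act {T' : Over S} (g : T' ⟶ G) (v : T' ⟶ B.V) :
    (lift g v ≫ B.lift.act) ≫ B.π = lift g (v ≫ B.π) ≫ a.act := by
  rw [Category.assoc, B.lift_π, lift_whiskerLeft_assoc]

/-- Moving the fibre over a point by a point of the group is multiplication by a function of the
base point in coordinates. -/
theorem exists_factor (g₀ : T ⟶ G) (x₀ : T ⟶ X) {U U' : X.left.Opens}
    {y : Γ(B.V.left, B.π.left ⁻¹ᵁ U)} {y' : Γ(B.V.left, B.π.left ⁻¹ᵁ U')}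
    (hy : y ∈ B.atlas.chart U) (hy' : y' ∈ B.atlas.chart U') (hU : x₀.left ⁻¹ᵁ U = ⊤)
    (hU' : (lift g₀ x₀ ≫ a.act).left ⁻¹ᵁ U' = ⊤) :
    ∃ C : Γ(T.left, ⊤), ∀ (T' : Over S) (t : T' ⟶ T) (v : T' ⟶ B.V) (hv : v ≫ B.π = t ≫ x₀)
      (hgv : (lift (t ≫ g₀) v ≫ B.lift.act) ≫ B.π = t ≫ lift g₀ x₀ ≫ a.act),
      HMNum.evalFn B.π y' (lift (t ≫ g₀) v ≫ B.lift.act) (HMNum.top_le_preimage B.π hU' hgv) =
        t.left.appTop C * HMNum.evalFn B.π y v (HMNum.top_le_preimage B.π hU hv) := by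
  obtain ⟨c, hc⟩ := B.lift_linear U U' y y' hy hy'
  let O := a.act.left ⁻¹ᵁ U' ⊓ (snd G X).left ⁻¹ᵁ U
  have hO : (⊤ : T.left.Opens) ≤ (lift g₀ x₀).left ⁻¹ᵁ O := by
    intro p _
    refine ⟨?_, ?_⟩
    · have : p ∈ (lift g₀ x₀ ≫ a.act).left ⁻¹ᵁ U' := hU' ▸ trivial
      exact this
    · have : p ∈ (lift g₀ x₀ ≫ snd G X).left ⁻¹ᵁ U := by rw [lift_snd, hU]; trivial
      exact this
  refine ⟨(lift g₀ x₀).left.appLE O ⊤ hO c, fun T' t v hv hgv ↦ ?_⟩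
  let m := lift (t ≫ g₀) v
  have hmπ : m ≫ (G ◁ B.π) = t ≫ lift g₀ x₀ := by
    rw [lift_whiskerLeft, hv, comp_lift]
  have hmlin : (⊤ : T'.left.Opens) ≤ m.left ⁻¹ᵁ GLinSh.liftOpen a B.π U U' := by
    intro p _
    have h1 : (G ◁ B.π).left (m.left p) ∈ O := by
      rw [← Scheme.Hom.comp_apply, ← Over.comp_left, hmπ]
      exact hO (trivial : t.left p ∈ (⊤ : T.left.Opens))
    exact h1
  have key := congrArg (m.left.appLE (GLinSh.liftOpen a B.π U U') ⊤ hmlin) hc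
  rw [map_mul, ← ConcreteCategory.comp_apply, ← ConcreteCategory.comp_apply, ← ConcreteCategory.comp_apply,
    Scheme.Hom.appLE_comp_appLE, Scheme.Hom.appLE_comp_appLE, Scheme.Hom.appLE_comp_appLE] at key
  simp only [← Over.comp_left, hmπ, show m ≫ snd G B.V = v from lift_snd _ _] at key
  have ht : t.left.appTop = t.left.appLE ⊤ ⊤ le_top := Scheme.Hom.app_eq_appLE _
  rw [ht, ← ConcreteCategory.comp_apply, Scheme.Hom.appLE_comp_appLE]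
  exact key

variable (l l' : Red.Gm S ⟶ G) [IsMonHom l] [IsMonHom l']

/-- The weight on the fibre is moved along a point of the group conjugating the subgroups. -/
theorem hasFibreWeight_translate (g₀ : T ⟶ G) (y : T ⟶ X)
    (hl : ∀ (T' : Over S) (t : T' ⟶ T) (g : T' ⟶ Red.Gm S),
      g ≫ l' = (t ≫ g₀)⁻¹ * (g ≫ l) * (t ≫ g₀))
    (hcover : ∀ x₁ : T ⟶ X, ∃ (U : X.left.Opens) (y : Γ(B.V.left, B.π.left ⁻¹ᵁ U)),
      y ∈ B.atlas.chart U ∧ x₁.left ⁻¹ᵁ U = ⊤)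
    (w₀ : ℤ) (h : HMNum.HasFibreWeight B l y w₀) :
    HMNum.HasFibreWeight B l' (lift g₀⁻¹ y ≫ a.act) w₀ := by
  obtain ⟨hfix, U₁, y₁, hy₁, hU₁, hwt⟩ := h
  have hcomp : ∀ {T' : Over S} (t : T' ⟶ T) (x' : T ⟶ X),
      t ≫ lift g₀⁻¹ x' ≫ a.act = lift (t ≫ g₀)⁻¹ (t ≫ x') ≫ a.act := fun t x' ↦ by
    rw [comp_lift_assoc, GrpObj.comp_inv]
  refine ⟨fun T' t g ↦ ?_, ?_⟩
  · rw [hcomp, hl T' t g, GrpSch.act_mul, GrpSch.act_mul, GrpSch.act_act_inv, hfix T' t g]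
  obtain ⟨U₀, y₀, hy₀, hU₀⟩ := hcover (lift g₀⁻¹ y ≫ a.act)
  refine ⟨U₀, y₀, hy₀, hU₀, fun T' t g v hv hgv ↦ ?_⟩
  have hback : lift g₀ (lift g₀⁻¹ y ≫ a.act) ≫ a.act = y := GrpSch.act_act_inv a g₀ y
  obtain ⟨C, hC⟩ := exists_factor B g₀ (lift g₀⁻¹ y ≫ a.act) hy₀ hy₁ hU₀ (by rw [hback, hU₁])
  obtain ⟨C', hC'⟩ := exists_factor B g₀⁻¹ y hy₁ hy₀ hU₁ hU₀
  let w := lift (t ≫ g₀) v ≫ B.lift.act
  have hw : w ≫ B.π = t ≫ y := by
    rw [lift_π_act, hv, ← comp_lift_assoc, hback]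
  have hgw : (lift (g ≫ l) w ≫ B.lift.act) ≫ B.π = t ≫ y := by
    rw [lift_π_act, hw, hfix T' t g]
  have e1 := hC T' t v hv (by rw [hback]; exact hw)
  have hback' : ∀ u : T' ⟶ B.V, u ≫ B.π = t ≫ y →
      (lift (t ≫ g₀⁻¹) u ≫ B.lift.act) ≫ B.π = t ≫ lift g₀⁻¹ y ≫ a.act := fun u hu ↦ by
    rw [lift_π_act, hu, comp_lift_assoc]
  have e3 := hC' T' t w hw (hback' _ hw)
  have e4 := hC' T' t (lift (g ≫ l) w ≫ B.lift.act) hgw (hback' _ hgw)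
  have hww : lift (t ≫ g₀⁻¹) w ≫ B.lift.act = v := by
    rw [GrpObj.comp_inv, GrpSch.act_inv_act]
  have hlw : lift (t ≫ g₀⁻¹) (lift (g ≫ l) w ≫ B.lift.act) ≫ B.lift.act =
      lift (g ≫ l') v ≫ B.lift.act := by
    rw [GrpObj.comp_inv, hl T' t g, GrpSch.act_mul, GrpSch.act_mul]
  rw [evalFn_congr B.π y₀ _ (HMNum.top_le_preimage B.π hU₀ hgv) hlw] at e4
  rw [evalFn_congr B.π y₀ _ (HMNum.top_le_preimage B.π hU₀ hv) hww] at e3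
  rw [e4, hwt T' t g w hw hgw, e3]
  ring

/-- The numerical function is moved along a point of the group conjugating the subgroups. -/
theorem isMu_translate (g₀ : T ⟶ G) (x : T ⟶ X)
    (hl : ∀ (T' : Over S) (t : T' ⟶ T) (g : T' ⟶ Red.Gm S),
      g ≫ l' = (t ≫ g₀)⁻¹ * (g ≫ l) * (t ≫ g₀))
    (hcover : ∀ x₁ : T ⟶ X, ∃ (U : X.left.Opens) (y : Γ(B.V.left, B.π.left ⁻¹ᵁ U)),
      y ∈ B.atlas.chart U ∧ x₁.left ⁻¹ᵁ U = ⊤)
    (m : ℤ) (h : HMNum.IsMu B l x m) : HMNum.IsMu B l' (lift g₀⁻¹ x ≫ a.act) m := by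
  obtain ⟨y, ⟨φ, hφx, hφy⟩, hfix, U₁, y₁, hy₁, hU₁, hwt⟩ := h
  have hcomp : ∀ {T' : Over S} (t : T' ⟶ T) (x' : T ⟶ X),
      t ≫ lift g₀⁻¹ x' ≫ a.act = lift (t ≫ g₀)⁻¹ (t ≫ x') ≫ a.act := fun t x' ↦ by
    rw [comp_lift_assoc, GrpObj.comp_inv]
  let ψ := lift (snd (HMNum.A1 S) T ≫ g₀)⁻¹ φ.1 ≫ a.act
  have hψpt : ∀ {T' : Over S} (b : T' ⟶ HMNum.A1 S) (t : T' ⟶ T),
      lift b t ≫ ψ = lift (t ≫ g₀)⁻¹ (lift b t ≫ φ.1) ≫ a.act := fun b t ↦ by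
    simp only [ψ]
    rw [comp_lift_assoc, GrpObj.comp_inv, ← Category.assoc (lift b t), lift_snd]
  have hψ : Magnet.MonAct.IsEquivariant
      ((Magnet.subAct S ℤ HMNum.plus).prod (Magnet.MonAct.trivial (Red.Gm S) T)) (HMNum.gmAct a l') ψ := by
    refine (Magnet.MonAct.mem_eqvHom_iff ψ).2 fun T' g b t ↦ ?_
    have h1 := (Magnet.MonAct.mem_eqvHom_iff φ.1).1 φ.2 T' g b t
    simp only [Magnet.MonAct.lift_restrict_act, Magnet.MonAct.ofAction_act] at h1 ⊢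
    rw [hψpt, hψpt, h1, hl T' t g, GrpSch.act_mul, GrpSch.act_mul, GrpSch.act_act_inv]
  refine ⟨lift g₀⁻¹ y ≫ a.act, ⟨⟨ψ, hψ⟩, ?_, ?_⟩, ?_⟩
  · change lift (toUnit T ≫ η[HMNum.A1 S]) (𝟙 T) ≫ ψ = _
    rw [hψpt, Category.id_comp, show lift (toUnit T ≫ η[HMNum.A1 S]) (𝟙 T) ≫ φ.1 = x from hφx]
  · rw [HMNum.limitPt_eq]
    rw [HMNum.limitPt_eq] at hφy
    change lift (toUnit T ≫ HMNum.origin S) (𝟙 T) ≫ ψ = _
    rw [hψpt, Category.id_comp, hφy]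
  · exact hasFibreWeight_translate B l l' g₀ y hl hcover (-m) ⟨hfix, U₁, y₁, hy₁, hU₁, hwt⟩

end Groth.Agent.H60.MuTranslate
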