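import Groth.Prelude.Def_QuotSh
import Groth.Agent.Lib.GrpSch.Basic
import Mathlib.CategoryTheory.Sites.EpiMono
import Mathlib.CategoryTheory.Sites.LocallyBijective

/-!
A quotient sheaf of a group action: the map has local sections and two points with the same
image are locally in one orbit.
-/

set_option autoImplicit false
set_option backward.isDefEq.respectTransparency false
set_option backward.isDefEq.respectTransparency.types false

universe u

open CategoryTheory CategoryTheory.Limits AlgebraicGeometry MonoidalCategory CartesianMonoidalCategory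
open Opposite MonObj Groth.Agent.Lib

namespace Groth.Agent.H60.OrbitPresheaf

variable (K : Precoverage Scheme.{u}) [K.IsStableUnderBaseChange] [K.IsStableUnderComposition]
  [K.HasIsos] {S : Scheme.{u}}

/-- A covering sieve of the big site contains a covering family. -/
theorem exists_cover {T : Over S} {R : Sieve T} (hR : R ∈ QuotSh.J K S T) :
    ∃ R₀ ∈ K T.left, ∀ ⦃Z : Scheme.{u}⦄ (f : Z ⟶ T.left), R₀ f →
      R (Over.homMk f : Over.mk (f ≫ T.hom) ⟶ T) := by
  rw [GrothendieckTopology.mem_over_iff,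
    Precoverage.mem_toGrothendieck_iff_of_isStableUnderComposition] at hR
  obtain ⟨R₀, hR₀, hle⟩ := hR
  exact ⟨R₀, hR₀, fun Z f hf ↦ (Sieve.overEquiv_iff R f).1 (hle _ _ hf)⟩

variable {G X Y : Over S} [GrpObj G] (a : AlgGrp.Action G X)

/-- Two points are in one orbit. -/
def Orb (T : Over S) (x y : T ⟶ X) : Prop := ∃ g : T ⟶ G, lift g y ≫ a.act = x

theorem orb_equivalence (T : Over S) : Equivalence (Orb a T) where
  refl x := ⟨1, GrpSch.act_one a x⟩
  symm := fun {x y} ⟨g, h⟩ ↦ ⟨g⁻¹, by rw [← h, GrpSch.act_inv_act]⟩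
  trans := fun {x y z} ⟨g, h⟩ ⟨g', h'⟩ ↦ ⟨g * g', by rw [GrpSch.act_mul, h', h]⟩

/-- The presheaf of orbits. -/
noncomputable def orbits : (Over S)ᵒᵖ ⥤ Type (u + 1) where
  obj T := ULift.{u + 1} (Quot (Orb a T.unop))
  map {T T'} f := ↾fun q ↦ ⟨Quot.map (fun x ↦ f.unop ≫ x) (fun x y ⟨g, h⟩ ↦
    ⟨f.unop ≫ g, by rw [← comp_lift, Category.assoc, h]⟩) q.down⟩
  map_id T := by
    ext ⟨⟨x⟩⟩
    exact congrArg (Quot.mk (Orb a T.unop)) (Category.id_comp x)
  map_comp {T T' T''} f g := by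
    ext ⟨⟨x⟩⟩
    exact congrArg (Quot.mk (Orb a T''.unop)) (Category.assoc g.unop f.unop x)

/-- The projection to the presheaf of orbits. -/
noncomputable def proj : yoneda.obj X ⋙ uliftFunctor.{u + 1, u} ⟶ orbits a where
  app T := ↾fun x ↦ ⟨Quot.mk _ x.down⟩
  naturality T T' f := rfl

variable {q : X ⟶ Y}

/-- For a quotient sheaf, two points with the same image are locally in one orbit. -/
theorem exists_orbit (hq : QuotSh.IsQuotient K a.act (snd G X) q) (T : Over S) (x₁ x₂ : T ⟶ X)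
    (h : x₁ ≫ q = x₂ ≫ q) :
    ∃ R ∈ K T.left, ∀ ⦃T' : Scheme.{u}⦄ (f : T' ⟶ T.left), R f →
      ∃ g : Over.mk (f ≫ T.hom) ⟶ G, (lift g (Over.homMk f ≫ x₂) ≫ a.act).left = f ≫ x₁.left := by
  obtain ⟨w, hiso⟩ := hq
  let J := QuotSh.J K S
  let F := presheafToSheaf J (Type (u + 1))
  let qPre : yoneda.obj X ⋙ uliftFunctor.{u + 1, u} ⟶ yoneda.obj Y ⋙ uliftFunctor.{u + 1, u} :=
    Functor.whiskerRight (yoneda.map q) _
  let πP : QuotSh.rep K X ⟶ F.obj (orbits a) := F.map (proj a)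
  have hcond : QuotSh.repMap K a.act ≫ πP = QuotSh.repMap K (snd G X) ≫ πP := by
    change F.map _ ≫ F.map _ = F.map _ ≫ F.map _
    rw [← F.map_comp, ← F.map_comp]
    refine congrArg F.map ?_
    ext T p
    refine congrArg ULift.up (Quot.sound ⟨p.down ≫ fst G X, ?_⟩)
    change lift (p.down ≫ fst G X) (p.down ≫ snd G X) ≫ a.act = p.down ≫ a.act
    rw [← comp_lift, lift_fst_snd, Category.comp_id]
  let ψ : QuotSh.rep K Y ⟶ F.obj (orbits a) :=
    inv (QuotSh.quotDesc K q w) ≫ coequalizer.desc πP hcond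
  have hψ : QuotSh.repMap K q ≫ ψ = πP := by
    have e1 : QuotSh.quotπ K a.act (snd G X) ≫ QuotSh.quotDesc K q w = QuotSh.repMap K q :=
      coequalizer.π_desc _ _
    rw [← e1, Category.assoc, IsIso.hom_inv_id_assoc]
    exact coequalizer.π_desc _ _
  have key : proj a ≫ toSheafify J (orbits a) = qPre ≫ toSheafify J _ ≫ ψ.hom := by
    rw [toSheafify_naturality]
    have e2 : sheafifyMap J (proj a) = sheafifyMap J qPre ≫ ψ.hom := by
      have := congrArg (fun m ↦ m.hom) hψ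
      exact this.symm
    rw [e2, ← Category.assoc, ← Category.assoc, toSheafify_naturality]
  have heq : (toSheafify J (orbits a)).app (op T) ((proj a).app (op T) ⟨x₁⟩) =
      (toSheafify J (orbits a)).app (op T) ((proj a).app (op T) ⟨x₂⟩) := by
    have e := congrArg (fun n ↦ n.app (op T)) key
    have e1 := ConcreteCategory.congr_hom e ⟨x₁⟩
    have e2 := ConcreteCategory.congr_hom e ⟨x₂⟩
    simp only [NatTrans.comp_app, ConcreteCategory.comp_apply] at e1 e2
    rw [e1, e2]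
    have : qPre.app (op T) ⟨x₁⟩ = qPre.app (op T) ⟨x₂⟩ := congrArg ULift.up h
    rw [this]
  obtain ⟨R₀, hR₀, hle⟩ := exists_cover K (Presheaf.equalizerSieve_mem J _ _ _ heq)
  refine ⟨R₀, hR₀, fun T' f hf ↦ ?_⟩
  have hq' : Quot.mk (Orb a _) ((Over.homMk f : Over.mk (f ≫ T.hom) ⟶ T) ≫ x₁) =
      Quot.mk (Orb a _) ((Over.homMk f : Over.mk (f ≫ T.hom) ⟶ T) ≫ x₂) :=
    congrArg ULift.down (hle f hf)
  obtain ⟨g, hg⟩ := ((orb_equivalence a _).eqvGen_iff).1 (Quot.eqvGen_exact hq')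
  exact ⟨g, by rw [hg]; rfl⟩

/-- A quotient map has sections on a covering. -/
theorem exists_sections {R U M : Over S} {s t : R ⟶ U} {q : U ⟶ M}
    (hq : QuotSh.IsQuotient K s t q) :
    ∃ R₀ ∈ K M.left, ∀ ⦃Z : Scheme.{u}⦄ (g : Z ⟶ M.left), R₀ g → ∃ σ : Z ⟶ U.left, σ ≫ q.left = g := by
  obtain ⟨w, hiso⟩ := hq
  have e1 : QuotSh.quotπ K s t ≫ QuotSh.quotDesc K q w = QuotSh.repMap K q := coequalizer.π_desc _ _
  have : Epi (QuotSh.quotπ K s t) := coequalizer.π_epi
  have : Epi (QuotSh.repMap K q) := by rw [← e1]; exact epi_comp _ _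
  have hs : Presheaf.IsLocallySurjective (QuotSh.J K S)
      (Functor.whiskerRight (yoneda.map q) uliftFunctor.{u + 1, u}) := by
    rw [← Presheaf.isLocallySurjective_presheafToSheaf_map_iff, Sheaf.isLocallySurjective_iff_epi']
    assumption
  obtain ⟨R₀, hR₀, hle⟩ := exists_cover K
    (Presheaf.imageSieve_mem (QuotSh.J K S) (Functor.whiskerRight (yoneda.map q) uliftFunctor.{u + 1, u})
      (U := op M) (⟨𝟙 M⟩ : ULift.{u + 1} (M ⟶ M)))
  refine ⟨R₀, hR₀, fun Z g hg ↦ ?_⟩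
  obtain ⟨σ, hσ⟩ := hle g hg
  refine ⟨σ.down.left, ?_⟩
  have := congrArg (fun z ↦ z.down.left) hσ
  exact this.trans (Category.comp_id g)

end Groth.Agent.H60.OrbitPresheaf
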