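import Groth.Agent.H60.SubAlg
import Groth.Agent.Lib.Comod.Orbits2
import Mathlib.RingTheory.Smooth.Locus
import Mathlib.RingTheory.Smooth.Field
import Mathlib.FieldTheory.Perfect

/-! Closed orbits are smooth. -/

set_option autoImplicit false
set_option linter.unusedSectionVars false
set_option linter.style.haveILetI false
universe u

open Groth.Agent.Lib.Comod.Basic Groth.Agent.Lib.Comod.Orbits Groth.Agent.H60.SubAlg

namespace Groth.Agent.H60.OrbitSmooth

variable {k : Type u} [Field k] [IsAlgClosed k] {A : Type u} [CommRing A] [IsDomain A]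
  [HopfAlgebra k A] [Algebra.FiniteType k A]
variable {R : Type u} [CommRing R] [Algebra k R] [Algebra.FiniteType k R] [HopfRep.Comod k A R]
  [GLin.IsCoactAlg k A R]

theorem comap_transR (g : A →ₐ[k] k) (x : R →ₐ[k] k) :
    (orbitKer (A := A) x).map (transR g : R →ₐ[k] R) ≤ orbitKer (A := A) x := by
  rw [Ideal.map_le_iff_le_comap]
  intro r hr
  rw [Ideal.mem_comap, transR_apply]
  exact dact_mem (isSubcomod_orbitKer x) _ hr

theorem transR_invPt (g : A →ₐ[k] k) (r : R) :
    transR g (transR (invPt g) r) = r := by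
  rw [transR_apply, transR_apply, dact_dact, ← mulPt_toLinearMap, mulPt_invPt]
  exact dact_counit_apply R r

theorem transR_invPt' (g : A →ₐ[k] k) (r : R) :
    transR (invPt g) (transR g r) = r := by
  rw [transR_apply, transR_apply, dact_dact, ← mulPt_toLinearMap, invPt_mulPt]
  exact dact_counit_apply R r

/-- Translation of the orbit. -/
noncomputable def transQ (g : A →ₐ[k] k) (x : R →ₐ[k] k) :
    (R ⧸ orbitKer (A := A) x) ≃ₐ[k] (R ⧸ orbitKer (A := A) x) :=
  let f : ∀ h : A →ₐ[k] k, (R ⧸ orbitKer (A := A) x) →ₐ[k] (R ⧸ orbitKer (A := A) x) := fun h =>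
    Ideal.quotientMapₐ _ (transR h) (Ideal.map_le_iff_le_comap.1 (comap_transR h x))
  AlgEquiv.ofAlgHom (f g) (f (invPt g))
    (Ideal.Quotient.algHom_ext k (AlgHom.ext fun r =>
      congrArg (Ideal.Quotient.mk _) (transR_invPt g r)))
    (Ideal.Quotient.algHom_ext k (AlgHom.ext fun r =>
      congrArg (Ideal.Quotient.mk _) (transR_invPt' g r)))

theorem transQ_mk (g : A →ₐ[k] k) (x : R →ₐ[k] k) (r : R) :
    transQ g x (Ideal.Quotient.mk _ r) = Ideal.Quotient.mk _ (dact R g.toLinearMap r) :=
  congrArg (Ideal.Quotient.mk _) (transR_apply g r)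

theorem formallySmooth (x : R →ₐ[k] k) (hx : GLin.IsClosedOrbit k A x) :
    Algebra.FormallySmooth k (R ⧸ orbitKer (A := A) x) := by
  classical
  set B := R ⧸ orbitKer (A := A) x
  haveI : IsNoetherianRing B := Algebra.FiniteType.isNoetherianRing k B
  haveI : Algebra.FinitePresentation k B := Algebra.FinitePresentation.of_finiteType.1 inferInstance
  haveI : (orbitKer (A := A) x).IsPrime := RingHom.ker_isPrime _
  haveI : IsDomain B := Ideal.Quotient.isDomain _
  rw [← Algebra.smoothLocus_eq_univ_iff]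
  -- smooth at the generic point
  haveI : (⊥ : Ideal B).IsPrime := Ideal.isPrime_bot
  have hgen : Algebra.IsSmoothAt k (⊥ : Ideal B) := by
    haveI : IsFractionRing B (Localization.AtPrime (⊥ : Ideal B)) := by
      rw [IsFractionRing]
      convert (inferInstance : IsLocalization (⊥ : Ideal B).primeCompl (Localization.AtPrime (⊥ : Ideal B)))
      ext b; simp [Ideal.primeCompl]
    letI := IsFractionRing.toField B (K := Localization.AtPrime (⊥ : Ideal B))
    haveI : Algebra.EssFiniteType k (Localization.AtPrime (⊥ : Ideal B)) := .comp k B _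
    exact Algebra.FormallySmooth.of_perfectField
  obtain ⟨_, ⟨_, ⟨f, rfl⟩, rfl⟩, hf0, hfsm⟩ := PrimeSpectrum.isBasis_basic_opens.exists_subset_of_mem_open
    (show (⟨⊥, inferInstance⟩ : PrimeSpectrum B) ∈ Algebra.smoothLocus k B from hgen) Algebra.isOpen_smoothLocus
  have hf : f ≠ 0 := fun h => hf0 (h ▸ zero_mem _)
  have hsm : Algebra.FormallySmooth k (Localization.Away f) := Algebra.basicOpen_subset_smoothLocus_iff.1 hfsm
  obtain ⟨z, hz⟩ : ∃ z : B →ₐ[k] k, z f ≠ 0 := by
    by_contra! h
    exact hf (Groth.Agent.Lib.Comod.Orbits2.isNilpotent_of_forall_pt (k := k) h).eq_zero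
  refine Set.eq_univ_of_forall fun P => ?_
  obtain ⟨m, hm, hPm⟩ := Ideal.exists_le_maximal P.asIdeal P.isPrime.ne_top
  obtain ⟨w, hw⟩ := exists_pt (k := k) hm.ne_top
  let q : R →ₐ[k] B := Ideal.Quotient.mkₐ k _
  have hB : ∀ v : B →ₐ[k] k, InOrbit A x (v.comp q) := fun v =>
    inOrbit_of_isClosedOrbit hx fun r hr => by
      change v (Ideal.Quotient.mk _ r) = 0
      rw [Ideal.Quotient.eq_zero_iff_mem.2 hr, map_zero]
  obtain ⟨g, hg⟩ := (hB w).symm.trans (hB z)
  -- translate
  let σ := transQ g x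
  have hσ : ∀ b : B, w (σ b) = z b := fun b => by
    obtain ⟨r, rfl⟩ := Ideal.Quotient.mk_surjective b
    rw [transQ_mk]
    exact ((AlgHom.congr_fun hg r).trans (actPt_apply g (w.comp q) r)).symm
  let e : Localization.Away f ≃ₐ[k] Localization.Away (σ f) :=
    IsLocalization.algEquivOfAlgEquiv (M := Submonoid.powers f) (Localization.Away f)
      (Localization.Away (σ f)) σ (Submonoid.map_powers _ _)
  have hsub := Algebra.basicOpen_subset_smoothLocus_iff.2 (Algebra.FormallySmooth.of_equiv e :
    Algebra.FormallySmooth k (Localization.Away (σ f)))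
  refine hsub (show σ f ∉ P.asIdeal from fun h => hz ?_)
  rw [← hσ]
  exact hw (hPm h)

end Groth.Agent.H60.OrbitSmooth
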