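import Groth.Agent.Lib.Comod.Diag
import Groth.Agent.Lib.Comod.Orbits2
import Mathlib.Algebra.MonoidAlgebra.Basic

/-!
Torus actions with a positive grading monoid.
-/

universe u v w

open TensorProduct Groth.Agent.Lib.Comod.Basic Groth.Agent.Lib.Comod.Reynolds
  Groth.Agent.Lib.Comod.Alg Groth.Agent.Lib.Comod.Orbits Groth.Agent.Lib.Comod.Diag

namespace Groth.Agent.H60.PosTorus

set_option linter.unusedSectionVars false

noncomputable section

variable {k : Type u} [Field k] {Λ : Type v} [AddCommGroup Λ]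
variable {R : Type w} [CommRing R] [Algebra k R]
  [HopfRep.Comod k (AddMonoidAlgebra k Λ) R] [GLin.IsCoactAlg k (AddMonoidAlgebra k Λ) R]

/-- The weight space of weight `a`. -/
abbrev wt (a : Λ) : Submodule k R :=
  HopfRep.eigenspace k (AddMonoidAlgebra k Λ) R (AddMonoidAlgebra.single a 1)

/-- The component of weight `a`. -/
abbrev comp (a : Λ) : R →ₗ[k] R := proj (monoBasis k Λ) R a

theorem comp_mem (a : Λ) (f : R) : comp (k := k) a f ∈ wt (k := k) a := by
  have h := proj_mem_eigenspace (V := R) (monoBasis k Λ) (monoBasis_groupLike k Λ) a f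
  rwa [monoBasis_apply] at h

theorem comp_of_mem [DecidableEq Λ] {a c : Λ} {f : R} (hf : f ∈ wt (k := k) c) :
    comp (k := k) a f = if a = c then f else 0 := by
  refine proj_of_mem (monoBasis k Λ) ?_
  rwa [monoBasis_apply]

theorem mul_mem_wt {a c : Λ} {f g : R} (hf : f ∈ wt (k := k) a) (hg : g ∈ wt (k := k) c) :
    f * g ∈ wt (k := k) (a + c) := by
  change HopfRep.Comod.coact (k := k) (A := AddMonoidAlgebra k Λ) (f * g) = _
  rw [GLin.IsCoactAlg.coact_mul,
    show HopfRep.Comod.coact (k := k) (A := AddMonoidAlgebra k Λ) f = f ⊗ₜ _ from hf,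
    show HopfRep.Comod.coact (k := k) (A := AddMonoidAlgebra k Λ) g = g ⊗ₜ _ from hg,
    Algebra.TensorProduct.tmul_mul_tmul, AddMonoidAlgebra.single_mul_single, one_mul]

theorem wt_zero_eq : wt (k := k) (R := R) (0 : Λ) = HopfRep.fixedPts k (AddMonoidAlgebra k Λ) R := by
  rw [fixedPts_eq_eigenspace_one (monoBasis k Λ) (monoBasis_groupLike k Λ), AddMonoidAlgebra.one_def]

variable (k Λ R) in
/-- The ideal of the fixed point scheme. -/
def fixIdeal : Ideal R := Ideal.span {f : R | ∃ a : Λ, a ≠ 0 ∧ f ∈ wt (k := k) a}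

theorem comp_ne_zero_mem (a : Λ) (ha : a ≠ 0) (f : R) : comp (k := k) a f ∈ fixIdeal k Λ R :=
  Ideal.subset_span ⟨a, ha, comp_mem a f⟩

theorem sub_comp_zero_mem (f : R) : f - comp (k := k) (0 : Λ) f ∈ fixIdeal k Λ R := by
  classical
  obtain ⟨s, hs0, hs⟩ := exists_finset_sum_proj (V := R) (monoBasis k Λ) (monoBasis_groupLike k Λ) f
  have hsum : f = comp (k := k) (0 : Λ) f + ∑ a ∈ s.erase 0, comp (k := k) a f := by
    by_cases h0 : (0 : Λ) ∈ s
    · rw [Finset.add_sum_erase s (fun a => comp (k := k) a f) h0]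
      exact hs
    · rw [Finset.erase_eq_of_notMem h0, show comp (k := k) (0 : Λ) f = 0 from hs0 0 h0, zero_add]
      exact hs
  rw [show f - comp (k := k) (0 : Λ) f = ∑ a ∈ s.erase 0, comp (k := k) a f from sub_eq_of_eq_add' hsum]
  exact sum_mem fun a ha => comp_ne_zero_mem a (Finset.mem_erase.1 ha).1 f

variable (hpos : ∀ w : Λ, wt (k := k) (R := R) w ≠ ⊥ → wt (k := k) (R := R) (-w) ≠ ⊥ → w = 0)
include hpos

theorem comp_zero_of_mem {f : R} (hf : f ∈ fixIdeal k Λ R) : comp (k := k) (0 : Λ) f = 0 := by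
  classical
  suffices ∀ r : R, comp (k := k) (0 : Λ) (r * f) = 0 by simpa using this 1
  refine Submodule.span_induction (fun y hy r => ?_) (fun r => by simp)
    (fun y z _ _ hy hz r => by rw [mul_add, map_add, hy r, hz r, add_zero])
    (fun c y _ hy r => by rw [smul_eq_mul, ← mul_assoc]; exact hy _) hf
  obtain ⟨w, hw, hy⟩ := hy
  obtain ⟨s, -, hs⟩ := exists_finset_sum_proj (V := R) (monoBasis k Λ) (monoBasis_groupLike k Λ) r
  rw [hs, Finset.sum_mul, map_sum]
  refine Finset.sum_eq_zero fun a _ => ?_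
  rw [comp_of_mem (mul_mem_wt (comp_mem a r) hy)]
  split_ifs with h
  · have ha : a = -w := eq_neg_of_add_eq_zero_left h.symm
    by_contra hne
    refine hw (hpos w ?_ ?_)
    · exact fun hb => hne (by rw [(Submodule.eq_bot_iff _).1 hb y hy, mul_zero])
    · exact fun hb => hne (by
        rw [show proj (monoBasis k Λ) R a r = 0 from
          (Submodule.eq_bot_iff _).1 hb _ (ha ▸ comp_mem a r), zero_mul])
  · rfl

theorem bijective_quot :
    Function.Bijective ((Ideal.Quotient.mkₐ k (fixIdeal k Λ R)).comp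
      (GLin.invariants k (AddMonoidAlgebra k Λ) R).val) := by
  classical
  constructor
  · rw [injective_iff_map_eq_zero]
    intro f hf
    have hf' : (f : R) ∈ fixIdeal k Λ R := Ideal.Quotient.eq_zero_iff_mem.1 hf
    have h := comp_zero_of_mem hpos hf'
    rw [comp_of_mem (c := (0 : Λ)) (by rw [wt_zero_eq]; exact f.2), if_pos rfl] at h
    exact Subtype.ext h
  · intro q
    obtain ⟨r, rfl⟩ := Ideal.Quotient.mk_surjective q
    have h0 : comp (k := k) (0 : Λ) r ∈ HopfRep.fixedPts k (AddMonoidAlgebra k Λ) R := by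
      rw [← wt_zero_eq]; exact comp_mem 0 r
    refine ⟨⟨comp (k := k) (0 : Λ) r, h0⟩, (Ideal.Quotient.eq.2 (sub_comp_zero_mem r)).symm⟩

theorem isClosedOrbit_iff_isFixedPt [IsAlgClosed k] [AddMonoid.FG Λ] [Algebra.FiniteType k R]
    (x : R →ₐ[k] k) :
    GLin.IsClosedOrbit k (AddMonoidAlgebra k Λ) x ↔ GLin.IsFixedPt k (AddMonoidAlgebra k Λ) x := by
  classical
  haveI : Algebra.FiniteType k (AddMonoidAlgebra k Λ) := AddMonoidAlgebra.finiteType_iff_fg.2 inferInstance
  constructor
  · intro hx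
    have hI : HopfRep.IsSubcomod (k := k) (A := AddMonoidAlgebra k Λ) ((fixIdeal k Λ R).restrictScalars k) := by
      have h := isSubcomod_idealSpan (R := R)
        (isSubcomod_iSup fun a : {a : Λ // a ≠ 0} => (isSubcomod_iff (wt (k := k) (R := R) a.1)).2
          fun φ w hw => by rw [mem_eigenspace_iff.1 hw φ]; exact Submodule.smul_mem _ _ hw)
      rwa [show Ideal.span ((⨆ a : {a : Λ // a ≠ 0}, wt (k := k) (R := R) a.1 : Submodule k R) : Set R) =
        fixIdeal k Λ R from ?_] at h
      rw [Submodule.iSup_eq_span, Ideal.span, Submodule.span_span_of_tower]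
      refine congrArg _ (Set.ext fun f => ?_)
      simp only [Set.mem_iUnion, SetLike.mem_coe, Subtype.exists, exists_prop]
      rfl
    have hne : fixIdeal k Λ R ⊔ orbitKer (A := AddMonoidAlgebra k Λ) x ≠ ⊤ := by
      intro ht
      obtain ⟨i, hi, j, hj, hij⟩ := Submodule.mem_sup.1 (ht ▸ Submodule.mem_top : (1 : R) ∈ _ ⊔ _)
      have h1 : comp (k := k) (0 : Λ) (1 : R) = 1 := by
        rw [comp_of_mem (c := (0 : Λ)) (by rw [wt_zero_eq]; exact one_mem_fixedPts), if_pos rfl]
      rw [← hij, map_add, comp_zero_of_mem hpos hi, zero_add, hij] at h1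
      have h2 := orbitKer_le_ker x (dact_mem (isSubcomod_orbitKer (A := AddMonoidAlgebra k Λ) x)
        ((monoBasis k Λ).coord 0) hj)
      rw [show dact R ((monoBasis k Λ).coord 0) j = 1 from h1] at h2
      simp at h2
    obtain ⟨z, hz⟩ := exists_pt (k := k) hne
    have hfix : ∀ f : R, GLin.orbitHom k (AddMonoidAlgebra k Λ) z f = algebraMap k _ (z f) := by
      intro f
      have h0 : comp (k := k) (0 : Λ) f ∈ HopfRep.fixedPts k (AddMonoidAlgebra k Λ) R := by
        rw [← wt_zero_eq]; exact comp_mem 0 f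
      have hd : f - comp (k := k) (0 : Λ) f ∈ orbitKer (A := AddMonoidAlgebra k Λ) z :=
        le_orbitKer hI (le_sup_left.trans hz) (sub_comp_zero_mem f)
      have hd' : z f = z (comp (k := k) (0 : Λ) f) := by
        rw [← sub_eq_zero, ← map_sub]; exact orbitKer_le_ker z hd
      rw [RingHom.mem_ker, map_sub, sub_eq_zero] at hd
      rw [hd, hd', orbitHom_fixed z h0]
    obtain ⟨g, hg⟩ := (inOrbit_of_isClosedOrbit hx (le_sup_right.trans hz)).symm
    have hxz : x = z := AlgHom.ext fun f => by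
      rw [hg]
      change g (GLin.orbitHom k _ z f) = z f
      rw [hfix, AlgHom.commutes]
      rfl
    subst hxz
    exact AlgHom.ext hfix
  · intro hx
    refine isClosedOrbit_of_forall fun w hw => ⟨Bialgebra.counitAlgHom k _, ?_⟩
    rw [actPt_counit]
    refine AlgHom.ext fun f => ?_
    have : f - algebraMap k R (x f) ∈ orbitKer (A := AddMonoidAlgebra k Λ) x := by
      rw [RingHom.mem_ker, map_sub, AlgHom.commutes, sub_eq_zero]
      exact AlgHom.congr_fun hx f
    have h := hw this
    rwa [RingHom.mem_ker, map_sub, AlgHom.commutes, sub_eq_zero] at h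

end

end Groth.Agent.H60.PosTorus
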