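import Groth.Agent.H60.OrbitDim
import Mathlib.RingTheory.ZariskisMainTheorem
import Mathlib.RingTheory.FiniteStability

/-! The locus of points with finite stabiliser is open; stable points. -/

set_option autoImplicit false
set_option linter.unusedSectionVars false
set_option linter.style.haveILetI false
universe u v

open TensorProduct
open Groth.Agent.Lib.Comod.Basic Groth.Agent.Lib.Comod.Reynolds Groth.Agent.Lib.Comod.Orbits
open Groth.Agent.H60.FreeOrbit Groth.Agent.H60.OrbitDim

namespace Groth.Agent.H60.StabLocus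

noncomputable section


/-- Quasi-finiteness spreads to a neighbourhood. -/
theorem exists_qf_nhd {R S : Type u} [CommRing R] [CommRing S] [Algebra R S] [Algebra.FiniteType R S]
    (p : Ideal S) [p.IsPrime] (h : Algebra.QuasiFiniteAt R p) :
    ∃ r ∉ p, ∀ q : PrimeSpectrum S, r ∉ q.asIdeal → Algebra.QuasiFiniteAt R q.asIdeal := by
  obtain ⟨S', hS', r, hrp, H⟩ := Algebra.QuasiFiniteAt.exists_fg_and_exists_notMem_and_awayMap_bijective
    (R := R) p
  have : Module.Finite R S' := ⟨(Submodule.fg_top _).mpr hS'⟩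
  have : Algebra.QuasiFinite R (Localization.Away r) := .trans _ S' _
  have : Algebra.QuasiFinite R (Localization.Away r.1) :=
    .of_surjective_algHom (Localization.awayMapₐ S'.val r) H.2
  refine ⟨r.1, hrp, fun q hrq => ?_⟩
  let f : Localization.Away r.1 →ₐ[S] Localization.AtPrime q.asIdeal :=
    IsLocalization.Away.liftAlgHom r.1 (f := Algebra.ofId _ _) <|
      IsLocalization.map_units (M := q.asIdeal.primeCompl) (Localization.AtPrime q.asIdeal) ⟨r, hrq⟩
  refine .of_forall_exists_mul_mem_range (f.restrictScalars R) fun x ↦ ?_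
  obtain ⟨x, ⟨s, hs⟩, rfl⟩ := IsLocalization.exists_mk'_eq q.asIdeal.primeCompl x
  exact ⟨algebraMap _ _ s, by simpa using IsLocalization.map_units _ ⟨s, hs⟩,
    algebraMap _ _ x, by simp⟩

variable {k : Type u} [Field k] {A : Type u} [CommRing A] [HopfAlgebra k A]
variable {R : Type u} [CommRing R] [Algebra k R] [HopfRep.Comod k A R] [GLin.IsCoactAlg k A R]

/-- A subspace stable under all rational points of a reduced group is a subcomodule. -/
theorem isSubcomod_of_forall_pt [IsAlgClosed k] [Algebra.FiniteType k A] [IsReduced A]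
    {V : Type v} [AddCommGroup V] [Module k V] [HopfRep.Comod k A V] {W : Submodule k V}
    (h : ∀ g : A →ₐ[k] k, ∀ w ∈ W, dact V g.toLinearMap w ∈ W) :
    HopfRep.IsSubcomod (k := k) (A := A) W := by
  refine (isSubcomod_iff _).2 fun φ w hw => ?_
  rw [← Submodule.Quotient.mk_eq_zero, ← Module.forall_dual_apply_eq_zero_iff (R := k)]
  intro l
  let a : A := TensorProduct.lid k A ((l ∘ₗ W.mkQ).rTensor A (HopfRep.Comod.coact (k := k) (A := A) w))
  have key : ∀ ψ : A →ₗ[k] k, ψ a = l (W.mkQ (dact V ψ w)) := fun ψ => by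
    simp only [a, dact_apply]
    induction HopfRep.Comod.coact (k := k) (A := A) w using TensorProduct.induction_on with
    | zero => simp
    | tmul v c => simp [mul_comm]
    | add y z hy hz => simp only [map_add, hy, hz]
  have ha : a = 0 := IsNilpotent.eq_zero (Groth.Agent.Lib.Comod.Orbits2.isNilpotent_of_forall_pt
    (k := k) fun g => (key g.toLinearMap).trans (by
      rw [Submodule.mkQ_apply, (Submodule.Quotient.mk_eq_zero W).2 (h g w hw), map_zero]))
  exact (key φ).symm.trans (by rw [ha, map_zero])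

/-- A vector fixed by all rational points of a reduced group is fixed. -/
theorem mem_fixedPts_of_forall_pt [IsAlgClosed k] [Algebra.FiniteType k A] [IsReduced A]
    {V : Type v} [AddCommGroup V] [Module k V] [HopfRep.Comod k A V] {w : V}
    (h : ∀ g : A →ₐ[k] k, dact V g.toLinearMap w = w) : w ∈ HopfRep.fixedPts k A V := by
  refine mem_fixedPts_iff.2 fun φ => ?_
  rw [← sub_eq_zero, ← Module.forall_dual_apply_eq_zero_iff (R := k)]
  intro l
  let a : A := TensorProduct.lid k A (l.rTensor A (HopfRep.Comod.coact (k := k) (A := A) w))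
  have key : ∀ ψ : A →ₗ[k] k, ψ a = l (dact V ψ w) := fun ψ => by
    simp only [a, dact_apply]
    induction HopfRep.Comod.coact (k := k) (A := A) w using TensorProduct.induction_on with
    | zero => simp
    | tmul v c => simp [mul_comm]
    | add y z hy hz => simp only [map_add, hy, hz]
  have ha : a - l w • (1 : A) = 0 := IsNilpotent.eq_zero
    (Groth.Agent.Lib.Comod.Orbits2.isNilpotent_of_forall_pt (k := k) fun g => by
      rw [map_sub, map_smul, map_one, smul_eq_mul, mul_one, sub_eq_zero]
      exact (key g.toLinearMap).trans (congrArg l (h g)))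
  rw [map_sub, map_smul, ← key φ, sub_eq_zero.1 ha, map_smul, smul_eq_mul, smul_eq_mul, mul_comm, sub_self]

theorem isSubcomod_iInf {ι : Sort*} {V : Type v} [AddCommGroup V] [Module k V] [HopfRep.Comod k A V]
    {W : ι → Submodule k V}
    (h : ∀ i, HopfRep.IsSubcomod (k := k) (A := A) (W i)) :
    HopfRep.IsSubcomod (k := k) (A := A) (⨅ i, W i) :=
  (isSubcomod_iff _).2 fun φ w hw => (Submodule.mem_iInf _).2 fun i =>
    dact_mem (h i) φ ((Submodule.mem_iInf _).1 hw i)

variable (k A R) in
/-- The equations of the stabiliser scheme. -/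
def relIdeal : Ideal (R ⊗[k] A) :=
  Ideal.span (Set.range fun r : R => HopfRep.Comod.coact (k := k) (A := A) r - r ⊗ₜ[k] (1 : A))

variable (k A R) in
/-- The coordinate ring of the stabiliser scheme over `R`. -/
abbrev StabAlg : Type u := (R ⊗[k] A) ⧸ relIdeal k A R

variable (k A R) in
/-- The unit section. -/
def sec : StabAlg k A R →ₐ[k] R :=
  Ideal.Quotient.liftₐ _ ((Algebra.TensorProduct.productMap (AlgHom.id k R)
    ((Algebra.ofId k R).comp (Bialgebra.counitAlgHom k A)))) (by
    intro a ha
    refine (RingHom.mem_ker.1 ?_)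
    refine (Ideal.span_le.2 ?_ : relIdeal k A R ≤ RingHom.ker (Algebra.TensorProduct.productMap
      (AlgHom.id k R) ((Algebra.ofId k R).comp (Bialgebra.counitAlgHom k A)))) ha
    rintro _ ⟨r, rfl⟩
    have key : ∀ w : R ⊗[k] A, Algebra.TensorProduct.productMap (AlgHom.id k R)
        ((Algebra.ofId k R).comp (Bialgebra.counitAlgHom k A)) w =
        contract (V := R) (CoalgebraStruct.counit (R := k) (A := A)) w := fun w => by
      induction w using TensorProduct.induction_on with
      | zero => simp
      | tmul v c => simp [Algebra.ofId_apply, Algebra.smul_def, mul_comm]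
      | add y z hy hz => simp only [map_add, hy, hz]
    rw [SetLike.mem_coe, RingHom.mem_ker, key, map_sub, ← dact_apply, dact_counit_apply,
      contract_tmul, Bialgebra.counit_one, one_smul, sub_self])

/-- The fibre of the stabiliser scheme at `x`. -/
def fib (x : R →ₐ[k] k) : StabAlg k A R →ₐ[k] A ⧸ GLin.stabIdeal k A x :=
  Ideal.Quotient.liftₐ _ ((Ideal.Quotient.mkₐ k _).comp
    (Algebra.TensorProduct.productMap ((Algebra.ofId k A).comp x) (AlgHom.id k A))) (by
    intro a ha
    refine (RingHom.mem_ker.1 ?_)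
    refine (Ideal.span_le.2 ?_ : relIdeal k A R ≤ RingHom.ker ((Ideal.Quotient.mkₐ k (GLin.stabIdeal k A x)).comp
      (Algebra.TensorProduct.productMap ((Algebra.ofId k A).comp x) (AlgHom.id k A)))) ha
    rintro _ ⟨r, rfl⟩
    have key : ∀ w : R ⊗[k] A, Algebra.TensorProduct.productMap ((Algebra.ofId k A).comp x)
        (AlgHom.id k A) w = TensorProduct.lid k A (x.toLinearMap.rTensor A w) := fun w => by
      induction w using TensorProduct.induction_on with
      | zero => simp
      | tmul v c => simp [Algebra.ofId_apply, Algebra.smul_def]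
      | add y z hy hz => simp only [map_add, hy, hz]
    rw [SetLike.mem_coe, RingHom.mem_ker, AlgHom.comp_apply, Ideal.Quotient.mkₐ_eq_mk,
      Ideal.Quotient.eq_zero_iff_mem, map_sub]
    have h1 : GLin.orbitHom k A x (r - algebraMap k R (x r)) ∈ GLin.stabIdeal k A x :=
      Ideal.mem_map_of_mem _ (by simp [RingHom.mem_ker])
    rw [map_sub, AlgHom.commutes] at h1
    convert h1 using 2
    · rw [key]
      simp only [GLin.orbitHom, AlgHom.comp_apply, GLin.coactAlgHom_apply]
      induction HopfRep.Comod.coact (k := k) (A := A) r using TensorProduct.induction_on with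
      | zero => simp
      | tmul v c => simp
      | add y z hy hz => simp only [map_add, hy, hz]
    · simp [Algebra.ofId_apply])

theorem fib_surjective (x : R →ₐ[k] k) : Function.Surjective (fib (A := A) x) := fun y => by
  obtain ⟨a, rfl⟩ := Ideal.Quotient.mk_surjective y
  exact ⟨Ideal.Quotient.mk _ ((1 : R) ⊗ₜ[k] a), by simp [fib]⟩

@[simp] theorem sec_algebraMap (r : R) : sec k A R (algebraMap R (StabAlg k A R) r) = r := by
  change sec k A R (Ideal.Quotient.mk _ (r ⊗ₜ[k] (1 : A))) = r
  simp [sec, Algebra.ofId_apply]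

variable [Algebra.FiniteType k A]

instance : Algebra.FiniteType R (StabAlg k A R) :=
  haveI : Algebra.FiniteType R (R ⊗[k] A) := Algebra.FiniteType.baseChange R
  Algebra.FiniteType.of_surjective (Ideal.Quotient.mkₐ R _) (Ideal.Quotient.mkₐ_surjective R _)

variable [IsAlgClosed k]

variable (k A R) in
/-- The point of the stabiliser scheme over `p` on the unit section. -/
def unitPt (p : PrimeSpectrum R) : PrimeSpectrum (StabAlg k A R) :=
  PrimeSpectrum.comap (sec k A R).toRingHom p

/-- The point `x` as a prime. -/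
def ptPrime (x : R →ₐ[k] k) : PrimeSpectrum R := ⟨RingHom.ker x, RingHom.ker_isPrime x.toRingHom⟩

theorem counit_fib (x : R →ₐ[k] k) (c : StabAlg k A R) (a : A)
    (ha : Ideal.Quotient.mk _ a = fib x c) :
    Bialgebra.counitAlgHom k A a = x (sec k A R c) := by
  have hle : GLin.stabIdeal k A x ≤ RingHom.ker (Bialgebra.counitAlgHom k A) :=
    (stabilizer_le_iff x _).2 fun f => by
      rw [act_eq_dact]; exact congrArg x (dact_counit_apply R f)
  let ε' : A ⧸ GLin.stabIdeal k A x →ₐ[k] k := Ideal.Quotient.liftₐ _ (Bialgebra.counitAlgHom k A) hle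
  have h : ε'.comp (fib x) = x.comp (sec k A R) := by
    refine Ideal.Quotient.algHom_ext _ (Algebra.TensorProduct.ext ?_ ?_)
    · ext r; simp [ε', fib, sec, Algebra.ofId_apply]
    · ext a; simp [ε', fib, sec, Algebra.ofId_apply]
  have h2 := AlgHom.congr_fun h c
  rw [AlgHom.comp_apply, ← ha] at h2
  simpa [ε'] using h2

theorem qf_of_hasFiniteStab (x : R →ₐ[k] k) (hx : GLin.HasFiniteStab k A x) :
    Algebra.QuasiFiniteAt R (unitPt k A R (ptPrime x)).asIdeal := by
  haveI : Module.Finite k (A ⧸ GLin.stabIdeal k A x) := hx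
  set q := unitPt k A R (ptPrime x) with hq
  let K : Ideal (StabAlg k A R) := (RingHom.ker x).map (algebraMap R (StabAlg k A R))
  let π : A →ₐ[k] StabAlg k A R ⧸ K :=
    (Ideal.Quotient.mkₐ k K).comp ((Ideal.Quotient.mkₐ k _).comp Algebra.TensorProduct.includeRight)
  have hsmul : ∀ (r : R) (a : A), Ideal.Quotient.mk K (Ideal.Quotient.mk (relIdeal k A R) (r ⊗ₜ[k] a)) =
      π (x r • a) := fun r a => by
    change _ = Ideal.Quotient.mk K (Ideal.Quotient.mk (relIdeal k A R) ((1 : R) ⊗ₜ[k] (x r • a)))
    rw [Ideal.Quotient.eq, ← map_sub, tmul_smul, smul_tmul', ← sub_tmul,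
      show (r - x r • (1 : R)) ⊗ₜ[k] a = ((r - x r • (1 : R)) ⊗ₜ[k] (1 : A)) * ((1 : R) ⊗ₜ[k] a) by simp,
      map_mul]
    exact Ideal.mul_mem_right _ _ (Ideal.mem_map_of_mem _ (by rw [RingHom.mem_ker]; change x (r - x r • (1 : R)) = 0; rw [map_sub, map_smul, map_one]; simp))
  have hπ : Function.Surjective π := by
    intro y
    obtain ⟨y, rfl⟩ := Ideal.Quotient.mk_surjective y
    obtain ⟨y, rfl⟩ := Ideal.Quotient.mk_surjective y
    induction y using TensorProduct.induction_on with
    | zero => exact ⟨0, by simp⟩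
    | tmul r a => exact ⟨x r • a, (hsmul r a).symm⟩
    | add y z hy hz =>
      obtain ⟨a, ha⟩ := hy
      obtain ⟨b, hb⟩ := hz
      exact ⟨a + b, by simp [ha, hb]⟩
  have hstab : GLin.stabIdeal k A x ≤ RingHom.ker π := by
    rw [GLin.stabIdeal, Ideal.map_le_iff_le_comap]
    intro r hr
    rw [Ideal.mem_comap, RingHom.mem_ker]
    have e : ∀ w : R ⊗[k] A, Ideal.Quotient.mk K (Ideal.Quotient.mk (relIdeal k A R) w) =
        π (TensorProduct.lid k A (x.toLinearMap.rTensor A w)) := fun w => by
      induction w using TensorProduct.induction_on with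
      | zero => simp
      | tmul r a => simp [hsmul r a]
      | add y z hy hz => simp only [map_add, hy, hz]
    have h1 : π (GLin.orbitHom k A x r) =
        Ideal.Quotient.mk K (Ideal.Quotient.mk _ (HopfRep.Comod.coact (k := k) (A := A) r)) := by
      rw [e]
      congr 1
    rw [h1, show Ideal.Quotient.mk (relIdeal k A R) (HopfRep.Comod.coact (k := k) (A := A) r) =
      Ideal.Quotient.mk (relIdeal k A R) (r ⊗ₜ[k] (1 : A)) from
        Ideal.Quotient.eq.2 (Ideal.subset_span ⟨r, rfl⟩), Ideal.Quotient.eq_zero_iff_mem]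
    exact Ideal.mem_map_of_mem _ hr
  have hfibK : RingHom.ker (fib (A := A) x) ≤ K := by
    have h : (Ideal.Quotient.liftₐ _ π hstab).comp (fib x) = Ideal.Quotient.mkₐ k K := by
      refine Ideal.Quotient.algHom_ext _ (Algebra.TensorProduct.ext ?_ ?_)
      · ext r
        have := hsmul r 1
        simp only [AlgHom.comp_apply, fib, Ideal.Quotient.mkₐ_eq_mk, Ideal.Quotient.liftₐ_apply,
          Ideal.Quotient.lift_mk, Algebra.TensorProduct.includeLeft_apply] at this ⊢
        simp [Algebra.ofId_apply, this, Algebra.smul_def]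
        exact AlgHom.commutes (Ideal.Quotient.liftₐ _ π hstab) (x r)
      · ext a
        have := hsmul 1 a
        simp only [AlgHom.comp_apply, fib, Ideal.Quotient.mkₐ_eq_mk, Ideal.Quotient.liftₐ_apply,
          Ideal.Quotient.lift_mk, Algebra.TensorProduct.includeRight_apply, AlgHom.coe_restrictScalars'] at this ⊢
        simp [this]
    intro c hc
    have h1 := AlgHom.congr_fun h c
    rw [AlgHom.comp_apply, RingHom.mem_ker.1 hc, map_zero] at h1
    exact Ideal.Quotient.eq_zero_iff_mem.1 h1.symm
  haveI : IsArtinianRing (A ⧸ GLin.stabIdeal k A x) := isArtinian_of_tower k inferInstance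
  refine Algebra.QuasiFiniteAt.of_isOpen_singleton_fiber q ?_
  set F := PrimeSpectrum.comap (algebraMap R (StabAlg k A R)) ⁻¹' {q.comap (algebraMap R (StabAlg k A R))}
  have hqx : q.comap (algebraMap R (StabAlg k A R)) = ptPrime x := by
    refine PrimeSpectrum.ext (Ideal.ext fun r => ?_)
    simp [hq, unitPt, ptPrime, RingHom.mem_ker]
  have hFK : ∀ P ∈ F, K ≤ P.asIdeal := fun P hP => by
    rw [Ideal.map_le_iff_le_comap]
    exact le_of_eq (congrArg PrimeSpectrum.asIdeal ((Set.mem_singleton_iff.1 hP).trans hqx)).symm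
  have hFfin : F.Finite := by
    refine Set.Finite.subset (Set.finite_range
      (PrimeSpectrum.comap (fib (A := A) x).toRingHom)) fun P hP => ?_
    rw [range_comap_of_surjective _ _ (fib_surjective x)]
    exact hfibK.trans (hFK P hP)
  haveI : Finite F := hFfin.to_subtype
  haveI : T1Space F := ⟨fun P => by
    rw [Topology.IsEmbedding.subtypeVal.isClosed_iff]
    refine ⟨{P.1}, (PrimeSpectrum.isClosed_singleton_iff_isMaximal _).2 ?_, by ext; simp [Subtype.ext_iff]⟩
    have hP := hfibK.trans (hFK P.1 P.2)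
    haveI : (P.1.asIdeal.map (fib (A := A) x)).IsPrime :=
      Ideal.map_isPrime_of_surjective (fib_surjective x) hP
    have hmax : (P.1.asIdeal.map (fib (A := A) x)).IsMaximal := IsArtinianRing.isMaximal_of_isPrime _
    have hc := Ideal.comap_isMaximal_of_surjective (fib (A := A) x) (fib_surjective x)
      (K := P.1.asIdeal.map (fib (A := A) x))
    rwa [Ideal.comap_map_of_surjective' _ (fib_surjective x), sup_eq_left.2 hP] at hc⟩
  exact isOpen_discrete _

theorem hasFiniteStab_of_qf (x : R →ₐ[k] k)
    (hq : Algebra.QuasiFiniteAt R (unitPt k A R (ptPrime x)).asIdeal) : GLin.HasFiniteStab k A x := by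
  classical
  haveI : IsNoetherianRing A := Algebra.FiniteType.isNoetherianRing k A
  set I := GLin.stabIdeal k A x with hI
  have hmin : ∀ P : Ideal A, P.IsPrime → I ≤ P → P ≤ RingHom.ker (Bialgebra.counitAlgHom k A) →
      RingHom.ker (Bialgebra.counitAlgHom k A) ≤ P := by
    intro P hP hIP hPε
    haveI : (P.map (Ideal.Quotient.mk I)).IsPrime :=
      Ideal.map_isPrime_of_surjective Ideal.Quotient.mk_surjective (by rwa [Ideal.mk_ker])
    have hcm : (P.map (Ideal.Quotient.mk I)).comap (Ideal.Quotient.mk I) = P := by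
      rw [Ideal.comap_map_of_surjective' _ Ideal.Quotient.mk_surjective, Ideal.mk_ker, sup_eq_left.2 hIP]
    set P' : Ideal (StabAlg k A R) := (P.map (Ideal.Quotient.mk I)).comap (fib x) with hP'
    haveI : P'.IsPrime := Ideal.comap_isPrime _ _
    have hle : P' ≤ (unitPt k A R (ptPrime x)).asIdeal := fun c hc => by
      obtain ⟨a, ha⟩ := Ideal.Quotient.mk_surjective (fib x c)
      have haP : a ∈ P := by rw [← hcm, Ideal.mem_comap, ha]; exact hc
      exact (counit_fib x c a ha).symm.trans (hPε haP)
    have hunder : P'.under R = (unitPt k A R (ptPrime x)).asIdeal.under R := by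
      refine le_antisymm (Ideal.comap_mono hle) fun r hr => ?_
      have hxr : x r = 0 := by simpa [unitPt, ptPrime, RingHom.mem_ker] using hr
      have h0 : fib (A := A) x (algebraMap R (StabAlg k A R) r) = 0 := by
        change fib (A := A) x (Ideal.Quotient.mk _ (r ⊗ₜ[k] (1 : A))) = 0
        simp [fib, hxr]
      change fib x (algebraMap R (StabAlg k A R) r) ∈ P.map (Ideal.Quotient.mk I)
      rw [h0]; exact zero_mem _
    haveI := hq
    have heq := Algebra.QuasiFiniteAt.eq_of_le_of_under_eq (R := R) hle hunder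
    intro a ha
    obtain ⟨c, hc⟩ := fib_surjective x (Ideal.Quotient.mk I a)
    have h1 : c ∈ P' := heq ▸ ((counit_fib x c a hc.symm).symm.trans ha : x (sec k A R c) = 0)
    rw [← hcm, Ideal.mem_comap, ← hc]
    exact h1
  haveI : IsJacobsonRing A := isJacobsonRing_of_finiteType (A := k)
  haveI : Ring.KrullDimLE 0 (A ⧸ I) := Ring.KrullDimLE.mk₀ fun P hP => by
    obtain ⟨g, hg⟩ := exists_pt (k := k) (R := A) (I := P.comap (Ideal.Quotient.mk I))
      (Ideal.comap_ne_top _ hP.ne_top)
    have hgI : I ≤ RingHom.ker g := le_trans (fun a ha => by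
      rw [Ideal.mem_comap, Ideal.Quotient.eq_zero_iff_mem.2 ha]; exact zero_mem _) hg
    have hgstab := (stabilizer_le_iff x g).1 hgI
    -- translation by the inverse of `g`
    let g' : A →ₐ[k] k := invPt g
    have hg'stab : ∀ f : R, x (HopfRep.Comod.act k A R g' f) = x f := fun f => by
      rw [act_eq_dact, ← actPt_apply]
      have h1 : GLin.actPt k g x = x := AlgHom.ext fun f => by
        rw [actPt_apply, ← act_eq_dact]; exact hgstab f
      exact congrArg (fun z : R →ₐ[k] k => z f) ((congrArg (GLin.actPt k g') h1).symm.trans (actPt_invPt_actPt g x))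
    let σ := Groth.Agent.Lib.Comod.Cartier.trans g'
    have hσI : I ≤ I.comap σ := by
      rw [hI, GLin.stabIdeal, Ideal.map_le_iff_le_comap]
      intro r hr
      simp only [Ideal.mem_comap, σ, Groth.Agent.Lib.Comod.Cartier.trans_apply]
      refine Set.mem_of_eq_of_mem (map_dact (isComodHom_orbitHom x) g'.toLinearMap r).symm ?_
      refine Ideal.mem_map_of_mem _ ?_
      rw [RingHom.mem_ker]
      exact (hg'stab r).trans hr
    haveI : ((P.comap (Ideal.Quotient.mk I)).comap σ).IsPrime := Ideal.comap_isPrime _ _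
    have hQ := hmin ((P.comap (Ideal.Quotient.mk I)).comap σ) inferInstance
      (hσI.trans (Ideal.comap_mono fun a ha => by
        rw [Ideal.mem_comap, Ideal.Quotient.eq_zero_iff_mem.2 ha]; exact zero_mem _))
      (fun a ha => by
        have h1 : g (σ a) = 0 := hg ha
        rw [Groth.Agent.Lib.Comod.Cartier.trans_apply, ← mulPt_apply, mulPt_invPt] at h1
        exact h1)
    have hker : RingHom.ker g ≤ P.comap (Ideal.Quotient.mk I) := fun a ha => by
      have h2 : Groth.Agent.Lib.Comod.Cartier.trans g a ∈ RingHom.ker (Bialgebra.counitAlgHom k A) :=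
        (Groth.Agent.Lib.Comod.Cartier.counit_trans g a).trans ha
      have h3 := hQ h2
      rw [Ideal.mem_comap, Groth.Agent.Lib.Comod.Cartier.trans_invPt] at h3
      exact h3
    have hmax : (P.comap (Ideal.Quotient.mk I)).IsMaximal := le_antisymm hg hker ▸
      RingHom.ker_isMaximal_of_surjective g fun c => ⟨algebraMap k A c, AlgHom.commutes g c⟩
    rw [← Ideal.map_comap_of_surjective _ Ideal.Quotient.mk_surjective P]
    exact (Ideal.map_eq_top_or_isMaximal_of_surjective _ Ideal.Quotient.mk_surjective hmax).resolve_left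
      (fun h => hP.ne_top (by rwa [Ideal.map_comap_of_surjective _ Ideal.Quotient.mk_surjective] at h))
  haveI : IsArtinianRing (A ⧸ I) := isArtinianRing_iff_isNoetherianRing_krullDimLE_zero.2 ⟨inferInstance, ‹_›⟩
  exact (Module.finite_iff_isArtinianRing k (A ⧸ I)).2 ‹_›

/-- Near a stable point there is an invariant function whose non-vanishing locus is stable. -/
theorem exists_invariant_stable [IsReduced A] [Algebra.FiniteType k R]
    (hG : HopfRep.IsLinearlyReductive k A) (x : R →ₐ[k] k) (hx : GLin.IsClosedOrbit k A x)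
    (hfin : GLin.HasFiniteStab k A x) :
    ∃ f ∈ GLin.invariants k A R, x f ≠ 0 ∧
      ∀ z : R →ₐ[k] k, z f ≠ 0 → GLin.IsClosedOrbit k A z ∧ GLin.HasFiniteStab k A z := by
  let U : Set (PrimeSpectrum R) := {p | Algebra.QuasiFiniteAt R (unitPt k A R p).asIdeal}
  have hU : IsOpen U := by
    rw [isOpen_iff_forall_mem_open]
    intro p hp
    obtain ⟨r, hr, hqf⟩ := exists_qf_nhd (unitPt k A R p).asIdeal hp
    exact ⟨(PrimeSpectrum.basicOpen (sec k A R r) : Set (PrimeSpectrum R)),
      fun q hq => hqf _ hq, (PrimeSpectrum.basicOpen _).2, hr⟩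
  obtain ⟨a, ha⟩ := (PrimeSpectrum.isClosed_iff_zeroLocus_ideal Uᶜ).1 hU.isClosed_compl
  have hmem : ∀ z : R →ₐ[k] k, a ≤ RingHom.ker z ↔ ¬ GLin.HasFiniteStab k A z := fun z => by
    have h1 : a ≤ RingHom.ker z ↔ ptPrime z ∈ Uᶜ := by rw [ha]; rfl
    rw [h1, Set.mem_compl_iff]
    exact not_congr ⟨hasFiniteStab_of_qf z, qf_of_hasFiniteStab z⟩
  let N : Ideal R := ⨅ z : {z : R →ₐ[k] k // ¬ GLin.HasFiniteStab k A z}, orbitKer (A := A) z.1
  have hN : HopfRep.IsSubcomod (k := k) (A := A) (N.restrictScalars k) := by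
    rw [show N.restrictScalars k = ⨅ z : {z : R →ₐ[k] k // ¬ GLin.HasFiniteStab k A z},
      (orbitKer (A := A) z.1).restrictScalars k from Submodule.restrictScalars_iInf ..]
    exact isSubcomod_iInf fun z => isSubcomod_orbitKer _
  have hle : a ≤ N := le_iInf fun z f hf => by
    refine RingHom.mem_ker.2 (IsNilpotent.eq_zero
      (Groth.Agent.Lib.Comod.Orbits2.isNilpotent_of_forall_pt (k := k) fun g => ?_))
    exact (hmem (GLin.actPt k g z.1)).2 (fun h => z.2
      (hasFiniteStab_of_inOrbit (InOrbit.symm ⟨g, rfl⟩) h)) hf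
  have htop : orbitKer (A := A) x ⊔ N = ⊤ := by
    by_contra hne
    obtain ⟨w, hw⟩ := exists_pt (k := k) hne
    exact (hmem w).1 (hle.trans (le_sup_right.trans hw))
      (hasFiniteStab_of_inOrbit (inOrbit_of_isClosedOrbit hx (le_sup_left.trans hw)) hfin)
  obtain ⟨f, hf, hfN, hfx⟩ := exists_invariant_separating hG hN (isSubcomod_orbitKer x) ((sup_comm N (orbitKer (A := A) x)).trans htop)
  refine ⟨f, hf, ?_, fun z hz => ?_⟩
  · have h1 : x (f - 1) = 0 := orbitKer_le_ker x hfx
    rw [map_sub, map_one, sub_eq_zero] at h1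
    rw [h1]; exact one_ne_zero
  have hfib : ∀ w : R →ₐ[k] k, w f ≠ 0 → GLin.HasFiniteStab k A w := fun w hw => by
    by_contra hcon
    exact hw (orbitKer_le_ker w ((iInf_le (fun z : {z : R →ₐ[k] k // ¬ GLin.HasFiniteStab k A z} =>
      orbitKer (A := A) z.1) ⟨w, hcon⟩) hfN))
  obtain ⟨y, hy, hzy, hinv⟩ := Groth.Agent.Lib.Comod.Orbits2.exists_isClosedOrbit (A := A) z
  have h1 : InOrbit A z y := inOrbit_of_hasFiniteStab (hzy.trans (orbitKer_le_ker y))
    (hfib y (by rwa [hinv f hf]))
  refine ⟨isClosedOrbit_of_forall fun w hw => ?_, hfib z hz⟩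
  exact h1.trans (inOrbit_of_isClosedOrbit hy (h1.orbitKer_eq ▸ hw))

end

end Groth.Agent.H60.StabLocus
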