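import Groth.Agent.H60.SLApp

/-!
# Plane quartics
-/

set_option autoImplicit false
universe u
open MvPolynomial
open Groth.Agent.H60.FormSubst Groth.Agent.H60.SLHM Groth.Agent.H60.SLApp
namespace Groth.Agent.H60.QuarticCrit

noncomputable section

variable {k : Type u} [Field k]

/-- The exponent `(4 - i - j, i, j)`. -/
def idx (i j : ℕ) : Fin 3 →₀ ℕ := Finsupp.single 0 (4 - i - j) + Finsupp.single 1 i + Finsupp.single 2 j

theorem idx_eq {e : Fin 3 →₀ ℕ} (he : e.degree = 4) : e = idx (e 1) (e 2) := by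
  rw [degree_eq_sum, Fin.sum_univ_three] at he
  ext l
  fin_cases l <;> simp [idx] <;> omega

theorem dest_iff (a : CoordGrp.FormIdx 3 4 → k) :
    Dest a ↔ ∃ M : Matrix (Fin 3) (Fin 3) k, M.det = 1 ∧
      (∀ ij : ℕ × ℕ, ij ∈ ({(0, 0), (1, 0), (0, 1), (2, 0), (1, 1)} : Finset (ℕ × ℕ)) →
        (sub M (CoordGrp.formPoly a)).coeff (idx ij.1 ij.2) = 0) ∧
      ((sub M (CoordGrp.formPoly a)).coeff (idx 0 2) = 0 ∨ (sub M (CoordGrp.formPoly a)).coeff (idx 3 0) = 0) := by
  constructor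
  · rintro ⟨M₁, r₁, hM₁, hr₁0, hr₁, hw₁⟩
    obtain ⟨M, r, hM, hmono, hr0, hr, hw⟩ := exists_sorted (0 ≤ ·) hM₁ hr₁0 hr₁ hw₁
    have h01 : r 0 ≤ r 1 := hmono (by decide)
    have h12 : r 1 ≤ r 2 := hmono (by decide)
    rw [Fin.sum_univ_three] at hr
    have hneg : r 0 < 0 := by
      by_contra hc
      refine hr0 (funext fun i => ?_)
      fin_cases i <;> simp <;> omega
    have hzero : ∀ i j, wt r (idx i j) < 0 → (sub M (CoordGrp.formPoly a)).coeff (idx i j) = 0 := fun i j h => by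
      by_contra hne
      exact absurd (hw _ hne) (not_le.2 h)
    refine ⟨M, hM, fun ij hij => hzero _ _ ?_, ?_⟩
    · simp only [Finset.mem_insert, Finset.mem_singleton] at hij
      rcases hij with rfl | rfl | rfl | rfl | rfl <;> simp [idx, wt_add, wt_single] <;> omega
    · by_cases h : 0 < r 1
      · left; refine hzero _ _ ?_; simp [idx, wt_add, wt_single]; omega
      · right; refine hzero _ _ ?_; simp [idx, wt_add, wt_single]; omega
  · rintro ⟨M, hM, hz, hor⟩
    have hcase : ∀ e : Fin 3 →₀ ℕ, (sub M (CoordGrp.formPoly a)).coeff e ≠ 0 → e 0 + e 1 + e 2 = 4 ∧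
        ¬ (e 1 = 0 ∧ e 2 = 0) ∧ ¬ (e 1 = 1 ∧ e 2 = 0) ∧ ¬ (e 1 = 0 ∧ e 2 = 1) ∧ ¬ (e 1 = 2 ∧ e 2 = 0) ∧
        ¬ (e 1 = 1 ∧ e 2 = 1) := fun e he => by
      have hdeg := exists_idx (isHomogeneous_sub M (isHomogeneous_formPoly a)) he
      have hne : ∀ i j : ℕ, (i, j) ∈ ({(0, 0), (1, 0), (0, 1), (2, 0), (1, 1)} : Finset (ℕ × ℕ)) → ¬ (e 1 = i ∧ e 2 = j) := by
        rintro i j hij ⟨rfl, rfl⟩
        refine he ?_
        rw [idx_eq hdeg]
        exact hz (e 1, e 2) hij
      refine ⟨?_, hne 0 0 (by simp), hne 1 0 (by simp), hne 0 1 (by simp), hne 2 0 (by simp), hne 1 1 (by simp)⟩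
      rwa [degree_eq_sum, Fin.sum_univ_three] at hdeg
    rcases hor with h | h
    · refine ⟨M, ![-2, 1, 1], hM, fun h => by simpa using congrFun h 1, by simp [Fin.sum_univ_three], fun e he => ?_⟩
      have hc := hcase e he
      have hne : ¬ (e 1 = 0 ∧ e 2 = 2) := fun h' => he (by
        rw [idx_eq (exists_idx (isHomogeneous_sub M (isHomogeneous_formPoly a)) he), h'.1, h'.2]; exact h)
      simp [wt, Fin.sum_univ_three]
      omega
    · refine ⟨M, ![-1, 0, 1], hM, fun h => by simpa using congrFun h 2, by simp [Fin.sum_univ_three], fun e he => ?_⟩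
      have hc := hcase e he
      have hne : ¬ (e 1 = 3 ∧ e 2 = 0) := fun h' => he (by
        rw [idx_eq (exists_idx (isHomogeneous_sub M (isHomogeneous_formPoly a)) he), h'.1, h'.2]; exact h)
      simp [wt, Fin.sum_univ_three]
      omega

end

end Groth.Agent.H60.QuarticCrit
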