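import Groth.Agent.H60.TorsorQuot
import Groth.Agent.Lib.GrpSch.Basic
import Mathlib.AlgebraicGeometry.EffectiveEpi
import Mathlib.AlgebraicGeometry.Morphisms.SchemeTheoreticallyDominant

/-!
Geometric quotients with quasi-compact quotient map descend along faithfully flat quasi-compact
morphisms of the base.
-/

set_option autoImplicit false
set_option backward.isDefEq.respectTransparency false
set_option backward.isDefEq.respectTransparency.types false

universe u

open CategoryTheory CategoryTheory.Limits AlgebraicGeometry MonoidalCategory CartesianMonoidalCategory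
open Groth.Agent.Lib Groth.Agent.H60.TorsorQuot

namespace Groth.Agent.H60.QuotDescent

variable {S : Scheme.{u}} {G X Y : Over S} [GrpObj G]

/-- Invariance of a section in terms of morphisms to the affine line. -/
theorem isInvSection_iff (a : AlgGrp.Action G X) (φ : X ⟶ Y) (U : Y.left.Opens)
    (m : (φ.left ⁻¹ᵁ U).toScheme ⟶ Spec A.{u}) :
    GIT.IsInvSection a φ U ((φ.left ⁻¹ᵁ U).topIso.hom (fn m)) ↔
      a.act.left.resLE (φ.left ⁻¹ᵁ U)
          (a.act.left ⁻¹ᵁ (φ.left ⁻¹ᵁ U) ⊓ (snd G X).left ⁻¹ᵁ (φ.left ⁻¹ᵁ U)) inf_le_left ≫ m =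
        (snd G X).left.resLE (φ.left ⁻¹ᵁ U)
          (a.act.left ⁻¹ᵁ (φ.left ⁻¹ᵁ U) ⊓ (snd G X).left ⁻¹ᵁ (φ.left ⁻¹ᵁ U)) inf_le_right ≫ m := by
  constructor
  · intro h
    refine fn_injective ?_
    rw [fn_comp_resLE, fn_comp_resLE]
    exact congrArg _ h
  · intro h
    have h' := congrArg fn h
    rw [fn_comp_resLE, fn_comp_resLE] at h'
    have h'' := congrArg (Scheme.Opens.topIso _).hom h'
    simp only [← ConcreteCategory.comp_apply, Category.assoc, Iso.inv_hom_id, Category.comp_id] at h''
    exact h''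

variable {X' Y' : Over S} (a : AlgGrp.Action G X) (φ : X ⟶ Y) (hinv : GIT.IsInvariant a φ)
  (α : Y' ⟶ Y) [Flat α.left] [Surjective α.left] [QuasiCompact α.left]
  (pr : X' ⟶ X) (φ' : X' ⟶ Y') (hpb : IsPullback pr φ' φ α)
  (a' : AlgGrp.Action G X') (heq : a'.act ≫ pr = (G ◁ pr) ≫ a.act)
  (h : GIT.IsGeomQuot a' φ') [QuasiCompact φ.left]

include hinv hpb heq h

/-- Geometric quotients descend along faithfully flat quasi-compact morphisms. -/
theorem isGeomQuot : GIT.IsGeomQuot a φ := by
  have sq : IsPullback pr.left φ'.left φ.left α.left := hpb.map (Over.forget S)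
  have hqc' : QuasiCompact φ'.left := MorphismProperty.of_isPullback sq ‹_›
  have hsurj : Surjective φ'.left := ⟨h.surj⟩
  refine ⟨hinv, fun y ↦ ?_, fun z ↦ ?_, ?_, fun U ↦ ?_⟩
  · obtain ⟨y', rfl⟩ := α.left.surjective y
    obtain ⟨x', rfl⟩ := h.surj y'
    exact ⟨pr.left x', by rw [← Scheme.Hom.comp_apply, sq.w, Scheme.Hom.comp_apply]⟩
  · let fz := pullback.fst φ.left φ.left
    let sz := pullback.snd φ.left φ.left
    let w₁ := pullback.fst (fz ≫ φ.left) α.left
    let w₂ := pullback.snd (fz ≫ φ.left) α.left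
    have hw : (w₁ ≫ fz) ≫ φ.left = w₂ ≫ α.left := by rw [Category.assoc]; exact pullback.condition
    have hw' : (w₁ ≫ sz) ≫ φ.left = w₂ ≫ α.left := by
      rw [Category.assoc, ← pullback.condition (f := φ.left) (g := φ.left), ← Category.assoc]; exact hw
    let m : pullback (fz ≫ φ.left) α.left ⟶ pullback φ'.left φ'.left :=
      pullback.lift (sq.lift _ _ hw) (sq.lift _ _ hw') (by rw [sq.lift_snd, sq.lift_snd])
    have : Surjective w₁ := MorphismProperty.pullback_fst _ _ ‹_›
    obtain ⟨w, rfl⟩ := w₁.surjective z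
    obtain ⟨p, hp⟩ := h.orbit (m w)
    refine ⟨(G ◁ pr).left p, ?_⟩
    let Q : pullback φ'.left φ'.left ⟶ pullback φ.left φ.left :=
      pullback.lift (pullback.fst _ _ ≫ pr.left) (pullback.snd _ _ ≫ pr.left) (by
        simp only [Category.assoc, sq.w]; exact pullback.condition_assoc _)
    have e1 : (G ◁ pr).left ≫ GIT.PsiY a φ hinv = GIT.PsiY a' φ' h.inv ≫ Q := by
      refine pullback.hom_ext ?_ ?_
      · simp only [Category.assoc, GIT.PsiY, Q, pullback.lift_fst, pullback.lift_fst_assoc]
        rw [← Over.comp_left, ← heq, Over.comp_left]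
      · simp only [Category.assoc, GIT.PsiY, Q, pullback.lift_snd, pullback.lift_snd_assoc]
        rw [← Over.comp_left, whiskerLeft_snd, Over.comp_left]
    have e2 : m ≫ Q = w₁ := by
      refine pullback.hom_ext ?_ ?_ <;>
        simp [m, Q, fz, sz, IsPullback.lift_fst, pullback.lift_fst_assoc, pullback.lift_snd_assoc]
    rw [← Scheme.Hom.comp_apply, e1, Scheme.Hom.comp_apply, hp, ← Scheme.Hom.comp_apply, e2]
  · intro X₂ Y₂ i₁ i₂ f hf
    -- base change both `φ` and `α` to `Y₂`
    let β := pullback.fst i₂ α.left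
    let γ := pullback.snd i₂ α.left
    let P := pullback f β
    have sqP : IsPullback (pullback.snd f β) (pullback.fst f β ≫ i₁) (β ≫ i₂) φ.left :=
      (IsPullback.of_hasPullback f β).flip.paste_vert hf
    rw [show β ≫ i₂ = γ ≫ α.left from pullback.condition] at sqP
    have hP : IsPullback (sq.lift (pullback.fst f β ≫ i₁) (pullback.snd f β ≫ γ)
        (by rw [Category.assoc]; exact sqP.w.symm)) (pullback.snd f β) φ'.left γ :=
      IsPullback.of_right (h₁₂ := pr.left) (h₂₂ := α.left) (v₁₃ := φ.left)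
        (by rw [sq.lift_fst]; exact sqP.flip) (sq.lift_snd _ _ _) sq
    have h1 : Topology.IsQuotientMap (pullback.snd f β) := h.subm _ _ _ hP.flip
    have : Flat β := MorphismProperty.pullback_fst _ _ ‹_›
    have : Surjective β := MorphismProperty.pullback_fst _ _ ‹_›
    have : QuasiCompact β := MorphismProperty.pullback_fst _ _ ‹_›
    have h2 : Topology.IsQuotientMap (pullback.snd f β ≫ β) :=
      (Flat.isQuotientMap_of_surjective β).comp h1
    rw [← pullback.condition] at h2
    exact Topology.IsQuotientMap.of_comp (pullback.fst f β).continuous f.continuous h2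
  · let U' : Y'.left.Opens := α.left ⁻¹ᵁ U
    let W : X.left.Opens := φ.left ⁻¹ᵁ U
    let W' : X'.left.Opens := φ'.left ⁻¹ᵁ U'
    have hWW : W' ≤ pr.left ⁻¹ᵁ W := fun x hx ↦ by
      change φ.left (pr.left x) ∈ U
      rw [← Scheme.Hom.comp_apply, sq.w]
      exact hx
    let q : W.toScheme ⟶ U.toScheme := φ.left.resLE U W le_rfl
    let q' : W'.toScheme ⟶ U'.toScheme := φ'.left.resLE U' W' le_rfl
    let α' : U'.toScheme ⟶ U.toScheme := α.left.resLE U U' le_rfl
    let prW : W'.toScheme ⟶ W.toScheme := pr.left.resLE W W' hWW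
    have sqq : IsPullback W.ι q φ.left U.ι := by
      simp only [q, W, Scheme.Hom.resLE_eq_morphismRestrict]
      exact (isPullback_morphismRestrict φ.left U).flip
    have sqq' : IsPullback W'.ι q' φ'.left U'.ι := by
      simp only [q', W', Scheme.Hom.resLE_eq_morphismRestrict]
      exact (isPullback_morphismRestrict φ'.left U').flip
    have hαι : α' ≫ U.ι = U'.ι ≫ α.left := Scheme.Hom.resLE_comp_ι _ _
    have hprι : prW ≫ W.ι = W'.ι ≫ pr.left := Scheme.Hom.resLE_comp_ι _ _
    have hcomm : prW ≫ q = q' ≫ α' := by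
      rw [← cancel_mono U.ι, Category.assoc, Category.assoc, hαι, ← sqq.w, reassoc_of% hprι, sq.w,
        ← reassoc_of% sqq'.w]
    have sqW : IsPullback prW q' q α' := by
      refine IsPullback.of_right ?_ hcomm sqq
      rw [hprι, hαι]
      exact sqq'.paste_horiz sq
    have : IsSchemeTheoreticallyDominant φ'.left := by
      refine ⟨Scheme.IdealSheafData.ext ?_⟩
      funext V
      rw [Scheme.Hom.ker_apply, Scheme.IdealSheafData.ideal_bot, Pi.bot_apply]
      exact (RingHom.injective_iff_ker_eq_bot _).1 (h.sections V.1).1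
    have : IsSchemeTheoreticallyDominant q' := .of_isPullback sqq'
    have : QuasiCompact q' := MorphismProperty.of_isPullback sqq' hqc'
    have hαsq : IsPullback U'.ι α' α.left U.ι := by
      simp only [α', U', Scheme.Hom.resLE_eq_morphismRestrict]
      exact (isPullback_morphismRestrict α.left U).flip
    have : Flat α' := MorphismProperty.of_isPullback hαsq ‹_›
    have : Surjective α' := MorphismProperty.of_isPullback hαsq ‹_›
    have : QuasiCompact α' := MorphismProperty.of_isPullback hαsq ‹_›
    have : Flat prW := MorphismProperty.of_isPullback sqW.flip ‹_›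
    have : Surjective prW := MorphismProperty.of_isPullback sqW.flip ‹_›
    have : QuasiCompact prW := MorphismProperty.of_isPullback sqW.flip ‹_›
    have hdom : ∀ {T T' : Scheme.{u}} (d : T' ⟶ T) [IsSchemeTheoreticallyDominant d] [QuasiCompact d]
        (u v : T ⟶ Spec A.{u}), d ≫ u = d ≫ v → u = v := fun {T T'} d _ _ u v e ↦
      fn_injective (Scheme.Hom.app_injective d ⊤ (by
        have := congrArg fn e
        rwa [fn_comp, fn_comp] at this))
    have hfn : ∀ m : U.toScheme ⟶ Spec A.{u},
        W.topIso.hom (fn (q ≫ m)) = φ.left.app U (U.topIso.hom (fn m)) := fun m ↦ by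
      rw [fn_comp_resLE, ← ConcreteCategory.comp_apply, Iso.inv_hom_id, ConcreteCategory.id_apply,
        Scheme.Hom.app_eq_appLE]
    have hfn' : ∀ m : U'.toScheme ⟶ Spec A.{u},
        W'.topIso.hom (fn (q' ≫ m)) = φ'.left.app U' (U'.topIso.hom (fn m)) := fun m ↦ by
      rw [fn_comp_resLE, ← ConcreteCategory.comp_apply, Iso.inv_hom_id, ConcreteCategory.id_apply,
        Scheme.Hom.app_eq_appLE]
    have hinj : ∀ {O : Scheme.{u}} {V : O.Opens} {u v : Γ(V.toScheme, ⊤)},
        V.topIso.hom u = V.topIso.hom v → u = v := fun {O V u v} e ↦ by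
      have e' := congrArg V.topIso.inv e
      simpa only [← ConcreteCategory.comp_apply, Iso.hom_inv_id, ConcreteCategory.id_apply] using e'
    have hmk : ∀ {O : Scheme.{u}} {V : O.Opens} (b : Γ(O, V)),
        ∃ m : V.toScheme ⟶ Spec A.{u}, V.topIso.hom (fn m) = b := fun {O V} b ↦ by
      obtain ⟨m, hm⟩ := fn_surjective (V.topIso.inv b)
      exact ⟨m, by rw [hm, ← ConcreteCategory.comp_apply, Iso.inv_hom_id]; rfl⟩
    refine ⟨fun b₁ b₂ hb ↦ ?_, Set.Subset.antisymm ?_ fun f hf ↦ ?_⟩
    · obtain ⟨m₁, rfl⟩ := hmk b₁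
      obtain ⟨m₂, rfl⟩ := hmk b₂
      rw [← hfn, ← hfn] at hb
      have e : q ≫ m₁ = q ≫ m₂ := fn_injective (hinj hb)
      have e' : α' ≫ m₁ = α' ≫ m₂ := hdom q' _ _ (by rw [← reassoc_of% hcomm, e, reassoc_of% hcomm])
      rw [(cancel_epi α').1 e']
    · rintro _ ⟨b, rfl⟩
      change _ = _
      rw [← ConcreteCategory.comp_apply, ← ConcreteCategory.comp_apply, Scheme.Hom.app_eq_appLE,
        Scheme.Hom.appLE_comp_appLE, Scheme.Hom.appLE_comp_appLE]
      simp only [hinv.left]
    · obtain ⟨m, rfl⟩ := hmk f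
      have hf' := (isInvSection_iff a φ U m).1 hf
      have hinv' : GIT.IsInvSection a' φ' U' (W'.topIso.hom (fn (prW ≫ m))) := by
        refine (isInvSection_iff a' φ' U' _).2 ?_
        let O := a.act.left ⁻¹ᵁ W ⊓ (snd G X).left ⁻¹ᵁ W
        let O' := a'.act.left ⁻¹ᵁ W' ⊓ (snd G X').left ⁻¹ᵁ W'
        have hO : O' ≤ (G ◁ pr).left ⁻¹ᵁ O := fun x hx ↦ by
          refine ⟨?_, ?_⟩
          · change a.act.left ((G ◁ pr).left x) ∈ W
            rw [← Scheme.Hom.comp_apply, ← Over.comp_left, ← heq]
            exact hWW hx.1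
          · change (snd G X).left ((G ◁ pr).left x) ∈ W
            rw [← Scheme.Hom.comp_apply, ← Over.comp_left, whiskerLeft_snd]
            exact hWW hx.2
        have f1 : a'.act.left.resLE W' O' inf_le_left ≫ prW =
            (G ◁ pr).left.resLE O O' hO ≫ a.act.left.resLE W O inf_le_left := by
          simp only [prW, Scheme.Hom.resLE_comp_resLE]
          simp only [← Over.comp_left, heq]
        have f2 : (snd G X').left.resLE W' O' inf_le_right ≫ prW =
            (G ◁ pr).left.resLE O O' hO ≫ (snd G X).left.resLE W O inf_le_right := by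
          simp only [prW, Scheme.Hom.resLE_comp_resLE]
          simp only [← Over.comp_left, whiskerLeft_snd]
        rw [reassoc_of% f1, reassoc_of% f2, hf']
      obtain ⟨b', hb'⟩ := (h.sections U').2.ge hinv'
      obtain ⟨m', rfl⟩ := hmk b'
      rw [← hfn'] at hb'
      have hm' : q' ≫ m' = prW ≫ m := fn_injective (hinj hb')
      have hcocycle : pullback.fst α' α' ≫ m' = pullback.snd α' α' ≫ m' := by
        let p₁ := pullback.fst α' α'
        let p₂ := pullback.snd α' α'
        have : Flat p₁ := MorphismProperty.pullback_fst _ _ ‹_›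
        let r := pullback.fst q' p₁
        have hr : (r ≫ prW) ≫ q = (pullback.snd q' p₁ ≫ p₂) ≫ α' := by
          rw [Category.assoc, hcomm, Category.assoc, ← pullback.condition (f := α') (g := α'),
            ← Category.assoc, ← Category.assoc, pullback.condition]
        refine hdom (pullback.snd q' p₁) _ _ ?_
        rw [← reassoc_of% (pullback.condition (f := q') (g := p₁)), hm', ← Category.assoc (pullback.snd q' p₁),
          ← sqW.lift_snd _ _ hr, Category.assoc, hm', sqW.lift_fst_assoc, Category.assoc]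
      let χ : U.toScheme ⟶ Spec A.{u} := EffectiveEpi.desc α' m' fun {T} g₁ g₂ hg ↦ by
        simpa [pullback.lift_fst_assoc, pullback.lift_snd_assoc] using
          congrArg (pullback.lift g₁ g₂ hg ≫ ·) hcocycle
      refine ⟨U.topIso.hom (fn χ), ?_⟩
      have hχ : α' ≫ χ = m' := EffectiveEpi.fac _ _ _
      have e : q ≫ χ = m := by
        rw [← cancel_epi prW, reassoc_of% hcomm, hχ, hm']
      rw [← hfn, e]

end Groth.Agent.H60.QuotDescent
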