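import Groth.Prelude.Def_GLin5
import Groth.Prelude.Def_GLin6
import Groth.Agent.H60.SmithVal
import Groth.Agent.H60.OrderHom
import Groth.Agent.H60.FormSubst
import Groth.Agent.H60.OrbitVal
import Groth.Agent.H60.OrbitDim
import Groth.Agent.S12559
import Groth.Agent.H60.NullCone
import Mathlib.RingTheory.FiniteType
import Mathlib.RingTheory.FinitePresentation
import Mathlib.FieldTheory.IsAlgClosed.Basic

/-!
# The numerical criterion for forms under the special linear group
-/

set_option autoImplicit false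
universe u
open TensorProduct MvPolynomial
open Groth.Agent.H60 Groth.Agent.H60.FormSubst Groth.Agent.Lib.Comod.Orbits
namespace Groth.Agent.H60.SLHM

noncomputable section

variable {k : Type u} [Field k] {n d : ℕ}

theorem prod_zpow_sum {G : Type*} [CommGroup G] {ι : Type*} (s : Finset ι) (f : ι → ℤ) (t : G) :
    ∏ i ∈ s, t ^ f i = t ^ ∑ i ∈ s, f i := by
  classical
  induction s using Finset.induction_on with
  | empty => simp
  | insert a s ha ih => rw [Finset.prod_insert ha, Finset.sum_insert ha, zpow_add, ih]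

instance : Algebra.FiniteType k (CoordGrp.SLn n k) :=
  haveI : Algebra.FiniteType k (MvPolynomial (CoordGrp.GLPoly.Idx n) k) := by
    classical
    refine ⟨⟨Finset.univ.image MvPolynomial.X, ?_⟩⟩
    rw [Finset.coe_image, Finset.coe_univ, Set.image_univ]
    exact MvPolynomial.adjoin_range_X
  haveI : Algebra.FiniteType k (CoordGrp.GLb n k) :=
    inferInstanceAs (Algebra.FiniteType k (MvPolynomial (CoordGrp.GLPoly.Idx n) k))
  Algebra.FiniteType.of_surjective
    ((CoordGrp.SLn.mk n k).comp (CoordGrp.GLn.mk n k))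
    (Ideal.Quotient.mk_surjective.comp Ideal.Quotient.mk_surjective)

/-- The action of `SL_n` on forms. -/
@[reducible] def slComod (k : Type u) [Field k] (n d : ℕ) :
    HopfRep.Comod k (CoordGrp.SLn n k) (CoordGrp.FormRing k n d) :=
  GLin.comodAlong ((CoordGrp.SLn.mkHom n k).comp (CoordGrp.Mat.toGLn n k)) (CoordGrp.formsCoact k n d)

theorem slCoactAlg (k : Type u) [Field k] (n d : ℕ) :
    @GLin.IsCoactAlg k _ (CoordGrp.SLn n k) _ _ (CoordGrp.FormRing k n d) _ _ (slComod k n d) :=
  GLin.isCoactAlg_comodAlong ((CoordGrp.SLn.mkHom n k).comp (CoordGrp.Mat.toGLn n k)) (CoordGrp.formsCoact k n d)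
    (CoordGrp.formsCoact_isCoactAlg k n d)

attribute [local instance] slComod slCoactAlg

local notation "SL" => CoordGrp.SLn n k

/-- The matrix of a point of `SL_n`. -/
def slMat {B : Type u} [CommRing B] [Algebra k B] (χ : SL →ₐ[k] B) : Matrix (Fin n) (Fin n) B :=
  fun i j => χ (CoordGrp.SLn.X i j)

theorem slMat_det {B : Type u} [CommRing B] [Algebra k B] (χ : SL →ₐ[k] B) : (slMat χ).det = 1 := by
  have h := congrArg χ (CoordGrp.SLn.det_eq_one (n := n) (k := k))
  rw [map_one, CoordGrp.GLn.det_eq, ← AlgHom.comp_apply, AlgHom.map_det] at h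
  rw [← h]
  rfl

/-- The coordinates of a moved point. -/
def moved {B : Type u} [CommRing B] [Algebra k B] (χ : SL →ₐ[k] B) (a : CoordGrp.FormIdx n d → k) :
    CoordGrp.FormIdx n d → B :=
  fun m => χ (GLin.orbitHom k SL (GLin.vecPt k (CoordGrp.FormIdx n d) a) (MvPolynomial.X m))

theorem formPoly_moved {B : Type u} [CommRing B] [Algebra k B] (χ : SL →ₐ[k] B) (a : CoordGrp.FormIdx n d → k) :
    CoordGrp.formPoly (moved χ a) =
      sub (slMat χ) (MvPolynomial.map (algebraMap k B) (CoordGrp.formPoly a)) := by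
  let φ : CoordGrp.Mat n k →ₐ[k] SL :=
    (((CoordGrp.SLn.mkHom n k).comp (CoordGrp.Mat.toGLn n k) : CoordGrp.Mat n k →ₐc[k] SL) : CoordGrp.Mat n k →ₐ[k] SL)
  have hmat : matOf (χ.comp φ) = slMat χ := by
    ext i j
    change χ (CoordGrp.SLn.mkHom n k (CoordGrp.Mat.toGLn n k (CoordGrp.Mat.X i j))) = _
    rw [CoordGrp.Mat.toGLn_X]
    rfl
  rw [← hmat]
  refine formPoly_move (χ.comp φ) a (moved χ a) fun m => ?_
  have hco : HopfRep.Comod.coact (k := k) (A := SL) (MvPolynomial.X m : CoordGrp.FormRing k n d) =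
      ∑ l, (MvPolynomial.X l : CoordGrp.FormRing k n d) ⊗ₜ[k] φ (CoordGrp.formCoeff k n d l m) := by
    change TensorProduct.map LinearMap.id _ (CoordGrp.formsCoactAlg k n d (MvPolynomial.X m)) = _
    rw [CoordGrp.formsCoactAlg_X, map_sum]
    rfl
  simp only [moved, GLin.orbitHom, AlgHom.comp_apply, GLin.coactAlgHom_apply, hco, map_sum,
    Algebra.TensorProduct.map_tmul, MvPolynomial.aeval_X, AlgHom.id_apply]
  refine Finset.sum_congr rfl fun l _ => ?_
  change χ ((Algebra.TensorProduct.lid k SL) (a l ⊗ₜ[k] φ (CoordGrp.formCoeff k n d l m))) = _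
  rw [Algebra.TensorProduct.lid_tmul, map_smul, Algebra.smul_def]

theorem multinomial_ne_zero (hd : (d.factorial : k) ≠ 0) (m : CoordGrp.FormIdx n d) :
    (m.1.multinomial : k) ≠ 0 := by
  intro h
  apply hd
  have := Nat.multinomial_spec (s := m.1.support) (f := m.1)
  rw [show ∑ i ∈ m.1.support, m.1 i = d from m.2, ← Finsupp.multinomial_eq] at this
  rw [← this, Nat.cast_mul, h, mul_zero]

theorem formPoly_injective (hd : (d.factorial : k) ≠ 0) :
    Function.Injective (CoordGrp.formPoly : (CoordGrp.FormIdx n d → k) → MvPolynomial (Fin n) k) := by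
  intro a b h
  funext m
  have := congrArg (MvPolynomial.coeff m.1) h
  rw [CoordGrp.coeff_formPoly, CoordGrp.coeff_formPoly] at this
  exact mul_left_cancel₀ (multinomial_ne_zero hd m) this

theorem isHomogeneous_formPoly {B : Type u} [CommRing B] (a : CoordGrp.FormIdx n d → B) :
    (CoordGrp.formPoly a).IsHomogeneous d :=
  MvPolynomial.IsHomogeneous.sum _ _ _ fun m _ => MvPolynomial.isHomogeneous_monomial _ m.2

theorem exists_idx {F : MvPolynomial (Fin n) k} (hF : F.IsHomogeneous d) {e : Fin n →₀ ℕ} (he : F.coeff e ≠ 0) :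
    e.degree = d := by
  by_contra h
  exact he (hF.coeff_eq_zero h)

/-- The weight of an exponent. -/
def wt (r : Fin n → ℤ) (e : Fin n →₀ ℕ) : ℤ := ∑ i, (e i : ℤ) * r i

/-- A nontrivial one-parameter subgroup along which the form has a limit. -/
def Dest (a : CoordGrp.FormIdx n d → k) : Prop :=
  ∃ (M : Matrix (Fin n) (Fin n) k) (r : Fin n → ℤ), M.det = 1 ∧ r ≠ 0 ∧ ∑ i, r i = 0 ∧
    ∀ e : Fin n →₀ ℕ, (sub M (CoordGrp.formPoly a)).coeff e ≠ 0 → 0 ≤ wt r e

/-- A one-parameter subgroup along which the form tends to zero. -/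
def Unst (a : CoordGrp.FormIdx n d → k) : Prop :=
  ∃ (M : Matrix (Fin n) (Fin n) k) (r : Fin n → ℤ), M.det = 1 ∧ r ≠ 0 ∧ ∑ i, r i = 0 ∧
    ∀ e : Fin n →₀ ℕ, (sub M (CoordGrp.formPoly a)).coeff e ≠ 0 → 0 < wt r e

/-- Descent of a matrix from a field extension. -/
theorem descend [IsAlgClosed k] {L : Type u} [Field L] [Algebra k L] (F : MvPolynomial (Fin n) k)
    (S : Finset (Fin n →₀ ℕ)) (U : Matrix (Fin n) (Fin n) L) (hU : U.det = 1)
    (h : ∀ e ∈ S, (sub U (MvPolynomial.map (algebraMap k L) F)).coeff e = 0) :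
    ∃ M : Matrix (Fin n) (Fin n) k, M.det = 1 ∧ ∀ e ∈ S, (sub M F).coeff e = 0 := by
  classical
  let Q := MvPolynomial (Fin n × Fin n) k
  let G : Matrix (Fin n) (Fin n) Q := fun i j => MvPolynomial.X (i, j)
  let c : (Fin n →₀ ℕ) → Q := fun e => (sub G (MvPolynomial.map (algebraMap k Q) F)).coeff e
  have hev : ∀ {L' : Type u} [CommRing L'] [Algebra k L'] (U' : Matrix (Fin n) (Fin n) L') (e : Fin n →₀ ℕ),
      MvPolynomial.aeval (fun p => U' p.1 p.2) (c e) = (sub U' (MvPolynomial.map (algebraMap k L') F)).coeff e ∧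
        MvPolynomial.aeval (fun p => U' p.1 p.2) G.det = U'.det := by
    intro L' _ _ U' e
    let ev : Q →ₐ[k] L' := MvPolynomial.aeval fun p => U' p.1 p.2
    have hG : G.map ev = U' := by ext i j; exact MvPolynomial.aeval_X _ _
    refine ⟨?_, ?_⟩
    · change ev.toRingHom (c e) = _
      rw [← MvPolynomial.coeff_map, sub_map, MvPolynomial.map_map]
      rw [show G.map ev.toRingHom = U' from hG, show ev.toRingHom.comp (algebraMap k Q) = algebraMap k L' from
        RingHom.ext fun z => ev.commutes z]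
    · change ev G.det = _
      rw [AlgHom.map_det]
      exact congrArg Matrix.det hG
  let I : Ideal Q := Ideal.span ((S.image c ∪ {G.det - 1} : Finset Q) : Set Q)
  have hI : I ≤ RingHom.ker (MvPolynomial.aeval fun p : Fin n × Fin n => U p.1 p.2 : Q →ₐ[k] L) := by
    refine Ideal.span_le.2 fun q hq => ?_
    rcases Finset.mem_union.1 (Finset.mem_coe.1 hq) with hq | hq
    · obtain ⟨e, he, rfl⟩ := Finset.mem_image.1 hq
      exact (hev U e).1.trans (h e he)
    · rw [Finset.mem_singleton.1 hq, SetLike.mem_coe, RingHom.mem_ker, map_sub, map_one, (hev U 0).2, hU, sub_self]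
  obtain ⟨z, hz⟩ := exists_pt (k := k) (R := Q) (I := I) fun htop => by
    rw [htop, top_le_iff] at hI
    exact RingHom.ker_ne_top _ hI
  have hzG : (MvPolynomial.aeval fun p : Fin n × Fin n => z (MvPolynomial.X p) : Q →ₐ[k] k) = z :=
    MvPolynomial.algHom_ext fun p => MvPolynomial.aeval_X _ _
  refine ⟨fun i j => z (MvPolynomial.X (i, j)), ?_, fun e he => ?_⟩
  · have h1 : z (G.det - 1) = 0 := hz (Ideal.subset_span (by simp))
    rw [map_sub, map_one, sub_eq_zero] at h1
    rw [← (hev (L' := k) (fun i j => z (MvPolynomial.X (i, j))) 0).2, hzG]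
    exact h1
  · have h1 : z (c e) = 0 := hz (Ideal.subset_span (by
      simp only [Finset.coe_union, Finset.coe_image, Set.mem_union]
      exact Or.inl ⟨e, he, rfl⟩))
    have h2 := (hev (L' := k) (fun i j => z (MvPolynomial.X (i, j))) e).1
    rw [hzG, h1, Algebra.algebraMap_self, MvPolynomial.map_id] at h2
    exact h2.symm

theorem coeff_sub_mem {K : Type u} [Field K] (V : ValuationSubring K) (M : Matrix (Fin n) (Fin n) V)
    {F : MvPolynomial (Fin n) K} (P : Ideal V) (hF : ∀ e, ∃ c ∈ P, (c : K) = F.coeff e) (e : Fin n →₀ ℕ) :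
    ∃ c ∈ P, (c : K) = (sub (M.map V.subtype) F).coeff e := by
  classical
  choose c hcP hc using hF
  let F₀ : MvPolynomial (Fin n) V := ∑ s ∈ F.support, MvPolynomial.monomial s (c s)
  have hF₀ : MvPolynomial.map V.subtype F₀ = F := by
    simp only [F₀, map_sum, MvPolynomial.map_monomial]
    conv_rhs => rw [← MvPolynomial.support_sum_monomial_coeff F]
    exact Finset.sum_congr rfl fun s _ => by rw [show V.subtype (c s) = _ from hc s]
  refine ⟨(sub M F₀).coeff e, ?_, ?_⟩
  · have : ∀ s, F₀.coeff s ∈ P := fun s => by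
      simp only [F₀, MvPolynomial.coeff_sum, MvPolynomial.coeff_monomial]
      exact Ideal.sum_mem _ fun t _ => by split_ifs; exacts [hcP t, zero_mem _]
    have hmap : MvPolynomial.map (Ideal.Quotient.mk P) F₀ = 0 := MvPolynomial.ext _ _ fun s => by
      rw [MvPolynomial.coeff_map, MvPolynomial.coeff_zero, Ideal.Quotient.eq_zero_iff_mem.2 (this s)]
    rw [← Ideal.Quotient.eq_zero_iff_mem, ← MvPolynomial.coeff_map, sub_map, hmap, map_zero, MvPolynomial.coeff_zero]
  · change V.subtype _ = _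
    rw [← MvPolynomial.coeff_map, sub_map, hF₀]

/-- From a valuation to a one-parameter subgroup. -/
theorem of_valuation [IsAlgClosed k] {K : Type u} [Field K] [Algebra k K] (V : ValuationSubring K)
    (hk : ∀ c : k, algebraMap k K c ∈ V) (g : Matrix (Fin n) (Fin n) K) (hg : g.det = 1)
    (F : MvPolynomial (Fin n) k) (hF : F.IsHomogeneous d)
    (hV : ∀ e, (sub g (MvPolynomial.map (algebraMap k K) F)).coeff e ∈ V) :
    ((∃ i j, g i j ∉ V) → ∃ (M : Matrix (Fin n) (Fin n) k) (r : Fin n → ℤ), M.det = 1 ∧ r ≠ 0 ∧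
        ∑ i, r i = 0 ∧ ∀ e : Fin n →₀ ℕ, (sub M F).coeff e ≠ 0 → 0 ≤ wt r e) ∧
      (F ≠ 0 → (∀ e, (sub g (MvPolynomial.map (algebraMap k K) F)).coeff e ∈ V.nonunits) →
        ∃ (M : Matrix (Fin n) (Fin n) k) (r : Fin n → ℤ), M.det = 1 ∧ r ≠ 0 ∧
          ∑ i, r i = 0 ∧ ∀ e : Fin n →₀ ℕ, (sub M F).coeff e ≠ 0 → 0 < wt r e) := by
  classical
  obtain ⟨U, W, dd, hU, hW, hgUW⟩ := SmithVal.diagonalize (R := V) n g
  change g = U.map V.subtype * Matrix.diagonal dd * W.map V.subtype at hgUW
  have hdprod : ∏ i, dd i = 1 := by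
    have := congrArg Matrix.det hgUW
    rw [hg, Matrix.det_mul, Matrix.det_mul, Matrix.det_diagonal] at this
    rw [← RingHom.mapMatrix_apply, ← RingHom.mapMatrix_apply, ← RingHom.map_det, ← RingHom.map_det, hU, hW,
      map_one, one_mul, mul_one] at this
    exact this.symm
  have hd0 : ∀ i, dd i ≠ 0 := fun i h => one_ne_zero (hdprod.symm.trans (Finset.prod_eq_zero (Finset.mem_univ i) h))
  let kV : k →+* V := (algebraMap k K).codRestrict V.toSubring hk
  let FV := MvPolynomial.map kV F
  let c : (Fin n →₀ ℕ) → V := fun e => (sub U FV).coeff e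
  -- the coefficients after the diagonal move
  have hmid : ∀ P : Ideal V, (∀ e, ∃ q ∈ P, (q : K) = (sub g (MvPolynomial.map (algebraMap k K) F)).coeff e) →
      ∀ e, ∃ q ∈ P, (q : K) = (∏ i, dd i ^ e i) * (c e : K) := by
    intro P hP e
    obtain ⟨q, hqP, hq⟩ := coeff_sub_mem V W.adjugate P hP e
    refine ⟨q, hqP, hq.trans ?_⟩
    rw [hgUW, ← sub_comp, ← sub_comp, sub_comp (W.map V.subtype),
      ← Matrix.map_mul, Matrix.mul_adjugate, hW, one_smul,
      Matrix.map_one _ V.subtype.map_zero V.subtype.map_one, sub_one, coeff_sub_diagonal]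
    congr 1
    change _ = V.subtype (c e)
    rw [← MvPolynomial.coeff_map, sub_map, MvPolynomial.map_map]
    rfl
  let ν : Fin n → Additive (V.ValueGroup)ˣ := fun i =>
    -Additive.ofMul (Units.mk0 (V.valuation (dd i)) (by rw [ne_eq, map_eq_zero]; exact hd0 i))
  have hνval : ∀ e : Fin n →₀ ℕ, ∑ i, ((e i : ℤ)) • ν i =
      -Additive.ofMul (Units.mk0 (V.valuation (∏ i, dd i ^ e i))
        (by rw [ne_eq, map_eq_zero, Finset.prod_eq_zero_iff]; exact fun ⟨i, _, h⟩ => hd0 i (pow_eq_zero_iff'.1 h).1)) := by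
    intro e
    simp only [ν, smul_neg, Finset.sum_neg_distrib, natCast_zsmul, ← ofMul_pow, ← ofMul_prod]
    congr 2
    ext
    simp [map_prod, map_pow]
  have hν1 : ∑ i, ν i = 0 := by
    simp only [ν, Finset.sum_neg_distrib, ← ofMul_prod, neg_eq_zero, ofMul_eq_zero]
    ext
    rw [Units.coe_prod, Units.val_one]
    simp only [Units.val_mk0]
    rw [← map_prod, hdprod, map_one]
  have hle : ∀ e : Fin n →₀ ℕ, 0 ≤ ∑ i, ((e i : ℤ)) • ν i ↔ V.valuation (∏ i, dd i ^ e i) ≤ 1 := fun e => by
    rw [hνval, Left.nonneg_neg_iff]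
    exact Iff.rfl
  have hlt : ∀ e : Fin n →₀ ℕ, 0 < ∑ i, ((e i : ℤ)) • ν i ↔ V.valuation (∏ i, dd i ^ e i) < 1 := fun e => by
    rw [hνval, Left.neg_pos_iff]
    exact Iff.rfl
  letI : Algebra k (IsLocalRing.ResidueField V) := ((IsLocalRing.residue V).comp kV).toAlgebra
  let Ures := U.map (IsLocalRing.residue V)
  have hres : ∀ e, (sub Ures (MvPolynomial.map (algebraMap k (IsLocalRing.ResidueField V)) F)).coeff e =
      IsLocalRing.residue V (c e) := fun e => by
    rw [← MvPolynomial.coeff_map, sub_map, MvPolynomial.map_map]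
    rfl
  have hUres : Ures.det = 1 := by
    change ((IsLocalRing.residue V).mapMatrix U).det = 1
    rw [← RingHom.map_det, hU, map_one]
  have hunit : ∀ e, IsLocalRing.residue V (c e) ≠ 0 → V.valuation (c e : K) = 1 := fun e he =>
    (V.valuation_eq_one_iff _).1 ((IsLocalRing.residue_ne_zero_iff_isUnit _).1 he)
  let S : Finset (Fin n → ℤ) := (Finset.univ : Finset (CoordGrp.FormIdx n d)).image fun m => fun i => (m.1 i : ℤ)
  have hS : ∀ e : Fin n →₀ ℕ, e.degree = d → (fun i => (e i : ℤ)) ∈ S := fun e he =>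
    Finset.mem_image.2 ⟨⟨e, he⟩, Finset.mem_univ _, rfl⟩
  -- the descent
  have main : ∀ (good : (Fin n →₀ ℕ) → Prop),
      (∀ e, IsLocalRing.residue V (c e) ≠ 0 → good e) →
      ∃ M : Matrix (Fin n) (Fin n) k, M.det = 1 ∧ ∀ e, (sub M F).coeff e ≠ 0 → e.degree = d ∧ good e := by
    intro good hgood
    let E : Finset (Fin n →₀ ℕ) :=
      ((Finset.univ : Finset (CoordGrp.FormIdx n d)).image Subtype.val).filter fun e => ¬ good e
    obtain ⟨M, hM, hM0⟩ := descend F E Ures hUres fun e he => by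
      rw [hres]
      by_contra hne
      exact (Finset.mem_filter.1 he).2 (hgood e hne)
    refine ⟨M, hM, fun e he => ?_⟩
    have hdeg := exists_idx (isHomogeneous_sub M hF) he
    refine ⟨hdeg, ?_⟩
    by_contra hb
    exact he (hM0 e (Finset.mem_filter.2 ⟨Finset.mem_image.2 ⟨⟨e, hdeg⟩, Finset.mem_univ _, rfl⟩, hb⟩))
  constructor
  · rintro ⟨i, j, hij⟩
    have hne : ∃ i, ν i ≠ 0 := by
      by_contra hcon
      push Not at hcon
      apply hij
      have hdV : ∀ l, dd l ∈ V := fun l => by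
        rw [← V.valuation_le_one_iff]
        have h := hcon l
        simp only [ν, neg_eq_zero, ofMul_eq_zero] at h
        exact (congrArg Units.val h).le
      rw [hgUW, Matrix.mul_apply]
      refine sum_mem fun l _ => mul_mem ?_ (W l j).2
      rw [Matrix.mul_diagonal]
      exact mul_mem (U i l).2 (hdV l)
    obtain ⟨r, hr0, hr1, hr⟩ := OrderHom.exists_int_weights ν hne S
    have hVP := hmid ⊤ fun e => ⟨⟨_, hV e⟩, trivial, rfl⟩
    obtain ⟨M, hM, hMg⟩ := main (fun e => 0 ≤ ∑ i, ((e i : ℤ)) • ν i) fun e he => by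
      rw [hle]
      obtain ⟨q, -, hq⟩ := hVP e
      have h1 := (V.valuation_le_one_iff _).2 q.2
      rwa [hq, map_mul, hunit e he, mul_one] at h1
    exact ⟨M, r, hM, hr0, hr1 hν1, fun e he => (hr _ (hS e (hMg e he).1)).1 (hMg e he).2⟩
  · intro hF0 hnu
    have hVP := hmid (IsLocalRing.maximalIdeal V) fun e =>
      ⟨⟨_, hV e⟩, (ValuationSubring.coe_mem_nonunits_iff (A := V)).1 (hnu e), rfl⟩
    have hgood : ∀ e, IsLocalRing.residue V (c e) ≠ 0 → 0 < ∑ i, ((e i : ℤ)) • ν i := fun e he => by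
      rw [hlt]
      obtain ⟨q, hqm, hq⟩ := hVP e
      have h1 := (V.valuation_lt_one_iff q).1 hqm
      rwa [hq, map_mul, hunit e he, mul_one] at h1
    have hne : ∃ i, ν i ≠ 0 := by
      by_contra hcon
      push Not at hcon
      apply hF0
      apply MvPolynomial.map_injective _ (algebraMap k (IsLocalRing.ResidueField V)).injective
      rw [map_zero]
      apply sub_injective (g := Ures) (by rw [hUres]; exact isUnit_one)
      rw [map_zero]
      refine MvPolynomial.ext _ _ fun e => ?_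
      rw [hres, MvPolynomial.coeff_zero]
      by_contra he
      have := hgood e he
      simp [hcon] at this
    obtain ⟨r, hr0, hr1, hr⟩ := OrderHom.exists_int_weights ν hne S
    obtain ⟨M, hM, hMg⟩ := main (fun e => 0 < ∑ i, ((e i : ℤ)) • ν i) hgood
    exact ⟨M, r, hM, hr0, hr1 hν1, fun e he => (hr _ (hS e (hMg e he).1)).2 (hMg e he).2⟩

/-- A failure of stability gives a one-parameter subgroup with a limit. -/
theorem isStableVec_of_not_dest [IsAlgClosed k] {a : CoordGrp.FormIdx n d → k} (h : ¬ Dest a) :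
    GLin.IsStableVec k SL a := by
  refine OrbitVal.isStablePt_of_isIntegral _ ?_
  by_contra hint
  obtain ⟨K, _, _, χ, V, hk, hran, t, ht⟩ := OrbitVal.exists_valuation_of_not_integral _ hint
  refine h ((of_valuation V hk (slMat χ) (slMat_det χ) (CoordGrp.formPoly a) (isHomogeneous_formPoly a)
    fun e => ?_).1 ?_)
  · rw [← formPoly_moved]
    by_cases he : e.degree = d
    · rw [show e = (⟨e, he⟩ : CoordGrp.FormIdx n d).1 from rfl, CoordGrp.coeff_formPoly]
      exact mul_mem (natCast_mem V _) (hran _)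
    · rw [(isHomogeneous_formPoly _).coeff_eq_zero he]
      exact zero_mem _
  · by_contra hcon
    push Not at hcon
    apply ht
    have hD : χ (CoordGrp.SLn.mk n k CoordGrp.GLn.Dinv) = 1 := by
      have h1 := congrArg (CoordGrp.SLn.mk n k) (CoordGrp.GLn.det_mul_Dinv (n := n) (k := k))
      rw [map_mul, CoordGrp.SLn.det_eq_one, one_mul, map_one] at h1
      rw [h1, map_one]
    let VA : Subalgebra k K := { V.toSubring with algebraMap_mem' := hk }
    let g' : SL →ₐ[k] VA := CoordGrp.SLn.pt n k (fun i j => (⟨slMat χ i j, hcon i j⟩ : VA)) (by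
      apply Subtype.val_injective
      change VA.val _ = _
      rw [AlgHom.map_det]
      exact slMat_det χ)
    have : VA.val.comp g' = χ := CoordGrp.SLn.algHom_ext (fun i j => by
        simp only [AlgHom.comp_apply, g', CoordGrp.SLn.pt_X]
        rfl) (by
      have h1 : CoordGrp.SLn.mk n k (CoordGrp.GLn.Dinv : CoordGrp.GLn n k) = 1 := by
        have h1 := congrArg (CoordGrp.SLn.mk n k) (CoordGrp.GLn.det_mul_Dinv (n := n) (k := k))
        rwa [map_mul, CoordGrp.SLn.det_eq_one, one_mul, map_one] at h1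
      rw [h1, map_one, map_one])
    rw [← this]
    exact (g' t).2

/-- A form destroyed by a one-parameter subgroup is a nullform, and conversely. -/
theorem unst_of_inOrbitClosure [IsAlgClosed k] (hd : (d.factorial : k) ≠ 0) {a : CoordGrp.FormIdx n d → k} (ha : a ≠ 0)
    (h : GLin.InOrbitClosure k SL (GLin.vecPt k (CoordGrp.FormIdx n d) a)
      (GLin.vecPt k (CoordGrp.FormIdx n d) fun _ => 0)) : Unst a := by
  obtain ⟨K, _, _, χ, V, hk, hran, hz⟩ := OrbitVal.exists_valuation_of_inOrbitClosure h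
  have hcoeff : ∀ e, (sub (slMat χ) (MvPolynomial.map (algebraMap k K) (CoordGrp.formPoly a))).coeff e ∈ V.nonunits := by
    intro e
    rw [← formPoly_moved]
    by_cases he : e.degree = d
    · rw [show e = (⟨e, he⟩ : CoordGrp.FormIdx n d).1 from rfl, CoordGrp.coeff_formPoly, moved, ← map_natCast χ,
        ← map_mul, ← map_natCast (GLin.orbitHom k SL (GLin.vecPt k (CoordGrp.FormIdx n d) a)), ← map_mul]
      exact hz _ (by simp [GLin.vecPt])
    · rw [(isHomogeneous_formPoly _).coeff_eq_zero he]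
      simp [ValuationSubring.mem_nonunits_iff]
  exact (of_valuation V hk (slMat χ) (slMat_det χ) (CoordGrp.formPoly a) (isHomogeneous_formPoly a)
    fun e => V.nonunits_subset (hcoeff e)).2 (fun h0 => ha (formPoly_injective hd (by
      rw [h0]; simp [CoordGrp.formPoly]))) hcoeff

/-- The diagonal matrix of a one-parameter subgroup at `t`. -/
def tdiag (r : Fin n → ℤ) (t : kˣ) : Matrix (Fin n) (Fin n) k := Matrix.diagonal fun i => ((t ^ r i : kˣ) : k)

theorem tdiag_det {r : Fin n → ℤ} (hr : ∑ i, r i = 0) (t : kˣ) : (tdiag r t).det = 1 := by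
  rw [tdiag, Matrix.det_diagonal, ← Units.coe_prod, prod_zpow_sum, hr, zpow_zero, Units.val_one]

theorem coeff_tdiag (r : Fin n → ℤ) (t : kˣ) (F : MvPolynomial (Fin n) k) (e : Fin n →₀ ℕ) :
    (sub (tdiag r t) F).coeff e = ((t ^ wt r e : kˣ) : k) * F.coeff e := by
  rw [tdiag, coeff_sub_diagonal]
  congr 1
  rw [wt, ← prod_zpow_sum, Units.coe_prod]
  refine Finset.prod_congr rfl fun i _ => ?_
  rw [← Units.val_pow_eq_pow_val, mul_comm, zpow_mul, zpow_natCast]

theorem actPt_eq_vecPt (g : SL →ₐ[k] k) (a : CoordGrp.FormIdx n d → k) :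
    GLin.actPt k g (GLin.vecPt k (CoordGrp.FormIdx n d) a) = GLin.vecPt k _ (moved g a) :=
  MvPolynomial.algHom_ext fun m => by simp [GLin.actPt, moved]

/-- The point of `SL_n` given by a matrix. -/
abbrev slPt (M : Matrix (Fin n) (Fin n) k) (h : M.det = 1) : SL →ₐ[k] k := CoordGrp.SLn.pt n k M h

theorem formPoly_moved_slPt (M : Matrix (Fin n) (Fin n) k) (h : M.det = 1) (a : CoordGrp.FormIdx n d → k) :
    CoordGrp.formPoly (moved (slPt M h) a) = sub M (CoordGrp.formPoly a) := by
  rw [formPoly_moved, Algebra.algebraMap_self, MvPolynomial.map_id]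
  congr 2
  ext i j
  exact CoordGrp.SLn.pt_X M h i j

/-- The limit along a one-parameter subgroup lies in the orbit closure. -/
theorem exists_limit [IsAlgClosed k] (hd : (d.factorial : k) ≠ 0) {a : CoordGrp.FormIdx n d → k}
    {M : Matrix (Fin n) (Fin n) k} {r : Fin n → ℤ} (hM : M.det = 1) (hr : ∑ i, r i = 0)
    (h : ∀ e : Fin n →₀ ℕ, (sub M (CoordGrp.formPoly a)).coeff e ≠ 0 → 0 ≤ wt r e) :
    ∃ b : CoordGrp.FormIdx n d → k,
      GLin.InOrbitClosure k SL (GLin.vecPt k (CoordGrp.FormIdx n d) a) (GLin.vecPt k _ b) ∧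
      ∀ e, (CoordGrp.formPoly b).coeff e = if wt r e = 0 then (sub M (CoordGrp.formPoly a)).coeff e else 0 := by
  classical
  set b₁ := moved (slPt M hM) a with hb₁
  have hb₁f : CoordGrp.formPoly b₁ = sub M (CoordGrp.formPoly a) := formPoly_moved_slPt M hM a
  let P : CoordGrp.FormIdx n d → Polynomial k := fun m => Polynomial.C (b₁ m) * Polynomial.X ^ (wt r m.1).toNat
  let b : CoordGrp.FormIdx n d → k := fun m => (P m).eval 0
  have hbm : ∀ m, b₁ m ≠ 0 → 0 ≤ wt r m.1 := fun m hm => h m.1 (by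
    rw [← hb₁f, CoordGrp.coeff_formPoly]; exact mul_ne_zero (multinomial_ne_zero hd m) hm)
  refine ⟨b, fun f hf => ?_, fun e => ?_⟩
  · let ev : CoordGrp.FormRing k n d →ₐ[k] Polynomial k := MvPolynomial.aeval P
    have hev : ∀ (t : k) (f : CoordGrp.FormRing k n d), (ev f).eval t = MvPolynomial.aeval (fun m => (P m).eval t) f := by
      intro t f
      have := AlgHom.congr_fun (MvPolynomial.algHom_ext (f := (Polynomial.aeval t).comp ev)
        (g := MvPolynomial.aeval fun m => (P m).eval t) fun m => by simp [ev]) f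
      simpa using this
    have hzero : ev f = 0 := by
      refine Polynomial.eq_zero_of_infinite_isRoot _ (((Set.finite_singleton (0 : k)).infinite_compl).mono fun t ht => ?_)
      have hdet : (M * tdiag r (Units.mk0 t ht)).det = 1 := by rw [Matrix.det_mul, hM, tdiag_det hr, one_mul]
      have hmv : moved (slPt _ hdet) a = fun m => (P m).eval t := by
        refine formPoly_injective hd ?_
        rw [formPoly_moved_slPt, ← sub_comp, ← hb₁f]
        refine MvPolynomial.ext _ _ fun e => ?_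
        rw [coeff_tdiag]
        by_cases he : e.degree = d
        · rw [show e = (⟨e, he⟩ : CoordGrp.FormIdx n d).1 from rfl, CoordGrp.coeff_formPoly, CoordGrp.coeff_formPoly]
          simp only [P, Polynomial.eval_mul, Polynomial.eval_C, Polynomial.eval_pow, Polynomial.eval_X]
          by_cases hb0 : b₁ ⟨e, he⟩ = 0
          · rw [hb0]; ring
          · rw [Units.val_zpow_eq_zpow_val, Units.val_mk0, ← zpow_natCast t, Int.toNat_of_nonneg (hbm _ hb0)]
            ring
        · rw [(isHomogeneous_formPoly _).coeff_eq_zero he, (isHomogeneous_formPoly _).coeff_eq_zero he, mul_zero]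
      change (ev f).eval t = 0
      rw [hev, ← hmv]
      have := orbitKer_le_ker_actPt (slPt _ hdet) (GLin.vecPt k (CoordGrp.FormIdx n d) a) hf
      rw [RingHom.mem_ker, actPt_eq_vecPt] at this
      exact this
    rw [RingHom.mem_ker, show GLin.vecPt k _ b f = (ev f).eval 0 from (hev 0 f).symm, hzero, Polynomial.eval_zero]
  · by_cases he : e.degree = d
    · rw [show e = (⟨e, he⟩ : CoordGrp.FormIdx n d).1 from rfl, CoordGrp.coeff_formPoly, ← hb₁f,
        CoordGrp.coeff_formPoly]
      simp only [b, P, Polynomial.eval_mul, Polynomial.eval_C, Polynomial.eval_pow, Polynomial.eval_X]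
      split_ifs with hw
      · rw [hw]; simp
      · by_cases hb0 : b₁ ⟨e, he⟩ = 0
        · rw [hb0]; simp
        · have := hbm _ hb0
          rw [zero_pow (by simp only at hw this ⊢; omega)]; simp
    · rw [(isHomogeneous_formPoly _).coeff_eq_zero he,
        (isHomogeneous_sub M (isHomogeneous_formPoly a)).coeff_eq_zero he, ite_self]

theorem not_isStableVec_of_dest [IsAlgClosed k] (hd : (d.factorial : k) ≠ 0) {a : CoordGrp.FormIdx n d → k}
    (h : Dest a) : ¬ GLin.IsStableVec k SL a := by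
  classical
  rintro ⟨hcl, hfin⟩
  obtain ⟨M, r, hM, hr0, hr, hw⟩ := h
  obtain ⟨b, hb, hbc⟩ := exists_limit hd hM hr hw
  obtain ⟨g, hg⟩ := inOrbit_of_isClosedOrbit hcl hb
  rw [actPt_eq_vecPt] at hg
  have hbg : b = moved g a := funext fun m => by
    have := AlgHom.congr_fun hg (MvPolynomial.X m)
    simpa using this
  set g₀ := slMat g with hg₀
  have hg₀d : g₀.det = 1 := slMat_det g
  have hgu : IsUnit g₀.det := by rw [hg₀d]; exact isUnit_one
  have hFb : CoordGrp.formPoly b = sub g₀ (CoordGrp.formPoly a) := by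
    rw [hbg, formPoly_moved, Algebra.algebraMap_self, MvPolynomial.map_id]
  have hdet : ∀ t : kˣ, (g₀ * tdiag r t * g₀⁻¹).det = 1 := fun t => by
    rw [Matrix.det_mul, Matrix.det_mul, Matrix.det_nonsing_inv, tdiag_det hr, hg₀d]
    simp
  have hstab : ∀ t : kˣ, GLin.actPt k (slPt _ (hdet t)) (GLin.vecPt k (CoordGrp.FormIdx n d) a) =
      GLin.vecPt k (CoordGrp.FormIdx n d) a := fun t => by
    rw [actPt_eq_vecPt]
    congr 1
    refine formPoly_injective hd ?_
    rw [formPoly_moved_slPt, ← sub_comp, ← sub_comp]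
    have : sub (tdiag r t) (sub g₀ (CoordGrp.formPoly a)) = sub g₀ (CoordGrp.formPoly a) := by
      rw [← hFb]
      refine MvPolynomial.ext _ _ fun e => ?_
      rw [coeff_tdiag, hbc]
      split_ifs with he
      · rw [he, zpow_zero, Units.val_one, one_mul]
      · rw [mul_zero]
    rw [this, sub_comp, Matrix.mul_nonsing_inv _ hgu, sub_one]
  obtain ⟨i, hi⟩ : ∃ i, r i ≠ 0 := Function.ne_iff.1 hr0
  have hsurj : ∀ s : kˣ, ∃ t : kˣ, t ^ r i = s := by
    intro s
    obtain ⟨z, hz⟩ := IsAlgClosed.exists_pow_nat_eq (s : k) (n := (r i).natAbs) (Int.natAbs_pos.2 hi)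
    have hz0 : z ≠ 0 := fun h => s.ne_zero (by rw [← hz, h, zero_pow (Int.natAbs_ne_zero.2 hi)])
    rcases (r i).natAbs_eq with hr' | hr'
    · exact ⟨Units.mk0 z hz0, Units.ext (by rw [hr', zpow_natCast]; simpa using hz)⟩
    · exact ⟨(Units.mk0 z hz0)⁻¹, Units.ext (by rw [hr', zpow_neg, inv_zpow, inv_inv, zpow_natCast]; simpa using hz)⟩
  choose root hroot using hsurj
  have hinj : Function.Injective fun s : kˣ => slPt (n := n) _ (hdet (root s)) := by
    intro s s' hss
    have h1 : g₀ * tdiag r (root s) * g₀⁻¹ = g₀ * tdiag r (root s') * g₀⁻¹ := by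
      ext a' b'
      have := AlgHom.congr_fun hss (CoordGrp.SLn.X a' b')
      simpa using this
    have h2 := congrArg (fun N => (g₀⁻¹ * N * g₀) i i) h1
    simp only [← Matrix.mul_assoc, Matrix.nonsing_inv_mul _ hgu, Matrix.one_mul] at h2
    simp only [Matrix.mul_assoc, Matrix.nonsing_inv_mul _ hgu, Matrix.mul_one] at h2
    simp only [tdiag, Matrix.diagonal_apply_eq, hroot] at h2
    exact Units.ext h2
  have hfs := (OrbitDim.hasFiniteStab_iff _).1 hfin
  have hinf : Infinite kˣ := by
    haveI : Infinite k := inferInstance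
    haveI : Infinite {x : k // x ≠ 0} := ((Set.finite_singleton (0 : k)).infinite_compl).to_subtype
    exact Infinite.of_injective (fun x : {x : k // x ≠ 0} => Units.mk0 x.1 x.2)
      (fun x y h => Subtype.ext (congrArg Units.val h))
  haveI := hfs.to_subtype
  haveI := Finite.of_injective (fun s : kˣ => (⟨slPt (n := n) _ (hdet (root s)), fun f => by
    have := AlgHom.congr_fun (hstab (root s)) f
    rwa [actPt_apply] at this⟩ :
      ↥{g : SL →ₐ[k] k | ∀ f : CoordGrp.FormRing k n d, GLin.vecPt k (CoordGrp.FormIdx n d) a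
        (HopfRep.Comod.act k SL (CoordGrp.FormRing k n d) g f) = GLin.vecPt k (CoordGrp.FormIdx n d) a f}))
    fun s s' h => hinj (congrArg Subtype.val h)
  exact not_finite kˣ

/-- Stability criterion. -/
theorem isStableVec_iff [IsAlgClosed k] (hd : (d.factorial : k) ≠ 0) (a : CoordGrp.FormIdx n d → k) :
    GLin.IsStableVec k SL a ↔ ¬ Dest a :=
  ⟨fun hs h => not_isStableVec_of_dest hd h hs, isStableVec_of_not_dest⟩

/-- Semistability criterion. -/
theorem isSemistableVec_iff [IsAlgClosed k] [CharZero k] {a : CoordGrp.FormIdx n d → k} (ha : a ≠ 0) :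
    GLin.IsSemistableVec k SL a ↔ ¬ Unst a := by
  have hd : (d.factorial : k) ≠ 0 := Nat.cast_ne_zero.2 d.factorial_ne_zero
  refine (Groth.Agent.H60.NullCone.semistable_iff k SL (Groth.Agent.S12559.result k n) (CoordGrp.FormIdx n d)
    (GLin.isLinear_comodAlong _ _ (CoordGrp.formsCoact_isLinear k n d)) a).trans (not_congr ?_)
  refine ⟨unst_of_inOrbitClosure hd ha, ?_⟩
  rintro ⟨M, r, hM, -, hr, hw⟩
  obtain ⟨b, hb, hbc⟩ := exists_limit hd hM hr fun e he => (hw e he).le
  have hb0 : b = fun _ => 0 := formPoly_injective hd (MvPolynomial.ext _ _ fun e => by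
    rw [hbc]
    split_ifs with he
    · by_contra hne
      exact (hw e fun h => hne (by rw [h]; simp [CoordGrp.formPoly])).ne' he
    · simp [CoordGrp.formPoly])
  rw [hb0] at hb
  exact hb

end

end Groth.Agent.H60.SLHM
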