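import Mathlib.LinearAlgebra.Semisimple
import Mathlib.LinearAlgebra.Projection
import Mathlib.LinearAlgebra.Matrix.ToLin
import Mathlib.LinearAlgebra.Matrix.Charpoly.Coeff
import Mathlib.LinearAlgebra.Eigenspace.Semisimple
import Mathlib.LinearAlgebra.Eigenspace.Triangularizable
import Mathlib.LinearAlgebra.Matrix.MvPolynomial
import Mathlib.LinearAlgebra.Matrix.Basis
import Mathlib.LinearAlgebra.Matrix.Permutation
import Mathlib.Data.Matrix.PEquiv
import Mathlib.FieldTheory.IsAlgClosed.Basic

/-!
# The semisimple part lies in the closure of the conjugation orbit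
-/

set_option autoImplicit false
universe u
namespace Groth.Agent.H60.SemisimplePart

open Polynomial

variable {k : Type u} [Field k]

section filt
variable {V : Type u} [AddCommGroup V] [Module k V]

/-- A polynomial path from the semisimple part, conjugate to the endomorphism away from zero. -/
theorem exists_path (f ν : Module.End k V) (hf : f.IsSemisimple) (hν : IsNilpotent ν) (hc : Commute f ν) :
    ∃ (m : ℕ) (P : ℕ → Module.End k V), (∀ s : k, s ≠ 0 → ∃ g h : Module.End k V, g * h = 1 ∧ h * g = 1 ∧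
      g * (f + ν) * h = f + ∑ b ∈ Finset.range m, ∑ a ∈ Finset.range b, s ^ (b - a) • (P a * ν * P b)) := by
  classical
  obtain ⟨m, hm⟩ := hν
  let K : ℕ → Submodule k V := fun i => LinearMap.ker (ν ^ i)
  have hKinv : ∀ i, K i ≤ (K i).comap f := fun i v hv => by
    rw [Submodule.mem_comap, LinearMap.mem_ker]
    have h2 : (ν ^ i) (f v) = f ((ν ^ i) v) := (LinearMap.congr_fun (hc.pow_right i).eq v).symm
    rw [h2, LinearMap.mem_ker.1 hv, map_zero]
  have hKmono : ∀ i j, i ≤ j → K i ≤ K j := fun i j hij v hv => by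
    rw [LinearMap.mem_ker, ← Nat.sub_add_cancel hij, pow_add, Module.End.mul_apply, LinearMap.mem_ker.1 hv, map_zero]
  have hproj : ∀ i, ∃ e : Module.End k V, Commute e f ∧ (∀ v, e v ∈ K i) ∧ ∀ v ∈ K i, e v = v := by
    intro i
    obtain ⟨q, hqinv, hq⟩ := Module.End.isSemisimple_iff.1 hf (K i) ((Module.End.mem_invtSubmodule f).2 (hKinv i))
    refine ⟨(K i).subtype ∘ₗ Submodule.projectionOnto (K i) q hq, ?_, fun v => Subtype.prop _, fun v hv => ?_⟩
    · refine LinearMap.ext fun v => ?_
      change (Submodule.projectionOnto (K i) q hq (f v) : V) = f (Submodule.projectionOnto (K i) q hq v : V)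
      obtain ⟨a, b, ha, hb, rfl⟩ : ∃ a b, a ∈ K i ∧ b ∈ q ∧ a + b = v := by
        have : v ∈ K i ⊔ q := by rw [hq.sup_eq_top]; trivial
        obtain ⟨a, ha, b, hb, h⟩ := Submodule.mem_sup.1 this
        exact ⟨a, b, ha, hb, h⟩
      rw [map_add, map_add, map_add, Submodule.projectionOnto_apply_of_mem_left hq (hKinv i ha),
        Submodule.projectionOnto_apply_of_mem_left hq ha,
        Submodule.projectionOnto_apply_of_mem_right hq ((Module.End.mem_invtSubmodule f).1 hqinv hb),
        Submodule.projectionOnto_apply_of_mem_right hq hb]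
      simp
    · simp [Submodule.projectionOnto_apply_of_mem_left hq hv]
  choose e hec he hee using hproj
  let E : ℕ → Module.End k V := fun i =>
    Nat.rec (motive := fun _ => ℕ → Module.End k V) (fun _ => 1) (fun _ ih j => e j * ih (j + 1)) (m - i) i
  have hEtop : ∀ i, m ≤ i → E i = 1 := fun i hi => by simp [E, Nat.sub_eq_zero_of_le hi]
  have hEstep : ∀ i, i < m → E i = e i * E (i + 1) := fun i hi => by
    have : m - i = (m - (i + 1)) + 1 := by omega
    simp only [E, this]
  have hKm : ∀ i, m ≤ i → K i = ⊤ := fun i hi => by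
    change LinearMap.ker (ν ^ i) = ⊤
    rw [← Nat.sub_add_cancel hi, pow_add, hm, mul_zero, LinearMap.ker_zero]
  have hE : ∀ j i, i + j = m → Commute (E i) f ∧ (∀ v, E i v ∈ K i) ∧ ∀ v ∈ K i, E i v = v := by
    intro j
    induction j with
    | zero =>
      intro i hi
      rw [hEtop i (by omega)]
      exact ⟨Commute.one_left f, fun v => by rw [hKm i (by omega)]; trivial, fun v _ => rfl⟩
    | succ j ih =>
      intro i hi
      obtain ⟨h1, -, h3⟩ := ih (i + 1) (by omega)
      rw [hEstep i (by omega)]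
      exact ⟨(hec i).mul_left h1, fun v => he i _, fun v hv => by
        rw [Module.End.mul_apply, h3 v (hKmono i (i + 1) (by omega) hv), hee i v hv]⟩
  have hEi : ∀ i, i ≤ m → Commute (E i) f ∧ (∀ v, E i v ∈ K i) ∧ ∀ v ∈ K i, E i v = v :=
    fun i hi => hE (m - i) i (by omega)
  have hcomp₁ : ∀ i j, i ≤ j → j ≤ m → E j * E i = E i := fun i j hij hj =>
    LinearMap.ext fun v => (hEi j hj).2.2 _ (hKmono i j hij ((hEi i (by omega)).2.1 v))
  have hcomp₂ : ∀ d i, i + d ≤ m → E i * E (i + d) = E i := by
    intro d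
    induction d with
    | zero => exact fun i h => hcomp₁ i i le_rfl (by omega)
    | succ d ih =>
      intro i h
      rw [hEstep i (by omega), mul_assoc, show i + (d + 1) = (i + 1) + d by omega, ih (i + 1) (by omega)]
  have hcomp₂' : ∀ i j, i ≤ j → j ≤ m → E i * E j = E i := fun i j hij hj => by
    have := hcomp₂ (j - i) i (by omega)
    rwa [Nat.add_sub_cancel' hij] at this
  let P : ℕ → Module.End k V := fun i => E (i + 1) - E i
  have hPP : ∀ a b, a < m → b < m → P a * P b = if a = b then P a else 0 := fun a b ha hb => by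
    simp only [P, sub_mul, mul_sub]
    rcases lt_trichotomy a b with h | h | h
    · rw [if_neg h.ne, hcomp₂' (a + 1) (b + 1) (by omega) (by omega), hcomp₂' (a + 1) b (by omega) (by omega),
        hcomp₂' a (b + 1) (by omega) (by omega), hcomp₂' a b h.le (by omega)]
      abel
    · subst h
      rw [if_pos rfl, hcomp₁ (a + 1) (a + 1) le_rfl (by omega), hcomp₁ a (a + 1) (by omega) (by omega),
        hcomp₂' a (a + 1) (by omega) (by omega), hcomp₁ a a le_rfl (by omega)]
      abel
    · rw [if_neg h.ne', hcomp₁ (b + 1) (a + 1) (by omega) (by omega), hcomp₁ b (a + 1) (by omega) (by omega),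
        hcomp₁ (b + 1) a (by omega) (by omega), hcomp₁ b a h.le (by omega)]
      abel
  have hsum : ∑ i ∈ Finset.range m, P i = 1 := by
    rw [Finset.sum_range_sub, hEtop m le_rfl]
    have : E 0 = 0 := LinearMap.ext fun v => by
      have h := (hEi 0 (Nat.zero_le _)).2.1 v
      simpa [K] using h
    rw [this, sub_zero]
  have hPc : ∀ i, i < m → Commute (P i) f := fun i hi =>
    (hEi (i + 1) hi).1.sub_left (hEi i hi.le).1
  have hlow : ∀ a b, a < m → b < m → b ≤ a → P a * ν * P b = 0 := by
    intro a b ha hb hba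
    refine LinearMap.ext fun v => ?_
    have hmem : P b v ∈ K (b + 1) :=
      Submodule.sub_mem _ ((hEi (b + 1) hb).2.1 v) (hKmono b (b + 1) (by omega) ((hEi b hb.le).2.1 v))
    have hν : ν (P b v) ∈ K b := by
      rw [LinearMap.mem_ker] at hmem ⊢
      rwa [pow_succ, Module.End.mul_apply] at hmem
    have hνa := hKmono b a hba hν
    simp only [Module.End.mul_apply, LinearMap.zero_apply]
    change E (a + 1) _ - E a _ = 0
    rw [(hEi a ha.le).2.2 _ hνa, (hEi (a + 1) ha).2.2 _ (hKmono a (a + 1) (by omega) hνa), sub_self]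
  refine ⟨m, P, fun s hs => ?_⟩
  let G : (ℕ → k) → Module.End k V := fun c => ∑ i ∈ Finset.range m, c i • P i
  have hGG : ∀ c d : ℕ → k, G c * G d = G fun i => c i * d i := fun c d => by
    simp only [G, Finset.sum_mul, Finset.mul_sum, smul_mul_smul_comm]
    refine Finset.sum_congr rfl fun a ha => ?_
    rw [Finset.sum_eq_single a]
    · rw [hPP a a (Finset.mem_range.1 ha) (Finset.mem_range.1 ha), if_pos rfl]
    · intro b hb hba
      rw [hPP _ _ (Finset.mem_range.1 hb) (Finset.mem_range.1 ha), if_neg hba, smul_zero]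
    · exact fun h => absurd ha h
  have hG1 : G (fun _ => 1) = 1 := by simp [G, hsum]
  refine ⟨G fun i => (s ^ i)⁻¹, G fun i => s ^ i, ?_, ?_, ?_⟩
  · rw [hGG]; simp only [inv_mul_cancel₀ (pow_ne_zero _ hs)]; exact hG1
  · rw [hGG]; simp only [mul_inv_cancel₀ (pow_ne_zero _ hs)]; exact hG1
  · rw [mul_add, add_mul]
    congr 1
    · have : Commute (G fun i => (s ^ i)⁻¹) f :=
        Commute.sum_left _ _ _ fun i hi => (hPc i (Finset.mem_range.1 hi)).smul_left _
      rw [this.eq, mul_assoc, hGG]
      simp only [inv_mul_cancel₀ (pow_ne_zero _ hs), hG1, mul_one]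
    · simp only [G, Finset.sum_mul, Finset.mul_sum]
      refine Finset.sum_congr rfl fun b hb => ?_
      rw [← Finset.sum_subset (Finset.range_subset_range.2 (Finset.mem_range.1 hb).le)]
      · refine Finset.sum_congr rfl fun a ha => ?_
        have hab := Finset.mem_range.1 ha
        rw [smul_mul_assoc, smul_mul_smul_comm]
        congr 1
        rw [← Nat.sub_add_cancel hab.le, pow_add, Nat.add_sub_cancel]
        field_simp
      · intro a ha hab
        rw [Finset.mem_range] at ha hab
        rw [smul_mul_assoc, smul_mul_smul_comm, hlow a b ha (Finset.mem_range.1 hb) (not_lt.1 hab), smul_zero]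

end filt

variable {n : ℕ}

/-- The semisimple part lies in the Zariski closure of the conjugation orbit. -/
theorem mem_closure [Infinite k] {B S N : Matrix (Fin n) (Fin n) k} (hS : Module.End.IsSemisimple (Matrix.toLin' S))
    (hN : IsNilpotent N) (hSN : Commute S N) (hB : B = S + N) (F : MvPolynomial (Fin n × Fin n) k)
    (hF : ∀ A : Matrix (Fin n) (Fin n) k, IsUnit A.det →
      MvPolynomial.eval (fun p => (A * B * A⁻¹) p.1 p.2) F = 0) :
    MvPolynomial.eval (fun p => S p.1 p.2) F = 0 := by
  classical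
  let φ : Matrix (Fin n) (Fin n) k ≃ₐ[k] Module.End k (Fin n → k) := Matrix.toLinAlgEquiv'
  obtain ⟨m, P, hP⟩ := exists_path (φ S) (φ N) hS (hN.map φ) (hSN.map φ)
  let U : ℕ → ℕ → Matrix (Fin n) (Fin n) k := fun a b => φ.symm (P a * φ N * P b)
  let path : Matrix (Fin n) (Fin n) k[X] := S.map C + ∑ b ∈ Finset.range m, ∑ a ∈ Finset.range b,
    (X : k[X]) ^ (b - a) • (U a b).map C
  have heval : ∀ (s : k) (p : Fin n × Fin n), (path p.1 p.2).eval s =
      (S + ∑ b ∈ Finset.range m, ∑ a ∈ Finset.range b, s ^ (b - a) • U a b) p.1 p.2 := fun s p => by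
    simp [path, Matrix.sum_apply, Polynomial.eval_finsetSum]
    exact Finset.sum_congr rfl fun _ _ => Finset.sum_congr rfl fun _ _ => mul_comm _ _
  let Q : k[X] := MvPolynomial.aeval (fun p => path p.1 p.2) F
  have hQ : ∀ s : k, Q.eval s = MvPolynomial.eval (fun p => (path p.1 p.2).eval s) F := fun s => by
    have h := AlgHom.congr_fun (MvPolynomial.algHom_ext
      (f := (Polynomial.aeval s).comp (MvPolynomial.aeval fun p : Fin n × Fin n => path p.1 p.2))
      (g := MvPolynomial.aeval fun p => (path p.1 p.2).eval s) fun p => by simp) F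
    simpa [Q, MvPolynomial.aeval_eq_eval] using h
  have hQ0 : Q = 0 := by
    refine Polynomial.eq_zero_of_infinite_isRoot _ (((Set.finite_singleton (0 : k)).infinite_compl).mono fun s hs => ?_)
    obtain ⟨g, h, hgh, hhg, hconj⟩ := hP s hs
    have hu : φ.symm g * φ.symm h = 1 := by rw [← map_mul, hgh, map_one]
    have hAu : IsUnit (φ.symm g).det := IsUnit.of_mul_eq_one (φ.symm h).det (by rw [← Matrix.det_mul, hu, Matrix.det_one])
    have hinv : (φ.symm g)⁻¹ = φ.symm h := Matrix.inv_eq_right_inv hu
    change Q.eval s = 0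
    rw [hQ]
    have : (fun p : Fin n × Fin n => (path p.1 p.2).eval s) = fun p => (φ.symm g * B * (φ.symm g)⁻¹) p.1 p.2 := by
      funext p
      rw [heval, hinv]
      have hBφ : B = φ.symm (φ S + φ N) := by rw [← map_add, AlgEquiv.symm_apply_apply, hB]
      rw [hBφ, ← map_mul, ← map_mul, hconj]
      simp [U, map_sum]
    rw [this]
    exact hF _ hAu
  have h0 := hQ 0
  rw [hQ0, Polynomial.eval_zero] at h0
  have : (fun p : Fin n × Fin n => (path p.1 p.2).eval 0) = fun p => S p.1 p.2 := by
    funext p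
    rw [heval, Finset.sum_eq_zero fun b hb => Finset.sum_eq_zero fun a ha => by
      rw [zero_pow (by rw [Finset.mem_range] at ha; omega), zero_smul], add_zero]
  rw [this] at h0
  exact h0.symm

theorem charpoly_conj (A B : Matrix (Fin n) (Fin n) k) (hA : IsUnit A.det) :
    (A * B * A⁻¹).charpoly = B.charpoly := by
  rw [Matrix.mul_assoc, Matrix.charpoly_mul_comm, Matrix.mul_assoc, Matrix.nonsing_inv_mul _ hA, Matrix.mul_one]

/-- Characteristic polynomials are constant on orbit closures. -/
theorem charpoly_eq_of_closure {B C' : Matrix (Fin n) (Fin n) k}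
    (h : ∀ F : MvPolynomial (Fin n × Fin n) k, (∀ A : Matrix (Fin n) (Fin n) k, IsUnit A.det →
      MvPolynomial.eval (fun p => (A * B * A⁻¹) p.1 p.2) F = 0) → MvPolynomial.eval (fun p => C' p.1 p.2) F = 0) :
    C'.charpoly = B.charpoly := by
  refine Polynomial.ext fun i => ?_
  let G := (Matrix.mvPolynomialX (Fin n) (Fin n) k).charpoly
  have hG : ∀ M : Matrix (Fin n) (Fin n) k,
      MvPolynomial.eval (fun p => M p.1 p.2) (G.coeff i) = M.charpoly.coeff i := fun M => by
    rw [← Polynomial.coeff_map, ← Matrix.charpoly_map]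
    congr 2
    ext a b
    simp
  have := h (G.coeff i - MvPolynomial.C (B.charpoly.coeff i)) fun A hA => by
    rw [map_sub, hG, MvPolynomial.eval_C, charpoly_conj A B hA, sub_self]
  rwa [map_sub, hG, MvPolynomial.eval_C, sub_eq_zero] at this

/-- Diagonalisation of a semisimple matrix. -/
theorem exists_diag [IsAlgClosed k] {S : Matrix (Fin n) (Fin n) k} (hS : Module.End.IsSemisimple (Matrix.toLin' S)) :
    ∃ (P : Matrix (Fin n) (Fin n) k) (d : Fin n → k), IsUnit P.det ∧ S = P * Matrix.diagonal d * P⁻¹ := by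
  classical
  set f : Module.End k (Fin n → k) := Matrix.toLin' S
  have htop : ⨆ μ : k, f.eigenspace μ = ⊤ := by
    rw [← Module.End.iSup_maxGenEigenspace_eq_top f]
    exact iSup_congr fun μ => (hS.isFinitelySemisimple.maxGenEigenspace_eq_eigenspace μ).symm
  have hInt : DirectSum.IsInternal fun μ : k => f.eigenspace μ :=
    DirectSum.isInternal_submodule_iff_iSupIndep_and_iSup_eq_top _ |>.2 ⟨Module.End.eigenspaces_iSupIndep f, htop⟩
  let b := hInt.collectedBasis fun μ => Module.Free.chooseBasis k (f.eigenspace μ)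
  haveI : Finite (Σ μ : k, Module.Free.ChooseBasisIndex k (f.eigenspace μ)) := Module.Finite.finite_basis b
  haveI := Fintype.ofFinite (Σ μ : k, Module.Free.ChooseBasisIndex k (f.eigenspace μ))
  have hcard : Fintype.card (Σ μ : k, Module.Free.ChooseBasisIndex k (f.eigenspace μ)) = n := by
    rw [← Module.finrank_eq_card_basis b, Module.finrank_fin_fun]
  let e := Fintype.equivFinOfCardEq hcard
  let P : Matrix (Fin n) (Fin n) k := Matrix.of fun i j => b (e.symm j) i
  have hPu : IsUnit P.det := by
    have h1 : P = (Pi.basisFun k (Fin n)).toMatrix (b.reindex e) := by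
      ext i j
      rw [Module.Basis.toMatrix_apply, Pi.basisFun_repr, Module.Basis.reindex_apply]
      rfl
    rw [h1]
    haveI := Module.Basis.invertibleToMatrix (Pi.basisFun k (Fin n)) (b.reindex e)
    exact (Matrix.isUnit_iff_isUnit_det _).1 (isUnit_of_invertible _)
  refine ⟨P, fun j => (e.symm j).1, hPu, ?_⟩
  have hmul : S * P = P * Matrix.diagonal fun j => (e.symm j).1 := by
    ext i j
    rw [Matrix.mul_diagonal]
    have h1 := (Module.End.mem_eigenspace_iff).1
      (hInt.collectedBasis_mem (fun μ => Module.Free.chooseBasis k (f.eigenspace μ)) (e.symm j))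
    have h2 := congrFun h1 i
    simp only [f, Matrix.toLin'_apply, Matrix.mulVec, dotProduct, Pi.smul_apply, smul_eq_mul] at h2
    rw [Matrix.mul_apply]
    exact h2.trans (mul_comm _ _)
  rw [← hmul, Matrix.mul_assoc, Matrix.mul_nonsing_inv _ hPu, Matrix.mul_one]

/-- Semisimple matrices with one characteristic polynomial are conjugate. -/
theorem exists_conj [IsAlgClosed k] {S T : Matrix (Fin n) (Fin n) k}
    (hS : Module.End.IsSemisimple (Matrix.toLin' S)) (hT : Module.End.IsSemisimple (Matrix.toLin' T))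
    (h : S.charpoly = T.charpoly) : ∃ A : Matrix (Fin n) (Fin n) k, IsUnit A.det ∧ A * S * A⁻¹ = T := by
  classical
  obtain ⟨P, d, hP, hSd⟩ := exists_diag hS
  obtain ⟨Q, e, hQ, hTe⟩ := exists_diag hT
  rw [hSd, hTe, charpoly_conj _ _ hP, charpoly_conj _ _ hQ, Matrix.charpoly_diagonal, Matrix.charpoly_diagonal] at h
  have hroots : (Finset.univ.val.map d) = (Finset.univ.val.map e) := by
    have hr : ∀ c : Fin n → k, (∏ i, (X - C (c i))).roots = Finset.univ.val.map c := fun c => by
      rw [Finset.prod_eq_multiset_prod, show (fun i => X - C (c i)) = (fun a => X - C a) ∘ c from rfl,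
        ← Multiset.map_map (fun a => X - C a) c,
        Polynomial.roots_multiset_prod_X_sub_C]
    rw [← hr, ← hr, h]
  have hfib : ∀ μ : k, Fintype.card {i // d i = μ} = Fintype.card {i // e i = μ} := fun μ => by
    have hc := congrArg (Multiset.count μ) hroots
    simp only [Multiset.count_map] at hc
    simp only [Fintype.card_subtype, Finset.card_def, Finset.filter_val]
    convert hc using 3 <;> exact eq_comm
  let σ : Fin n ≃ Fin n := Equiv.ofFiberEquiv (f := d) (g := e) fun μ => Fintype.equivOfCardEq (hfib μ)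
  have hσ : ∀ i, e (σ i) = d i := fun i => Equiv.ofFiberEquiv_map _ i
  let R : Matrix (Fin n) (Fin n) k := (Equiv.toPEquiv σ.symm).toMatrix
  have hR : IsUnit R.det := by
    change IsUnit (Equiv.Perm.permMatrix k σ.symm).det
    rw [Matrix.det_permutation]
    exact (Equiv.Perm.sign σ.symm).isUnit.map (Int.castRingHom k)
  have hRd : R * Matrix.diagonal d = Matrix.diagonal e * R := by
    ext i j
    simp only [Matrix.mul_diagonal, Matrix.diagonal_mul, R, PEquiv.toMatrix_apply, Equiv.toPEquiv_apply, Option.mem_def,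
      Option.some.injEq]
    split_ifs with h1
    · subst h1
      rw [one_mul, mul_one, ← hσ, Equiv.apply_symm_apply]
    · rw [zero_mul, mul_zero]
  refine ⟨Q * R * P⁻¹, ?_, ?_⟩
  · rw [Matrix.det_mul, Matrix.det_mul]
    exact (hQ.mul hR).mul (Matrix.isUnit_nonsing_inv_det _ hP)
  · have hi : (Q * R * P⁻¹)⁻¹ = P * R⁻¹ * Q⁻¹ := by
      rw [Matrix.mul_inv_rev, Matrix.mul_inv_rev, Matrix.nonsing_inv_nonsing_inv _ hP, Matrix.mul_assoc]
    rw [hi, hSd, hTe]
    simp only [Matrix.mul_assoc]
    rw [← Matrix.mul_assoc P⁻¹ P, Matrix.nonsing_inv_mul _ hP, Matrix.one_mul, ← Matrix.mul_assoc P⁻¹ P,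
      Matrix.nonsing_inv_mul _ hP, Matrix.one_mul, ← Matrix.mul_assoc R (Matrix.diagonal d), hRd, Matrix.mul_assoc,
      ← Matrix.mul_assoc R R⁻¹, Matrix.mul_nonsing_inv _ hR, Matrix.one_mul]

end Groth.Agent.H60.SemisimplePart
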