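import Groth.Agent.H60.Haar
import Groth.Agent.H60.Luna
import Groth.Agent.H60.OrbitSmooth
import Mathlib.RingTheory.MvPolynomial.Basic
import Mathlib.RingTheory.Smooth.Basic

/-! Equivariant formal lifting of a closed orbit: approximate equivariant retractions. -/

set_option autoImplicit false
set_option linter.unusedSectionVars false
set_option linter.style.haveILetI false
universe u v

open TensorProduct
open Groth.Agent.Lib.Comod Groth.Agent.Lib.Comod.Basic Groth.Agent.Lib.Comod.Reynolds
  Groth.Agent.Lib.Comod.Orbits Groth.Agent.Lib.Comod.Alg Groth.Agent.H60.Haar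

namespace Groth.Agent.H60.SliceLift

noncomputable section

variable {k : Type u} [Field k] {A : Type u} [CommRing A] [HopfAlgebra k A]
variable {R : Type u} [CommRing R] [Algebra k R] [HopfRep.Comod k A R] [GLin.IsCoactAlg k A R]
variable {W : Type u} [AddCommGroup W] [Module k W] [HopfRep.Comod k A W]
variable {ι : Type u} (bas : Module.Basis ι k W)

/-- The universal element of the translates of a linear map. -/
def xi (F : W →ₗ[k] R) : W →ₗ[k] R ⊗[k] A :=
  twist R ∘ₗ F.rTensor A ∘ₗ (HopfAlgebraStruct.antipode (R := k) (A := A)).lTensor W ∘ₗ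
    HopfRep.Comod.coact (k := k) (A := A)

theorem homDact_eq (ψ : A →ₗ[k] k) (F : W →ₗ[k] R) : homDact (A := A) ψ F = contract R ψ ∘ₗ xi F := rfl

theorem xi_of_isComodHom {φ : W →ₗ[k] R} (hφ : Hoch.IsComodHom A φ) (w : W) :
    xi (A := A) φ w = φ w ⊗ₜ[k] (1 : A) := by
  simp only [xi, LinearMap.comp_apply]
  rw [← LinearMap.comp_apply (φ.rTensor A), LinearMap.rTensor_comp_lTensor,
    ← LinearMap.lTensor_comp_rTensor, LinearMap.comp_apply]
  rw [show φ.rTensor A (HopfRep.Comod.coact (k := k) (A := A) w) =
      HopfRep.Comod.coact (k := k) (A := A) (φ w) from (LinearMap.congr_fun hφ w).symm, twist_antipode]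

theorem contract_xi_pt (h : A →ₐ[k] k) (F : W →ₗ[k] R) (w : W) :
    contract R h.toLinearMap (xi (A := A) F w) =
      dact R h.toLinearMap (F (dact W (invPt h).toLinearMap w)) := by
  simp only [xi, LinearMap.comp_apply, dact_apply W]
  induction HopfRep.Comod.coact (k := k) (A := A) w using TensorProduct.induction_on with
  | zero => simp
  | add y z hy hz => simp only [map_add, hy, hz]
  | tmul u a =>
    simp only [LinearMap.lTensor_tmul, LinearMap.rTensor_tmul, twist_tmul, contract_tmul, map_smul, dact_apply]
    induction HopfRep.Comod.coact (k := k) (A := A) (F u) using TensorProduct.induction_on with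
    | zero => simp
    | add y z hy hz => simp only [map_add, add_mul, smul_add, hy, hz]
    | tmul r c => simp [invPt, smul_smul, mul_comm]

theorem ext_pt [IsAlgClosed k] [Algebra.FiniteType k A] [IsReduced A] {V : Type v} [AddCommGroup V] [Module k V]
    {y z : V ⊗[k] A} (h : ∀ g : A →ₐ[k] k, contract V g.toLinearMap y = contract V g.toLinearMap z) : y = z := by
  refine ext_contract fun ψ => ?_
  refine sub_eq_zero.1 ((Module.forall_dual_apply_eq_zero_iff (R := k) _).1 fun l => ?_)
  let a : A := TensorProduct.lid k A (l.rTensor A (y - z))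
  have key : ∀ φ : A →ₗ[k] k, φ a = l (contract V φ (y - z)) := fun φ => by
    simp only [a]
    induction (y - z) using TensorProduct.induction_on with
    | zero => simp
    | tmul v c => simp [mul_comm]
    | add y z hy hz => simp only [map_add, hy, hz]
  have ha : a = 0 := (Groth.Agent.Lib.Comod.Orbits2.isNilpotent_of_forall_pt (k := k)
    fun g => (key g.toLinearMap).trans (by rw [map_sub, h, sub_self, map_zero])).eq_zero
  rw [← map_sub, ← key, ha, map_zero]

/-- The average of a linear map is equivariant. -/
theorem isComodHom_homDact [IsAlgClosed k] [Algebra.FiniteType k A] [IsReduced A] {η : A →ₗ[k] k}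
    (hη1 : η 1 = 1) (hη : ∀ (V : Type u) [AddCommGroup V] [Module k V] [HopfRep.Comod k A V] (v : V),
      dact V η v ∈ HopfRep.fixedPts k A V) (F : W →ₗ[k] R) :
    Hoch.IsComodHom A (homDact (A := A) η F) := by
  have hinv : ∀ g : A →ₐ[k] k, conv g.toLinearMap η = η := fun g => LinearMap.ext fun a => by
    rw [← FreeOrbit.dact_regular]
    have h : dact A η a = algebraMap k A (η a) := by
      refine (Module.Free.chooseBasis k A).repr.injective (Finsupp.ext fun i => ?_)
      change (Module.Free.chooseBasis k A).coord i _ = (Module.Free.chooseBasis k A).coord i _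
      set φ := (Module.Free.chooseBasis k A).coord i
      have h1 := LinearMap.congr_fun (Coalgebra.rTensor_counit_comp_comul (R := k) (A := A)) (dact A η a)
      have h2 : CoalgebraStruct.comul (R := k) (dact A η a) = dact A η a ⊗ₜ[k] (1 : A) := hη A a
      simp only [LinearMap.comp_apply, h2, LinearMap.rTensor_tmul, TensorProduct.mk_apply] at h1
      have h3 := congrArg (TensorProduct.lid k A) h1
      simp only [TensorProduct.lid_tmul, one_smul] at h3
      have h4 : CoalgebraStruct.counit (R := k) (dact A η a) = η a := by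
        simp only [dact_apply]
        have h5 := LinearMap.congr_fun (Coalgebra.rTensor_counit_comp_comul (R := k) (A := A)) a
        have h6 : ∀ y : A ⊗[k] A, CoalgebraStruct.counit (R := k) (contract A η y) =
            η (TensorProduct.lid k A ((CoalgebraStruct.counit (R := k) (A := A)).rTensor A y)) := fun y => by
          induction y using TensorProduct.induction_on with
          | zero => simp
          | tmul p q => simp [mul_comm]
          | add y z hy hz => simp only [map_add, hy, hz]
        change CoalgebraStruct.counit (R := k) (contract A η (CoalgebraStruct.comul (R := k) a)) = η a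
        simp only [LinearMap.comp_apply] at h5
        rw [h6, h5]
        simp
      rw [← h3, h4, Algebra.algebraMap_eq_smul_one]
    rw [h, AlgHom.toLinearMap_apply, AlgHom.commutes]
    rfl
  -- both sides are contractions by `η` of elements agreeing at all points
  have key : ∀ (g : A →ₐ[k] k) (w : W), dact R g.toLinearMap (homDact (A := A) η F w) =
      homDact (A := A) η F (dact W g.toLinearMap w) := by
    intro g w
    let L : A →ₗ[k] A := (TensorProduct.lid k A).toLinearMap ∘ₗ g.toLinearMap.rTensor A ∘ₗ
      CoalgebraStruct.comul (R := k) (A := A)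
    have hL : ∀ ψ : A →ₗ[k] k, ψ ∘ₗ L = conv g.toLinearMap ψ := fun ψ => LinearMap.ext fun a => by
      simp only [L, conv, LinearMap.comp_apply, LinearEquiv.coe_coe]
      induction CoalgebraStruct.comul (R := k) (A := A) a using TensorProduct.induction_on with
      | zero => simp
      | tmul p q => simp
      | add y z hy hz => simp only [map_add, hy, hz]
    have hLHS : ∀ ψ : A →ₗ[k] k, contract R ψ ((dact R g.toLinearMap).rTensor A (xi F w)) =
        dact R g.toLinearMap (contract R ψ (xi F w)) := fun ψ => contract_rTensor ψ _ _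
    have hRHS : ∀ ψ : A →ₗ[k] k, contract R ψ (L.lTensor R (xi F (dact W g.toLinearMap w))) =
        contract R (conv g.toLinearMap ψ) (xi F (dact W g.toLinearMap w)) := fun ψ => by
      rw [← hL, contract_lTensor]
    have heq : (dact R g.toLinearMap).rTensor A (xi F w) = L.lTensor R (xi F (dact W g.toLinearMap w)) := by
      refine ext_pt fun h => ?_
      rw [hLHS, hRHS, ← mulPt_toLinearMap, contract_xi_pt, contract_xi_pt, dact_dact, ← mulPt_toLinearMap,
        dact_dact, ← mulPt_toLinearMap]
      congr 3
      refine congrArg (fun p : A →ₐ[k] k => dact W p.toLinearMap) ?_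
      rw [show invPt (mulPt g h) = mulPt (invPt h) (invPt g) from ?_, OrbitDim.mulPt_assoc, invPt_mulPt,
        OrbitDim.mulPt_one]
      calc invPt (mulPt g h) = mulPt (invPt (mulPt g h)) (mulPt (mulPt g h) (mulPt (invPt h) (invPt g))) := by
            rw [OrbitDim.mulPt_assoc g, ← OrbitDim.mulPt_assoc h, mulPt_invPt, OrbitDim.one_mulPt,
              mulPt_invPt, OrbitDim.mulPt_one]
        _ = _ := by rw [← OrbitDim.mulPt_assoc (invPt (mulPt g h)), invPt_mulPt, OrbitDim.one_mulPt]
    have := congrArg (contract R η) heq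
    rw [hLHS, hRHS, hinv g] at this
    exact this
  refine LinearMap.ext fun w => ?_
  simp only [LinearMap.comp_apply]
  refine ext_pt fun g => ?_
  have e : ∀ y : W ⊗[k] A, contract R g.toLinearMap ((homDact (A := A) η F).rTensor A y) =
      homDact (A := A) η F (contract W g.toLinearMap y) := fun y => contract_rTensor g.toLinearMap _ y
  rw [e, ← dact_apply R, ← dact_apply W]
  exact key g w

/-- Twisting as an algebra map. -/
def twistHom : R ⊗[k] A →ₐ[k] R ⊗[k] A :=
  Algebra.TensorProduct.lift (GLin.coactAlgHom k A R) Algebra.TensorProduct.includeRight fun _ _ => Commute.all _ _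

theorem twistHom_eq (y : R ⊗[k] A) : twistHom y = twist R y := by
  induction y using TensorProduct.induction_on with
  | zero => simp
  | add y z hy hz => simp only [map_add, hy, hz]
  | tmul r a => rw [twist_tmul]; simp [twistHom]

variable (R) in
/-- Elements with all coefficients in an ideal. -/
abbrev ext' (J : Ideal R) : Ideal (R ⊗[k] A) := J.map (Algebra.TensorProduct.includeLeft : R →ₐ[k] R ⊗[k] A)

theorem contract_mem {J : Ideal R} {z : R ⊗[k] A} (hz : z ∈ ext' (A := A) R J) (ψ : A →ₗ[k] k) :
    contract R ψ z ∈ J := by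
  rw [ext', Ideal.map] at hz
  revert ψ
  induction hz using Submodule.span_induction with
  | mem y hy => obtain ⟨r, hr, rfl⟩ := hy; intro ψ; simpa using Submodule.smul_mem (J.restrictScalars k) (ψ 1) hr
  | zero => intro ψ; simp
  | add a b _ _ ha hb => intro ψ; rw [map_add]; exact add_mem (ha ψ) (hb ψ)
  | smul c y _ hy =>
    intro ψ
    induction c using TensorProduct.induction_on with
    | zero => simp
    | add c c' hc hc' =>
      simp only [smul_eq_mul, add_mul, map_add] at hc hc' ⊢
      exact add_mem hc hc'
    | tmul r a =>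
      have : ∀ y : R ⊗[k] A, contract R ψ ((r ⊗ₜ[k] a) • y) = r * contract R (ψ ∘ₗ LinearMap.mulLeft k a) y := by
        intro y
        rw [smul_eq_mul]
        induction y using TensorProduct.induction_on with
        | zero => simp
        | add y z hy hz => simp only [mul_add, map_add, hy, hz]
        | tmul s c => simp
      rw [this]
      exact J.mul_mem_left _ (hy _)

theorem mem_ext' {J : Ideal R} {z : R ⊗[k] A}
    (hz : z ∈ LinearMap.range ((J.restrictScalars k).subtype.rTensor A)) : z ∈ ext' (A := A) R J := by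
  obtain ⟨y, rfl⟩ := hz
  induction y using TensorProduct.induction_on with
  | zero => simp
  | add y z hy hz => rw [map_add]; exact add_mem hy hz
  | tmul r a =>
    rw [LinearMap.rTensor_tmul, show ((J.restrictScalars k).subtype r) ⊗ₜ[k] a =
      ((1 : R) ⊗ₜ[k] a) * ((r : R) ⊗ₜ[k] (1 : A)) by simp]
    exact Ideal.mul_mem_left _ _ (Ideal.mem_map_of_mem (Algebra.TensorProduct.includeLeft : R →ₐ[k] R ⊗[k] A) r.2)

theorem map_twistHom {J : Ideal R} (hJ : HopfRep.IsSubcomod (k := k) (A := A) (J.restrictScalars k))
    {z : R ⊗[k] A} (hz : z ∈ ext' (A := A) R J) : twistHom z ∈ ext' (A := A) R J := by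
  have h : (ext' (A := A) R J).map (twistHom (k := k) (A := A) (R := R)) ≤ ext' (A := A) R J := by
    rw [Ideal.map_le_iff_le_comap, ext', Ideal.map_le_iff_le_comap]
    intro r hr
    rw [Ideal.mem_comap, Ideal.mem_comap]
    have := mem_ext' (hJ r hr)
    simpa [twistHom, ext', ← Algebra.TensorProduct.one_def] using this
  exact h (Ideal.mem_map_of_mem _ hz)

/-- The coaction on polynomials in a basis of a comodule. -/
def coactX : MvPolynomial ι k →ₐ[k] MvPolynomial ι k ⊗[k] A :=
  MvPolynomial.aeval fun i => (bas.constr k MvPolynomial.X).rTensor A (HopfRep.Comod.coact (k := k) (A := A) (bas i))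

/-- Evaluation of polynomials at a linear map. -/
def evalAt (F : W →ₗ[k] R) : MvPolynomial ι k →ₐ[k] R := MvPolynomial.aeval fun i => F (bas i)

theorem evalAt_constr (F : W →ₗ[k] R) (w : W) : evalAt bas F (bas.constr k MvPolynomial.X w) = F w := by
  have : (evalAt bas F).toLinearMap ∘ₗ bas.constr k MvPolynomial.X = F := bas.ext fun i => by simp [evalAt]
  exact LinearMap.congr_fun this w

/-- Evaluation of polynomials at all translates. -/
def xiHom (F : W →ₗ[k] R) : MvPolynomial ι k →ₐ[k] R ⊗[k] A :=
  MvPolynomial.aeval fun i => xi (A := A) F (bas i)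

theorem xiHom_eq (F : W →ₗ[k] R) (P : MvPolynomial ι k) :
    xiHom (A := A) bas F P = twistHom (Algebra.TensorProduct.map (evalAt bas F)
      (HopfAlgebra.antipodeAlgHom k A) (coactX bas P)) := by
  refine AlgHom.congr_fun (MvPolynomial.algHom_ext (f := xiHom (A := A) bas F)
    (g := (twistHom.comp (Algebra.TensorProduct.map (evalAt bas F) (HopfAlgebra.antipodeAlgHom k A))).comp
      (coactX bas)) fun i => ?_) P
  simp only [xiHom, MvPolynomial.aeval_X, AlgHom.comp_apply, coactX, twistHom_eq, xi, LinearMap.comp_apply]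
  congr 1
  induction HopfRep.Comod.coact (k := k) (A := A) (bas i) using TensorProduct.induction_on with
  | zero => simp
  | add y z hy hz => simp only [map_add, hy, hz]
  | tmul w a => simp [evalAt_constr]

theorem xi_mem {J : Ideal R} (hJ : HopfRep.IsSubcomod (k := k) (A := A) (J.restrictScalars k))
    {F : W →ₗ[k] R} (hF : ∀ w, F w ∈ J) (w : W) : xi (A := A) F w ∈ ext' (A := A) R J := by
  simp only [xi, LinearMap.comp_apply, ← twistHom_eq]
  refine map_twistHom hJ (mem_ext' ?_)
  induction (HopfAlgebraStruct.antipode (R := k) (A := A)).lTensor W (HopfRep.Comod.coact (k := k) (A := A) w)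
    using TensorProduct.induction_on with
  | zero => simp
  | add y z hy hz => rw [map_add]; exact add_mem hy hz
  | tmul u a => exact ⟨(⟨F u, hF u⟩ : J.restrictScalars k) ⊗ₜ a, rfl⟩

variable [IsAlgClosed k] [IsDomain A] [Algebra.FiniteType k A] [Algebra.FiniteType k R]

/-- The relations of the orbit in terms of polynomials in a generating comodule. -/
def rel (x : R →ₐ[k] k) (inc : W →ₗ[k] R) : Ideal (MvPolynomial ι k) :=
  (orbitKer (A := A) x).comap (evalAt bas inc)

theorem mem_rel {x : R →ₐ[k] k} {inc : W →ₗ[k] R} {P : MvPolynomial ι k} :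
    P ∈ rel (A := A) bas x inc ↔ evalAt bas inc P ∈ orbitKer (A := A) x := Iff.rfl

theorem coactX_evalAt {φ : W →ₗ[k] R} (hφ : Hoch.IsComodHom A φ) (P : MvPolynomial ι k) :
    HopfRep.Comod.coact (k := k) (A := A) (evalAt bas φ P) =
      Algebra.TensorProduct.map (evalAt bas φ) (AlgHom.id k A) (coactX bas P) := by
  refine AlgHom.congr_fun (MvPolynomial.algHom_ext (f := (GLin.coactAlgHom k A R).comp (evalAt bas φ))
    (g := (Algebra.TensorProduct.map (evalAt bas φ) (AlgHom.id k A)).comp (coactX bas)) fun i => ?_) P
  simp only [AlgHom.comp_apply, evalAt, MvPolynomial.aeval_X, GLin.coactAlgHom_apply, coactX]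
  have h := LinearMap.congr_fun hφ (bas i)
  simp only [LinearMap.comp_apply] at h
  rw [h]
  induction HopfRep.Comod.coact (k := k) (A := A) (bas i) using TensorProduct.induction_on with
  | zero => simp
  | add y z hy hz => simp only [map_add, hy, hz]
  | tmul w a =>
    simp only [LinearMap.rTensor_tmul, Algebra.TensorProduct.map_tmul, AlgHom.id_apply]
    congr 1
    exact (evalAt_constr bas φ w).symm

theorem contract_map (f : MvPolynomial ι k →ₐ[k] R) (ψ : A →ₗ[k] k) (y : MvPolynomial ι k ⊗[k] A) :
    contract R ψ (Algebra.TensorProduct.map f (AlgHom.id k A) y) = f (contract _ ψ y) := by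
  induction y using TensorProduct.induction_on with
  | zero => simp
  | add y z hy hz => simp only [map_add, hy, hz]
  | tmul p a => simp

theorem rel_stable {x : R →ₐ[k] k} {inc : W →ₗ[k] R} (hinc : Hoch.IsComodHom A inc)
    {P : MvPolynomial ι k} (hP : P ∈ rel (A := A) bas x inc) (ψ : A →ₗ[k] k) :
    contract (MvPolynomial ι k) ψ (coactX bas P) ∈ rel (A := A) bas x inc := by
  rw [mem_rel, ← contract_map, ← coactX_evalAt bas hinc, ← dact_apply]
  exact dact_mem (isSubcomod_orbitKer x) ψ hP

theorem mem_range_coactX {x : R →ₐ[k] k} {inc : W →ₗ[k] R} (hinc : Hoch.IsComodHom A inc)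
    {P : MvPolynomial ι k} (hP : P ∈ rel (A := A) bas x inc) :
    coactX bas P ∈ LinearMap.range (((rel (A := A) bas x inc).restrictScalars k).subtype.rTensor A) :=
  (mem_range_rTensor_iff _ _).2 fun ψ => rel_stable bas hinc hP ψ

/-- Approximate equivariant retractions onto a closed orbit exist to every order. -/
theorem exists_approx [CharZero k] (hG : HopfRep.IsLinearlyReductive k A) {x : R →ₐ[k] k}
    (hx : GLin.IsClosedOrbit k A x) {inc : W →ₗ[k] R} (hinc : Hoch.IsComodHom A inc)
    (hsurj : Function.Surjective (evalAt bas inc)) (n : ℕ) :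
    ∃ φ : W →ₗ[k] R, Hoch.IsComodHom A φ ∧
      ∀ P ∈ rel (A := A) bas x inc, evalAt bas φ P ∈ orbitKer (A := A) x ^ (n + 1) := by
  set J := orbitKer (A := A) x with hJdef
  haveI : IsReduced A := inferInstance
  obtain ⟨η, hη1, hη⟩ := exists_haar hG
  induction n with
  | zero => exact ⟨inc, hinc, fun P hP => by rw [pow_one]; exact hP⟩
  | succ n ih =>
    obtain ⟨φ, hφ, hφK⟩ := ih
    set J1 := J ^ (n + 1)
    set J2 := J ^ (n + 1 + 1)
    have hJ1 : HopfRep.IsSubcomod (k := k) (A := A) (J1.restrictScalars k) :=
      Luna.isSubcomod_ideal_pow (isSubcomod_orbitKer x) _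
    have hJ2 : HopfRep.IsSubcomod (k := k) (A := A) (J2.restrictScalars k) :=
      Luna.isSubcomod_ideal_pow (isSubcomod_orbitKer x) _
    have h12 : J2 ≤ J1 := Ideal.pow_le_pow_right (Nat.le_succ _)
    -- a non-equivariant lift
    let K := rel (A := A) bas x inc
    have hKker : K = RingHom.ker ((Ideal.Quotient.mkₐ k J).comp (evalAt bas inc)) := Ideal.ext fun P => by
      rw [RingHom.mem_ker, AlgHom.comp_apply, Ideal.Quotient.mkₐ_eq_mk, Ideal.Quotient.eq_zero_iff_mem]
      rfl
    let e : (MvPolynomial ι k ⧸ K) ≃ₐ[k] R ⧸ J := (Ideal.quotientEquivAlgOfEq k hKker).trans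
      (Ideal.quotientKerAlgEquivOfSurjective
        (f := (Ideal.Quotient.mkₐ k J).comp (evalAt bas inc)) (Ideal.Quotient.mk_surjective.comp hsurj))
    haveI : Algebra.FormallySmooth k (R ⧸ J) := OrbitSmooth.formallySmooth x hx
    haveI : Algebra.FormallySmooth k (MvPolynomial ι k ⧸ K) := Algebra.FormallySmooth.of_equiv e.symm
    let g : (MvPolynomial ι k ⧸ K) →ₐ[k] R ⧸ J1 :=
      Ideal.Quotient.liftₐ K ((Ideal.Quotient.mkₐ k J1).comp (evalAt bas φ)) fun P hP =>
        Ideal.Quotient.eq_zero_iff_mem.2 (hφK P hP)
    let q : R ⧸ J2 →ₐ[k] R ⧸ J1 := Ideal.Quotient.factorₐ k h12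
    have hq : IsNilpotent (RingHom.ker (q : R ⧸ J2 →+* R ⧸ J1)) := by
      refine ⟨2, ?_⟩
      rw [show RingHom.ker (q : R ⧸ J2 →+* R ⧸ J1) = J1.map (Ideal.Quotient.mk J2) from ?_, ← Ideal.map_pow,
        Ideal.zero_eq_bot, Ideal.map_eq_bot_iff_le_ker, Ideal.mk_ker, ← pow_mul]
      · exact Ideal.pow_le_pow_right (by omega)
      · exact Ideal.Quotient.factor_ker h12
    let g' := Algebra.FormallySmooth.liftOfSurjective g q (Ideal.Quotient.factor_surjective h12) hq
    have hg' : ∀ z, q (g' z) = g z := Algebra.FormallySmooth.liftOfSurjective_apply _ _ _ _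
    choose r hr using fun i => Ideal.Quotient.mk_surjective (g' (Ideal.Quotient.mk K (MvPolynomial.X i)))
    let F : W →ₗ[k] R := bas.constr k r
    have hFK : ∀ P ∈ K, evalAt bas F P ∈ J2 := by
      intro P hP
      have h : (Ideal.Quotient.mkₐ k J2).comp (evalAt bas F) = g'.comp (Ideal.Quotient.mkₐ k K) :=
        MvPolynomial.algHom_ext fun i => by simp [F, evalAt, hr]
      rw [← Ideal.Quotient.eq_zero_iff_mem]
      refine (AlgHom.congr_fun h P).trans ?_
      rw [AlgHom.comp_apply, Ideal.Quotient.mkₐ_eq_mk, Ideal.Quotient.eq_zero_iff_mem.2 hP, map_zero]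
    have hFφ : ∀ w, (F - φ) w ∈ J1 := by
      have h : (Ideal.Quotient.mkₐ k J1).toLinearMap ∘ₗ F = (Ideal.Quotient.mkₐ k J1).toLinearMap ∘ₗ φ := by
        refine bas.ext fun i => ?_
        simp only [LinearMap.comp_apply, AlgHom.toLinearMap_apply, F, Module.Basis.constr_basis]
        have h1 := hg' (Ideal.Quotient.mk K (MvPolynomial.X i))
        rw [← hr] at h1
        refine h1.trans ?_
        simp [g, evalAt]
      intro w
      exact Ideal.Quotient.eq.1 (LinearMap.congr_fun h w)
    let φ' : W →ₗ[k] R := homDact (A := A) η F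
    refine ⟨φ', isComodHom_homDact hη1 hη F, ?_⟩
    have hρ : ∀ r : R, contract R η (r ⊗ₜ[k] (1 : A)) = r := fun r => by rw [contract_tmul, hη1, one_smul]
    have hφ' : ∀ w, φ' w - φ w ∈ J1 := fun w => by
      have h1 : φ' w - φ w = contract R η (xi F w - xi φ w) := by
        rw [map_sub, xi_of_isComodHom hφ, hρ]; rfl
      rw [h1]
      refine contract_mem ?_ η
      have h2 : xi (A := A) (F - φ) w = xi F w - xi φ w := by
        simp [xi, LinearMap.rTensor_sub]
      rw [← h2]
      exact xi_mem hJ1 hFφ w
    have hprod : ∀ u v, u ∈ ext' (A := A) R J1 → v ∈ ext' (A := A) R J1 → contract R η (u * v) ∈ J2 := by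
      intro u v hu hv
      refine contract_mem ?_ η
      have h := Ideal.mul_mem_mul hu hv
      rw [← Ideal.map_mul, ← pow_add] at h
      exact Ideal.map_mono (Ideal.pow_le_pow_right (by omega)) h
    have hind : ∀ P, contract R η (xiHom (A := A) bas F P) - evalAt bas φ' P ∈ J2 ∧
        xiHom (A := A) bas F P - evalAt bas φ' P ⊗ₜ[k] (1 : A) ∈ ext' (A := A) R J1 := by
      intro P
      induction P using MvPolynomial.induction_on with
      | C a =>
        simp only [MvPolynomial.algHom_C, Algebra.TensorProduct.algebraMap_apply, hρ, sub_self, zero_mem, and_self]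
      | add P Q hP hQ =>
        simp only [map_add, TensorProduct.add_tmul, add_sub_add_comm]
        exact ⟨add_mem hP.1 hQ.1, add_mem hP.2 hQ.2⟩
      | mul_X P i hP =>
        set a := evalAt bas φ' P
        set b := φ' (bas i)
        set u := xiHom (A := A) bas F P - a ⊗ₜ[k] (1 : A)
        set v := xi (A := A) F (bas i) - b ⊗ₜ[k] (1 : A)
        have hv : v ∈ ext' (A := A) R J1 := by
          have e : v = xi (A := A) (F - φ) (bas i) - (b - φ (bas i)) ⊗ₜ[k] (1 : A) := by
            simp only [v, xi, LinearMap.rTensor_sub, LinearMap.comp_apply, LinearMap.sub_apply, map_sub,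
              TensorProduct.sub_tmul]
            rw [show twist R (φ.rTensor A ((HopfAlgebraStruct.antipode (R := k) (A := A)).lTensor W
              (HopfRep.Comod.coact (k := k) (A := A) (bas i)))) = φ (bas i) ⊗ₜ[k] (1 : A) from
                xi_of_isComodHom hφ (bas i)]
            abel
          rw [e]
          exact sub_mem (xi_mem hJ1 hFφ _) (Ideal.mem_map_of_mem
            (Algebra.TensorProduct.includeLeft : R →ₐ[k] R ⊗[k] A) (hφ' _))
        have hρv : contract R η v = 0 := by
          rw [map_sub, hρ]; exact sub_self _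
        have e1 : xiHom (A := A) bas F (P * MvPolynomial.X i) =
            (a * b) ⊗ₜ[k] (1 : A) + ((a ⊗ₜ[k] (1 : A)) * v + (b ⊗ₜ[k] (1 : A)) * u + u * v) := by
          rw [map_mul, show xiHom (A := A) bas F P = a ⊗ₜ[k] (1 : A) + u by simp [u],
            show xiHom (A := A) bas F (MvPolynomial.X i) = b ⊗ₜ[k] (1 : A) + v by simp [v, xiHom],
            show (a * b) ⊗ₜ[k] (1 : A) = (a ⊗ₜ[k] (1 : A)) * (b ⊗ₜ[k] (1 : A)) by simp]
          ring
        have e2 : evalAt bas φ' (P * MvPolynomial.X i) = a * b := by simp [a, b, evalAt]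
        have hmulc : ∀ (r : R) (z : R ⊗[k] A), contract R η ((r ⊗ₜ[k] (1 : A)) * z) = r * contract R η z := by
          intro r z
          induction z using TensorProduct.induction_on with
          | zero => simp
          | add y z hy hz => simp only [mul_add, map_add, hy, hz]
          | tmul s c => simp
        rw [e2, e1]
        simp only [map_add, hρ, add_sub_cancel_left, hmulc, hρv, mul_zero, zero_add]
        refine ⟨add_mem (J2.mul_mem_left _ ?_) (hprod u v hP.2 hv),
          add_mem (add_mem (Ideal.mul_mem_left _ _ hv) (Ideal.mul_mem_left _ _ hP.2)) (Ideal.mul_mem_left _ _ hv)⟩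
        rw [map_sub, hρ]
        exact hP.1
    intro P hP
    have hxP : xiHom (A := A) bas F P ∈ ext' (A := A) R J2 := by
      rw [xiHom_eq]
      refine map_twistHom hJ2 (mem_ext' ?_)
      obtain ⟨y, hy⟩ := mem_range_coactX bas hinc hP
      rw [← hy]
      clear hy
      induction y using TensorProduct.induction_on with
      | zero => simp
      | add y z hy hz => simp only [map_add]; exact add_mem hy hz
      | tmul p a => exact ⟨(⟨_, hFK p p.2⟩ : J2.restrictScalars k) ⊗ₜ
          HopfAlgebraStruct.antipode (R := k) (A := A) a, rfl⟩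
    have := sub_mem (contract_mem hxP η) (hind P).1
    rwa [sub_sub_cancel] at this

end

end Groth.Agent.H60.SliceLift
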