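import Groth.Agent.H60.FreeOrbit
import Groth.Agent.Lib.Comod.Cartier
import Groth.Agent.Lib.Comod.Orbits2
import Mathlib.RingTheory.HopfAlgebra.GroupLike
import Mathlib.RingTheory.Adjoin.FG

/-! A character trivial on the stabiliser of a point with closed orbit is the restriction of a
semi-invariant function. -/

set_option autoImplicit false
universe u

open TensorProduct
open Groth.Agent.Lib.Comod.Basic Groth.Agent.Lib.Comod.Reynolds Groth.Agent.Lib.Comod.Orbits
open Groth.Agent.H60.FreeOrbit

namespace Groth.Agent.H60.StabChar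

variable {k : Type u} [Field k] {A : Type u} [CommRing A] [HopfAlgebra k A]
variable {R : Type u} [CommRing R] [Algebra k R] [HopfRep.Comod k A R] [GLin.IsCoactAlg k A R]

theorem dact_groupLike {χ : A} (hχ : IsGroupLikeElem k χ) (ψ : A →ₗ[k] k) :
    dact A ψ χ = ψ χ • χ := by
  rw [dact_apply]
  change contract (V := A) ψ (CoalgebraStruct.comul χ) = _
  rw [hχ.comul_eq_tmul_self, contract_tmul]

theorem exists_indep {B : Type u} [CommRing B] [IsDomain B] [Algebra B A] [IsDomain A]
    (T : Finset A) (hinj : Function.Injective (algebraMap B A)) :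
    ∃ (E : Finset A), (1 : A) ∈ E ∧ LinearIndepOn B id (E : Set A) ∧
      ∃ d : B, d ≠ 0 ∧ ∀ t ∈ T, d • t ∈ Submodule.span B (E : Set A) := by
  classical
  induction T using Finset.induction_on with
  | empty =>
    refine ⟨{1}, by simp, ?_, 1, one_ne_zero, by simp⟩
    rw [linearIndepOn_finset_iff]
    intro f hf i hi
    rw [Finset.mem_singleton] at hi
    subst hi
    rw [Finset.sum_singleton, id, Algebra.smul_def, mul_one] at hf
    exact hinj (hf.trans (map_zero _).symm)
  | insert t T ht ih =>
    obtain ⟨E, h1, hE, d, hd, hT⟩ := ih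
    by_cases hli : LinearIndepOn B id ((insert t E : Finset A) : Set A)
    · refine ⟨insert t E, Finset.mem_insert_of_mem h1, hli, d, hd, fun s hs => ?_⟩
      rcases Finset.mem_insert.1 hs with rfl | hs
      · exact Submodule.smul_mem _ _ (Submodule.subset_span (Finset.mem_coe.2 (Finset.mem_insert_self _ _)))
      · exact Submodule.span_mono (Finset.coe_subset.2 (Finset.subset_insert t E)) (hT s hs)
    · rw [linearIndepOn_finset_iff] at hli
      push Not at hli
      obtain ⟨f, hf, i, hi, hfi⟩ := hli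
      by_cases htE : t ∈ E
      · refine ⟨E, h1, hE, d, hd, fun s hs => ?_⟩
        rcases Finset.mem_insert.1 hs with rfl | hs
        · exact Submodule.smul_mem _ _ (Submodule.subset_span htE)
        · exact hT s hs
      rw [Finset.sum_insert htE] at hf
      have hft : f t ≠ 0 := by
        intro h0
        rw [h0, zero_smul, zero_add] at hf
        rcases Finset.mem_insert.1 hi with rfl | hiE
        · exact hfi h0
        · exact hfi ((linearIndepOn_finset_iff.1 hE) f hf i hiE)
      refine ⟨E, h1, hE, f t * d, mul_ne_zero hft hd, fun s hs => ?_⟩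
      rcases Finset.mem_insert.1 hs with rfl | hs
      · rw [mul_comm, mul_smul]
        refine Submodule.smul_mem _ _ ?_
        rw [show f s • s = -∑ x ∈ E, f x • x from eq_neg_of_add_eq_zero_left hf]
        exact Submodule.neg_mem _ (Submodule.sum_mem _ fun x hx =>
          Submodule.smul_mem _ _ (Submodule.subset_span hx))
      · rw [mul_smul]; exact Submodule.smul_mem _ _ (hT s hs)

theorem mulPt_cancel (h h₀ : A →ₐ[k] k) : mulPt h (mulPt (invPt h) h₀) = h₀ := by
  refine AlgHom.ext fun a => ?_
  calc mulPt h (mulPt (invPt h) h₀) a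
      = h (dact A (mulPt (invPt h) h₀).toLinearMap a) := by
        rw [← AlgHom.toLinearMap_apply h, dact_regular, ← mulPt_toLinearMap]; rfl
    _ = h (dact A (invPt h).toLinearMap (dact A h₀.toLinearMap a)) := by
        rw [mulPt_toLinearMap, dact_dact]
    _ = h₀ a := by
        rw [← AlgHom.toLinearMap_apply h, dact_regular, ← mulPt_toLinearMap, mulPt_invPt]
        exact Groth.Agent.Lib.Comod.Cartier.counit_inv h₀.toLinearMap a

variable [IsAlgClosed k] [Algebra.FiniteType k A] [Algebra.FiniteType k R]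

/-- A character trivial on the stabiliser of a point with closed orbit lies in the coordinate ring of
the orbit. -/
theorem mem_range_orbitHom [IsDomain A] (x : R →ₐ[k] k) (hx : GLin.IsClosedOrbit k A x) {χ : A}
    (hχ : IsGroupLikeElem k χ) (hstab : χ - 1 ∈ GLin.stabIdeal k A x) :
    χ ∈ (GLin.orbitHom k A x).range := by
  classical
  set B : Subalgebra k A := (GLin.orbitHom k A x).range with hB
  have hBT : ∀ (g : A →ₐ[k] k) (b : A), b ∈ B → dact A g.toLinearMap b ∈ B := by
    rintro g _ ⟨r, rfl⟩
    exact ⟨dact R g.toLinearMap r, map_dact (isComodHom_orbitHom x) g.toLinearMap r⟩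
  have hTmul : ∀ (g : A →ₐ[k] k) (a b : A),
      dact A g.toLinearMap (a * b) = dact A g.toLinearMap a * dact A g.toLinearMap b := fun g a b => by
    simp only [← Groth.Agent.Lib.Comod.Cartier.trans_apply, map_mul]
  have happly : ∀ (h g : A →ₐ[k] k) (a : A), h (dact A g.toLinearMap a) = mulPt h g a := fun h g a => by
    have := dact_regular h.toLinearMap g.toLinearMap a
    rw [← mulPt_toLinearMap] at this
    exact this
  -- write `χ - 1` with finitely many coefficients
  obtain ⟨W, hWfg, hW, hWs, b', hb', hsum⟩ : ∃ W : Submodule k A, W.FG ∧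
      HopfRep.IsSubcomod (k := k) (A := A) W ∧ ({1, χ} : Set A) ⊆ W ∧
      ∃ b : Finset (A × A), (∀ p ∈ b, (p.1 ∈ B ∧ Bialgebra.counitAlgHom k A p.1 = 0) ∧ p.2 ∈ W) ∧
        χ - 1 = ∑ p ∈ b, p.1 * p.2 := by
    rw [GLin.stabIdeal, Ideal.map, Ideal.span, Submodule.mem_span_iff_exists_finset_subset] at hstab
    obtain ⟨f, S, hS, -, hf⟩ := hstab
    obtain ⟨W, hWfg, hW, hWs⟩ := exists_subcomod_fg (k := k) (A := A) (V := A) (insert 1 (insert χ (S.image f)))
    refine ⟨W, hWfg, hW, ?_, S.image (fun s => (s, f s)), ?_, ?_⟩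
    · intro y hy
      refine hWs ?_
      rcases hy with rfl | rfl <;> simp
    · intro p hp
      obtain ⟨s, hs, rfl⟩ := Finset.mem_image.1 hp
      obtain ⟨r, hr, rfl⟩ := hS hs
      refine ⟨⟨⟨r, rfl⟩, ?_⟩, hWs (by simp only [Finset.coe_insert, Set.mem_insert_iff]; exact Or.inr (Or.inr (Finset.mem_coe.2 (Finset.mem_image_of_mem _ hs))))⟩
      have := apply_orbitHom x (CoalgebraStruct.counit (R := k) (A := A)) r
      rw [dact_counit_apply] at this
      exact this.trans (RingHom.mem_ker.1 hr)
    · rw [Finset.sum_image (fun a _ b _ h => congrArg Prod.fst h), ← hf]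
      exact Finset.sum_congr rfl fun s _ => by rw [smul_eq_mul, mul_comm]
  obtain ⟨T, hT⟩ := hWfg
  haveI : IsDomain B := inferInstance
  obtain ⟨E, h1E, hEli, d, hd, hdT⟩ := exists_indep (B := B) T Subtype.val_injective
  have hdW : ∀ w ∈ W, d • w ∈ Submodule.span B (E : Set A) := by
    intro w hw
    rw [← hT] at hw
    induction hw using Submodule.span_induction with
    | mem y hy => exact hdT y hy
    | zero => rw [smul_zero]; exact zero_mem _
    | add y z _ _ hy hz => rw [smul_add]; exact add_mem hy hz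
    | smul c y _ hy =>
      have : d • c • y = (algebraMap k B c) • (d • y) := by
        simp only [Subalgebra.smul_def, Algebra.smul_def, Subalgebra.coe_algebraMap]
        change (d : A) * (algebraMap k A c * y) = algebraMap k A c * ((d : A) * y)
        ring
      rw [this]; exact Submodule.smul_mem _ _ hy
  let bas := Module.Basis.span hEli.linearIndependent
  -- the coordinates
  have hrange : Submodule.span B (Set.range fun e : (E : Set A) => id (e : A)) = Submodule.span B (E : Set A) := by
    congr 1; ext y; simp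
  let L : ∀ w ∈ W, ((E : Set A) →₀ B) := fun w hw =>
    bas.repr ⟨d • w, hrange ▸ hdW w hw⟩
  have hrepr : ∀ (y : A) (hy : y ∈ Submodule.span B (Set.range fun e : (E : Set A) => id (e : A))),
      ∑ e : (E : Set A), bas.repr ⟨y, hy⟩ e • (e : A) = y := fun y hy => by
    have := congrArg Subtype.val (bas.sum_repr ⟨y, hy⟩)
    simpa [bas, Submodule.coe_sum, Module.Basis.span_apply] using this
  have hχW : χ ∈ W := hWs (by simp)
  have h1W : (1 : A) ∈ W := hWs (by simp)
  have hdχ : ∀ e : (E : Set A), (e : A) ≠ 1 → L χ hχW e = 0 := by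
    intro e he
    refine Subtype.ext (IsNilpotent.eq_zero (Groth.Agent.Lib.Comod.Orbits2.isNilpotent_of_forall_pt (k := k) fun h => ?_))
    let g : A →ₐ[k] k := invPt h
    have hg : ∀ a, h (dact A g.toLinearMap a) = Bialgebra.counitAlgHom k A a := fun a => by
      rw [happly, mulPt_invPt]
    have hgc : g χ ≠ 0 := ((hχ.isUnit).map g).ne_zero
    let Mh : Submodule B A :=
      { carrier := {y | ∃ hy : y ∈ Submodule.span B (Set.range fun e : (E : Set A) => id (e : A)),
          h ((bas.repr ⟨y, hy⟩ e : B) : A) = 0}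
        add_mem' := by
          rintro a b ⟨ha, ha'⟩ ⟨hb, hb'⟩
          refine ⟨add_mem ha hb, ?_⟩
          rw [show (⟨a + b, add_mem ha hb⟩ : Submodule.span B _) = ⟨a, ha⟩ + ⟨b, hb⟩ from rfl, map_add,
            Finsupp.add_apply, Subalgebra.coe_add, map_add, ha', hb', add_zero]
        zero_mem' := ⟨zero_mem _, by
          rw [show (⟨0, zero_mem _⟩ : Submodule.span B (Set.range fun e : (E : Set A) => id (e : A))) = 0 from rfl, map_zero]; simp⟩
        smul_mem' := by
          rintro c a ⟨ha, ha'⟩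
          refine ⟨Submodule.smul_mem _ c ha, ?_⟩
          rw [show (⟨c • a, Submodule.smul_mem _ c ha⟩ : Submodule.span B _) = c • ⟨a, ha⟩ from rfl, map_smul,
            Finsupp.smul_apply, smul_eq_mul, Subalgebra.coe_mul, map_mul, ha', mul_zero] }
    have hmem : d • (g χ • χ - 1) ∈ Mh := by
      have hT' : g χ • χ - 1 = ∑ p ∈ b', dact A g.toLinearMap p.1 * dact A g.toLinearMap p.2 := by
        have h1 : dact A g.toLinearMap (1 : A) = 1 := by
          rw [← Groth.Agent.Lib.Comod.Cartier.trans_apply, map_one]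
        have := congrArg (dact A g.toLinearMap) hsum
        rw [map_sub, dact_groupLike hχ, h1, map_sum] at this
        simpa only [hTmul, AlgHom.toLinearMap_apply] using this
      rw [hT', Finset.smul_sum]
      refine Submodule.sum_mem _ fun p hp => ?_
      obtain ⟨⟨hp1, hp2⟩, hp3⟩ := hb' p hp
      have hw : d • dact A g.toLinearMap p.2 ∈ Submodule.span B (Set.range fun e : (E : Set A) => id (e : A)) :=
        hrange ▸ hdW _ (dact_mem hW _ hp3)
      have heq : d • (dact A g.toLinearMap p.1 * dact A g.toLinearMap p.2) =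
          (⟨_, hBT g _ hp1⟩ : B) • (d • dact A g.toLinearMap p.2) := by
        simp only [Subalgebra.smul_def, smul_eq_mul]; ring
      rw [heq]
      refine ⟨Submodule.smul_mem _ _ hw, ?_⟩
      rw [show (⟨_, Submodule.smul_mem _ (⟨_, hBT g _ hp1⟩ : B) hw⟩ : Submodule.span B _) =
          (⟨_, hBT g _ hp1⟩ : B) • ⟨_, hw⟩ from rfl, map_smul, Finsupp.smul_apply, smul_eq_mul,
        Subalgebra.coe_mul, map_mul]
      change h (dact A g.toLinearMap p.1) * _ = 0
      rw [hg, hp2, zero_mul]
    obtain ⟨hy, hy'⟩ := hmem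
    have hsub : (⟨d • (g χ • χ - 1), hy⟩ : Submodule.span B _) =
        (algebraMap k B (g χ)) • (⟨d • χ, hrange ▸ hdW χ hχW⟩ : Submodule.span B _) - d • bas ⟨1, h1E⟩ := by
      refine Subtype.ext ?_
      simp only [AddSubgroupClass.coe_sub, Submodule.coe_smul, bas, Module.Basis.span_apply, id_eq]
      rw [algebraMap_smul, smul_sub, smul_comm]
    rw [hsub, map_sub, map_smul, map_smul, Module.Basis.repr_self, Finsupp.sub_apply, Finsupp.smul_apply,
      Finsupp.smul_apply, Finsupp.single_apply, if_neg (fun hh => he (congrArg Subtype.val hh).symm),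
      smul_zero, sub_zero, smul_eq_mul, Subalgebra.coe_mul, map_mul] at hy'
    refine (mul_eq_zero.1 hy').resolve_left ?_
    rw [Subalgebra.coe_algebraMap, AlgHom.commutes]
    exact hgc
  -- the conductor
  have hdmem : (d : A) * χ ∈ B := by
    have := hrepr (d • χ) (hrange ▸ hdW χ hχW)
    rw [Finset.sum_eq_single ⟨1, h1E⟩ (fun e _ he => by
      rw [show bas.repr _ e = 0 from hdχ e (fun h => he (Subtype.ext h)), zero_smul]) (by simp)] at this
    have this2 : ((bas.repr ⟨d • χ, hrange ▸ hdW χ hχW⟩ ⟨1, h1E⟩ : B) : A) * 1 = (d : A) * χ := this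
    rw [mul_one] at this2
    exact Set.mem_of_eq_of_mem this2.symm (SetLike.coe_mem _)
  let C : Ideal B :=
    { carrier := {b | (b : A) * χ ∈ B}
      add_mem' := fun {a b} ha hb => by simpa [add_mul] using add_mem ha hb
      zero_mem' := by simp
      smul_mem' := fun c b hb => by
        simpa [mul_assoc] using mul_mem c.2 hb }
  by_contra hne
  have hC : C ≠ ⊤ := fun h => hne (by
    have h1 : (1 : B) ∈ C := h ▸ Submodule.mem_top
    simpa [C] using h1)
  haveI : Algebra.FiniteType k B :=
    Algebra.FiniteType.of_surjective (GLin.orbitHom k A x).rangeRestrict (GLin.orbitHom k A x).rangeRestrict_surjective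
  obtain ⟨z, hz⟩ := exists_pt (k := k) hC
  obtain ⟨h, hh⟩ := inOrbit_of_isClosedOrbit hx (z := z.comp (GLin.orbitHom k A x).rangeRestrict) fun r hr => by
    rw [RingHom.mem_ker] at hr ⊢
    rw [AlgHom.comp_apply, show (GLin.orbitHom k A x).rangeRestrict r = 0 from Subtype.ext hr, map_zero]
  obtain ⟨h₀, hh₀⟩ : ∃ h₀ : A →ₐ[k] k, h₀ d ≠ 0 := by
    by_contra hcon
    push Not at hcon
    exact hd (Subtype.ext (IsNilpotent.eq_zero (Groth.Agent.Lib.Comod.Orbits2.isNilpotent_of_forall_pt (k := k) hcon)))
  let g : A →ₐ[k] k := mulPt (invPt h) h₀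
  have hgC : (⟨_, hBT g _ d.2⟩ : B) ∈ C := by
    change dact A g.toLinearMap (d : A) * χ ∈ B
    have h1 := hBT g _ hdmem
    rw [hTmul, dact_groupLike hχ, mul_smul_comm] at h1
    have hg0 : g χ ≠ 0 := ((hχ.isUnit).map g).ne_zero
    have h2 := B.smul_mem h1 (g χ)⁻¹
    rwa [smul_smul, AlgHom.toLinearMap_apply, inv_mul_cancel₀ hg0, one_smul] at h2
  have h3 := hz hgC
  rw [RingHom.mem_ker] at h3
  obtain ⟨r, hr⟩ := hBT g _ d.2
  have h4 : z ((GLin.orbitHom k A x).rangeRestrict r) = h ((GLin.orbitHom k A x) r) := AlgHom.congr_fun hh r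
  rw [show (GLin.orbitHom k A x).rangeRestrict r = (⟨_, hBT g _ d.2⟩ : B) from Subtype.ext hr, h3] at h4
  change 0 = h (GLin.orbitHom k A x r) at h4
  rw [show (GLin.orbitHom k A x) r = dact A g.toLinearMap d from hr, ← AlgHom.toLinearMap_apply,
    dact_regular, ← mulPt_toLinearMap] at h4
  rw [← mulPt_cancel h h₀] at hh₀
  exact hh₀ h4.symm

/-- A semi-invariant of weight `χ` not vanishing at `x`. -/
theorem exists_eigen [IsDomain A] (hG : HopfRep.IsLinearlyReductive k A) (x : R →ₐ[k] k)
    (hx : GLin.IsClosedOrbit k A x) {χ : A}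
    (hχ : IsGroupLikeElem k χ) (hstab : χ - 1 ∈ GLin.stabIdeal k A x) :
    ∃ h ∈ HopfRep.eigenspace k A R χ, x h = 1 := by
  obtain ⟨r, hr⟩ := mem_range_orbitHom x hx hχ hstab
  obtain ⟨S, hS, hc⟩ := exists_isCompl hG (isSubcomod_orbitKer (A := A) x)
  obtain ⟨u, hu, h, hh, rfl⟩ := Submodule.mem_sup.1 (hc.sup_eq_top.ge (Submodule.mem_top (x := r)))
  have hhr : GLin.orbitHom k A x h = χ := by
    change GLin.orbitHom k A x (u + h) = χ at hr
    rwa [map_add, RingHom.mem_ker.1 hu, zero_add] at hr
  refine ⟨h, mem_eigenspace_iff.2 fun ψ => ?_, ?_⟩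
  · have h1 : dact R ψ h - ψ χ • h ∈ S := sub_mem (dact_mem hS ψ hh) (Submodule.smul_mem _ _ hh)
    have h2 : dact R ψ h - ψ χ • h ∈ (orbitKer (A := A) x).restrictScalars k := by
      change dact R ψ h - ψ χ • h ∈ orbitKer (A := A) x
      rw [RingHom.mem_ker, map_sub, map_smul, hhr, sub_eq_zero]
      exact (map_dact (isComodHom_orbitHom x) ψ h).trans ((congrArg _ hhr).trans (dact_groupLike hχ ψ))
    exact sub_eq_zero.1 (Submodule.disjoint_def.1 hc.disjoint _ h2 h1)
  · have := apply_orbitHom x (CoalgebraStruct.counit (R := k) (A := A)) h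
    rw [dact_counit_apply, hhr, hχ.counit_eq_one] at this
    exact this.symm

end Groth.Agent.H60.StabChar
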