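import Groth.Agent.H60.StabChar
import Groth.Agent.H60.OrbitDim

/-! A function on an orbit invariant under the stabiliser of a point with closed orbit factors
through that orbit. -/

set_option autoImplicit false
set_option linter.unusedSectionVars false
universe u

open TensorProduct
open Groth.Agent.Lib.Comod.Basic Groth.Agent.Lib.Comod.Reynolds Groth.Agent.Lib.Comod.Orbits
open Groth.Agent.H60.FreeOrbit Groth.Agent.H60.StabChar

namespace Groth.Agent.H60.StabFun

variable {k : Type u} [Field k] [IsAlgClosed k] {A : Type u} [CommRing A] [IsDomain A]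
  [HopfAlgebra k A] [Algebra.FiniteType k A]
variable {R : Type u} [CommRing R] [Algebra k R] [HopfRep.Comod k A R] [GLin.IsCoactAlg k A R]
variable {S : Type u} [CommRing S] [Algebra k S] [Algebra.FiniteType k S] [HopfRep.Comod k A S]
  [GLin.IsCoactAlg k A S]

/-- If the stabiliser of `y` is contained in that of `x` and the orbit of `y` is closed, then the
orbit morphism of `y` dominates that of `x`. -/
theorem range_orbitHom_le (x : R →ₐ[k] k) (y : S →ₐ[k] k) (hy : GLin.IsClosedOrbit k A y)
    (hstab : GLin.stabIdeal k A x ≤ GLin.stabIdeal k A y) :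
    (GLin.orbitHom k A x).range ≤ (GLin.orbitHom k A y).range := by
  classical
  set B : Subalgebra k A := (GLin.orbitHom k A y).range with hB
  rintro _ ⟨r₀, rfl⟩
  obtain ⟨W₀R, hW₀fg, hW₀R, hr₀⟩ := exists_subcomod_fg (k := k) (A := A) (V := R) {r₀}
  have hBT : ∀ (g : A →ₐ[k] k) (b : A), b ∈ B → dact A g.toLinearMap b ∈ B := by
    rintro g _ ⟨r, rfl⟩
    exact ⟨dact S g.toLinearMap r, map_dact (isComodHom_orbitHom y) g.toLinearMap r⟩
  have hTmul : ∀ (g : A →ₐ[k] k) (a b : A),
      dact A g.toLinearMap (a * b) = dact A g.toLinearMap a * dact A g.toLinearMap b := fun g a b => by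
    simp only [← Groth.Agent.Lib.Comod.Cartier.trans_apply, map_mul]
  set W₀ : Submodule k A := W₀R.map (GLin.orbitHom k A x).toLinearMap with hW₀def
  have hW₀T : ∀ (g : A →ₐ[k] k) (w : A), w ∈ W₀ → dact A g.toLinearMap w ∈ W₀ := by
    rintro g _ ⟨r, hr, rfl⟩
    exact ⟨dact R g.toLinearMap r, dact_mem hW₀R _ hr, map_dact (isComodHom_orbitHom x) g.toLinearMap r⟩
  have hW₀stab : ∀ w ∈ W₀, w - algebraMap k A (Bialgebra.counitAlgHom k A w) ∈ GLin.stabIdeal k A y := by
    rintro _ ⟨r, -, rfl⟩
    refine hstab ?_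
    have h1 : GLin.orbitHom k A x (r - algebraMap k R (x r)) ∈ GLin.stabIdeal k A x :=
      Ideal.mem_map_of_mem _ (by simp [RingHom.mem_ker])
    rw [map_sub, AlgHom.commutes] at h1
    have h2 := apply_orbitHom x (CoalgebraStruct.counit (R := k) (A := A)) r
    rw [dact_counit_apply] at h2
    change GLin.orbitHom k A x r - algebraMap k A (CoalgebraStruct.counit (GLin.orbitHom k A x r)) ∈ _
    rwa [h2]
  obtain ⟨T₀, hT₀⟩ : W₀.FG := hW₀fg.map _
  have hrepr0 : ∀ t ∈ T₀, ∃ s : Finset (A × A),
      (∀ p ∈ s, p.1 ∈ B ∧ Bialgebra.counitAlgHom k A p.1 = 0) ∧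
      t - algebraMap k A (Bialgebra.counitAlgHom k A t) = ∑ p ∈ s, p.1 * p.2 := by
    intro t ht
    have h := hW₀stab t (hT₀ ▸ Submodule.subset_span ht)
    rw [GLin.stabIdeal, Ideal.map, Ideal.span, Submodule.mem_span_iff_exists_finset_subset] at h
    obtain ⟨f, s, hs, -, hf⟩ := h
    refine ⟨s.image (fun b => (b, f b)), fun p hp => ?_, ?_⟩
    · obtain ⟨b, hb, rfl⟩ := Finset.mem_image.1 hp
      obtain ⟨r, hr, rfl⟩ := hs hb
      refine ⟨⟨r, rfl⟩, ?_⟩
      have := apply_orbitHom y (CoalgebraStruct.counit (R := k) (A := A)) r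
      rw [dact_counit_apply] at this
      exact this.trans (RingHom.mem_ker.1 hr)
    · rw [Finset.sum_image (fun a _ b _ h => congrArg Prod.fst h), ← hf]
      exact Finset.sum_congr rfl fun s _ => by rw [smul_eq_mul, mul_comm]
  choose s hs hs' using hrepr0
  obtain ⟨W, hWfg, hW, hWs⟩ := exists_subcomod_fg (k := k) (A := A) (V := A)
    (insert 1 (T₀ ∪ T₀.attach.biUnion fun t => (s t.1 t.2).image Prod.snd))
  have h1W : (1 : A) ∈ W := hWs (by simp)
  have hW₀le : W₀ ≤ W := by
    rw [← hT₀, Submodule.span_le]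
    exact fun t ht => hWs (by simp [Finset.mem_coe.1 ht])
  obtain ⟨T, hT⟩ := hWfg
  haveI : IsDomain B := inferInstance
  obtain ⟨E, h1E, hEli, d, hd, hdT⟩ := exists_indep (B := B) T Subtype.val_injective
  have hdW : ∀ w ∈ W, d • w ∈ Submodule.span B (E : Set A) := by
    intro w hw
    rw [← hT] at hw
    induction hw using Submodule.span_induction with
    | mem y hy => exact hdT y hy
    | zero => rw [smul_zero]; exact zero_mem _
    | add y z _ _ hy hz => rw [smul_add]; exact add_mem hy hz
    | smul c y _ hy =>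
      have : d • c • y = (algebraMap k B c) • (d • y) := by
        simp only [Algebra.smul_def]
        change (d : A) * (algebraMap k A c * y) = algebraMap k A c * ((d : A) * y)
        ring
      rw [this]; exact Submodule.smul_mem _ _ hy
  let bas := Module.Basis.span hEli.linearIndependent
  have hrange : Submodule.span B (Set.range fun e : (E : Set A) => id (e : A)) = Submodule.span B (E : Set A) := by
    congr 1; ext y; simp
  let L : ∀ w ∈ W, ((E : Set A) →₀ B) := fun w hw =>
    bas.repr ⟨d • w, hrange ▸ hdW w hw⟩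
  have hrepr : ∀ (z : A) (hz : z ∈ Submodule.span B (Set.range fun e : (E : Set A) => id (e : A))),
      ∑ e : (E : Set A), bas.repr ⟨z, hz⟩ e • (e : A) = z := fun z hz => by
    have := congrArg Subtype.val (bas.sum_repr ⟨z, hz⟩)
    simpa [bas, Submodule.coe_sum, Module.Basis.span_apply] using this
  have hdw : ∀ (w : A) (hw : w ∈ W₀) (e : (E : Set A)), (e : A) ≠ 1 → L w (hW₀le hw) e = 0 := by
    intro w hw e he
    refine Subtype.ext (IsNilpotent.eq_zero (Groth.Agent.Lib.Comod.Orbits2.isNilpotent_of_forall_pt (k := k) fun h => ?_))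
    let g : A →ₐ[k] k := invPt h
    have hg : ∀ a, h (dact A g.toLinearMap a) = Bialgebra.counitAlgHom k A a := fun a => by
      rw [← OrbitDim.mulPt_apply, mulPt_invPt]
    let Mh : Submodule B A :=
      { carrier := {y | ∃ hy : y ∈ Submodule.span B (Set.range fun e : (E : Set A) => id (e : A)),
          h ((bas.repr ⟨y, hy⟩ e : B) : A) = 0}
        add_mem' := by
          rintro a b ⟨ha, ha'⟩ ⟨hb, hb'⟩
          refine ⟨add_mem ha hb, ?_⟩
          rw [show (⟨a + b, add_mem ha hb⟩ : Submodule.span B _) = ⟨a, ha⟩ + ⟨b, hb⟩ from rfl, map_add,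
            Finsupp.add_apply, Subalgebra.coe_add, map_add, ha', hb', add_zero]
        zero_mem' := ⟨zero_mem _, by
          rw [show (⟨0, zero_mem _⟩ : Submodule.span B (Set.range fun e : (E : Set A) => id (e : A))) = 0 from rfl, map_zero]; simp⟩
        smul_mem' := by
          rintro c a ⟨ha, ha'⟩
          refine ⟨Submodule.smul_mem _ c ha, ?_⟩
          rw [show (⟨c • a, Submodule.smul_mem _ c ha⟩ : Submodule.span B _) = c • ⟨a, ha⟩ from rfl, map_smul,
            Finsupp.smul_apply, smul_eq_mul, Subalgebra.coe_mul, map_mul, ha', mul_zero] }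
    -- the preimage of `w` under the translation
    set v := dact A h.toLinearMap w with hv
    have hv0 : v ∈ W₀ := hW₀T h w hw
    have hTv : dact A g.toLinearMap v = w := by
      rw [hv, ← Groth.Agent.Lib.Comod.Cartier.trans_apply h, ← Groth.Agent.Lib.Comod.Cartier.trans_apply g,
        Groth.Agent.Lib.Comod.Cartier.trans_invPt]
    have hmem : d • (w - algebraMap k A (Bialgebra.counitAlgHom k A v)) ∈ Mh := by
      have hmap : ∀ u ∈ W₀, d • dact A g.toLinearMap (u - algebraMap k A (Bialgebra.counitAlgHom k A u)) ∈ Mh := by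
        intro u hu
        rw [← hT₀] at hu
        induction hu using Submodule.span_induction with
        | mem t ht =>
          rw [hs' t ht, map_sum, Finset.smul_sum]
          refine Submodule.sum_mem _ fun p hp => ?_
          obtain ⟨hp1, hp2⟩ := hs t ht p hp
          have hp3 : p.2 ∈ W := hWs (by
            simp only [Finset.coe_insert, Set.mem_insert_iff, Finset.coe_union, Set.mem_union, Finset.mem_coe,
              Finset.mem_biUnion, Finset.mem_attach, true_and, Subtype.exists, Finset.mem_image]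
            exact Or.inr (Or.inr ⟨t, ht, p, hp, rfl⟩))
          have hw : d • dact A g.toLinearMap p.2 ∈ Submodule.span B (Set.range fun e : (E : Set A) => id (e : A)) :=
            hrange ▸ hdW _ (dact_mem hW _ hp3)
          have heq : d • (dact A g.toLinearMap (p.1 * p.2)) =
              (⟨_, hBT g _ hp1⟩ : B) • (d • dact A g.toLinearMap p.2) := by
            simp only [Subalgebra.smul_def, smul_eq_mul, hTmul]; ring
          rw [heq]
          refine ⟨Submodule.smul_mem _ _ hw, ?_⟩
          rw [show (⟨_, Submodule.smul_mem _ (⟨_, hBT g _ hp1⟩ : B) hw⟩ : Submodule.span B _) =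
              (⟨_, hBT g _ hp1⟩ : B) • ⟨_, hw⟩ from rfl, map_smul, Finsupp.smul_apply, smul_eq_mul,
            Subalgebra.coe_mul, map_mul]
          change h (dact A g.toLinearMap p.1) * _ = 0
          rw [hg, hp2, zero_mul]
        | zero => simp
        | add a b _ _ ha hb =>
          rw [show a + b - algebraMap k A (Bialgebra.counitAlgHom k A (a + b)) =
            (a - algebraMap k A (Bialgebra.counitAlgHom k A a)) + (b - algebraMap k A (Bialgebra.counitAlgHom k A b)) by
              rw [map_add, map_add]; ring, map_add, smul_add]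
          exact add_mem ha hb
        | smul c a _ ha =>
          rw [show c • a - algebraMap k A (Bialgebra.counitAlgHom k A (c • a)) =
            c • (a - algebraMap k A (Bialgebra.counitAlgHom k A a)) by
              rw [map_smul, smul_sub, smul_eq_mul, map_mul, ← Algebra.smul_def]]
          rw [map_smul, ← algebraMap_smul B c (dact A g.toLinearMap _), smul_comm]
          exact Submodule.smul_mem _ _ ha
      have h2 := hmap v hv0
      rwa [map_sub, hTv, ← Groth.Agent.Lib.Comod.Cartier.trans_apply g (algebraMap k A _), AlgHom.commutes] at h2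
    obtain ⟨hy, hy'⟩ := hmem
    have hsub : (⟨d • (w - algebraMap k A (Bialgebra.counitAlgHom k A v)), hy⟩ : Submodule.span B _) =
        (⟨d • w, hrange ▸ hdW w (hW₀le hw)⟩ : Submodule.span B _) -
          (d * algebraMap k B (Bialgebra.counitAlgHom k A v)) • bas ⟨1, h1E⟩ := by
      refine Subtype.ext ?_
      simp only [AddSubgroupClass.coe_sub, Submodule.coe_smul, bas, Module.Basis.span_apply, id_eq]
      rw [smul_sub, mul_smul, algebraMap_smul, Algebra.algebraMap_eq_smul_one]
    rw [hsub, map_sub, map_smul, Module.Basis.repr_self, Finsupp.sub_apply, Finsupp.smul_apply,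
      Finsupp.single_apply, if_neg (fun hh => he (congrArg Subtype.val hh).symm), smul_zero, sub_zero] at hy'
    exact hy'
  have hdmem : ∀ w ∈ W₀, (d : A) * w ∈ B := by
    intro w hw
    have := hrepr (d • w) (hrange ▸ hdW w (hW₀le hw))
    rw [Finset.sum_eq_single ⟨1, h1E⟩ (fun e _ he => by
      rw [show bas.repr _ e = 0 from hdw w hw e (fun h => he (Subtype.ext h)), zero_smul]) (by simp)] at this
    have this2 : ((bas.repr ⟨d • w, hrange ▸ hdW w (hW₀le hw)⟩ ⟨1, h1E⟩ : B) : A) * 1 = (d : A) * w := this
    rw [mul_one] at this2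
    exact Set.mem_of_eq_of_mem this2.symm (SetLike.coe_mem _)
  let C : Ideal B :=
    { carrier := {b | ∀ w ∈ W₀, (b : A) * w ∈ B}
      add_mem' := fun {a b} ha hb w hw => by simpa [add_mul] using add_mem (ha w hw) (hb w hw)
      zero_mem' := fun w _ => by simp
      smul_mem' := fun c b hb w hw => by
        simpa [mul_assoc] using mul_mem c.2 (hb w hw) }
  by_contra hne
  have hC : C ≠ ⊤ := fun h => hne (by
    have h1 : (1 : B) ∈ C := h ▸ Submodule.mem_top
    simpa using h1 _ ⟨r₀, hr₀ (by simp), rfl⟩)
  haveI : Algebra.FiniteType k B :=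
    Algebra.FiniteType.of_surjective (GLin.orbitHom k A y).rangeRestrict (GLin.orbitHom k A y).rangeRestrict_surjective
  obtain ⟨z, hz⟩ := exists_pt (k := k) hC
  obtain ⟨h, hh⟩ := inOrbit_of_isClosedOrbit hy (z := z.comp (GLin.orbitHom k A y).rangeRestrict) fun r hr => by
    rw [RingHom.mem_ker] at hr ⊢
    rw [AlgHom.comp_apply, show (GLin.orbitHom k A y).rangeRestrict r = 0 from Subtype.ext hr, map_zero]
  obtain ⟨h₀, hh₀⟩ : ∃ h₀ : A →ₐ[k] k, h₀ d ≠ 0 := by
    by_contra hcon
    push Not at hcon
    exact hd (Subtype.ext (IsNilpotent.eq_zero (Groth.Agent.Lib.Comod.Orbits2.isNilpotent_of_forall_pt (k := k) hcon)))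
  let g : A →ₐ[k] k := mulPt (invPt h) h₀
  have hgC : (⟨_, hBT g _ d.2⟩ : B) ∈ C := by
    intro w hw
    change dact A g.toLinearMap (d : A) * w ∈ B
    have hw' : w = dact A g.toLinearMap (dact A (invPt g).toLinearMap w) := by
      rw [dact_dact, ← mulPt_toLinearMap, mulPt_invPt]
      exact (dact_counit_apply A w).symm
    rw [hw', ← hTmul]
    exact hBT g _ (hdmem _ (hW₀T _ _ hw))
  have h3 := hz hgC
  rw [RingHom.mem_ker] at h3
  obtain ⟨r, hr⟩ := hBT g _ d.2
  have h4 : z ((GLin.orbitHom k A y).rangeRestrict r) = h ((GLin.orbitHom k A y) r) := AlgHom.congr_fun hh r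
  rw [show (GLin.orbitHom k A y).rangeRestrict r = (⟨_, hBT g _ d.2⟩ : B) from Subtype.ext hr, h3] at h4
  rw [show (GLin.orbitHom k A y) r = dact A g.toLinearMap d from hr, ← OrbitDim.mulPt_apply, mulPt_cancel] at h4
  exact hh₀ h4.symm

end Groth.Agent.H60.StabFun
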