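import Groth.Agent.H60.StabTors
import Groth.Agent.Lib.GrpSch.Basic
import Mathlib.AlgebraicGeometry.AlgClosed.Basic

/-!
Orbits along a geometric quotient by a normal subgroup.
-/

set_option autoImplicit false
set_option backward.isDefEq.respectTransparency false
set_option backward.isDefEq.respectTransparency.types false

universe u

open CategoryTheory CategoryTheory.Limits AlgebraicGeometry MonoidalCategory CartesianMonoidalCategory MonObj
open Groth.Agent.Lib

namespace Groth.Agent.H60.StabQuot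

noncomputable section

variable {S : Scheme.{u}} {G N H X Y : Over S} [GrpObj G] [GrpObj N] [GrpObj H]
  (iN : N ⟶ G) [IsMonHom iN] (q : G ⟶ H) [IsMonHom q]
  (a : AlgGrp.Action G X) (aN : AlgGrp.Action N X) (φ : X ⟶ Y) (aY : AlgGrp.Action H Y)
  (haN : aN.act = (iN ▷ X) ≫ a.act)

include haN in
/-- The orbit upstairs is the preimage of the orbit downstairs. -/
theorem range_psi (hequiv : (q ⊗ₘ φ) ≫ aY.act = a.act ≫ φ) [Surjective q.left]
    (h : GIT.IsGeomQuot aN φ) {P : Over S} (x : P ⟶ X) :
    Set.range (GIT.psi a x).left.base =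
      (φ ▷ P).left.base ⁻¹' Set.range (GIT.psi aY (x ≫ φ)).left.base := by
  have hc := StabTors.psi_comm q a φ aY x hequiv
  ext z
  constructor
  · rintro ⟨g, rfl⟩
    refine ⟨(q ▷ P).left g, ?_⟩
    show (GIT.psi aY (x ≫ φ)).left ((q ▷ P).left g) = (φ ▷ P).left ((GIT.psi a x).left g)
    rw [← Scheme.Hom.comp_apply, ← Scheme.Hom.comp_apply, ← Over.comp_left, ← Over.comp_left, hc]
  · rintro ⟨h₀, hh⟩
    have hqs : Surjective (q ▷ P).left :=
      MorphismProperty.of_isPullback (P := @Surjective) (GrpSch.isPullback_whiskerRight q P).flip ‹_›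
    obtain ⟨g, hg⟩ := hqs.surj h₀
    -- the two points lie in one orbit of the subgroup
    obtain ⟨w, hw1, hw2⟩ := Scheme.Pullback.exists_preimage_pullback (f := (φ ▷ P).left) (g := (φ ▷ P).left) z
      ((GIT.psi a x).left g) (by
        rw [← Scheme.Hom.comp_apply (GIT.psi a x).left, ← Over.comp_left, hc, Over.comp_left, Scheme.Hom.comp_apply, hg]
        exact hh.symm)
    let F := pullback.fst (φ ▷ P).left (φ ▷ P).left
    let F' := pullback.snd (φ ▷ P).left (φ ▷ P).left
    have hφ : (φ ▷ P) ≫ fst Y P = fst X P ≫ φ := whiskerRight_fst _ _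
    let m : pullback (φ ▷ P).left (φ ▷ P).left ⟶ pullback φ.left φ.left :=
      pullback.map _ _ _ _ (fst X P).left (fst X P).left (fst Y P).left
        (congrArg (fun r => Over.Hom.left r) hφ) (congrArg (fun r => Over.Hom.left r) hφ)
    obtain ⟨p₀, hp₀⟩ := h.orbit (m w)
    obtain ⟨p, hp1, hp2⟩ := Scheme.Pullback.exists_preimage_pullback (f := GIT.PsiY aN φ h.inv) (g := m) p₀ w hp₀
    let Q : Over S := Over.mk (pullback.fst (GIT.PsiY aN φ h.inv) m ≫ (N ⊗ X).hom)
    let u : Q ⟶ N ⊗ X := Over.homMk (pullback.fst (GIT.PsiY aN φ h.inv) m) rfl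
    let z₂ := pullback.snd (GIT.PsiY aN φ h.inv) m
    have c1 : z₂ ≫ F ≫ (fst X P).left = u.left ≫ aN.act.left := by
      have := congrArg (fun t => t ≫ pullback.fst φ.left φ.left) (pullback.condition (f := GIT.PsiY aN φ h.inv) (g := m))
      rw [Category.assoc, Category.assoc, show GIT.PsiY aN φ h.inv ≫ pullback.fst _ _ = aN.act.left from
        pullback.lift_fst _ _ _, show m ≫ pullback.fst _ _ = F ≫ (fst X P).left from pullback.lift_fst _ _ _] at this
      exact this.symm
    have c2 : z₂ ≫ F' ≫ (fst X P).left = u.left ≫ (snd N X).left := by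
      have := congrArg (fun t => t ≫ pullback.snd φ.left φ.left) (pullback.condition (f := GIT.PsiY aN φ h.inv) (g := m))
      rw [Category.assoc, Category.assoc, show GIT.PsiY aN φ h.inv ≫ pullback.snd _ _ = (snd N X).left from
        pullback.lift_snd _ _ _, show m ≫ pullback.snd _ _ = F' ≫ (fst X P).left from pullback.lift_snd _ _ _] at this
      exact this.symm
    have c3 : F ≫ (snd X P).left = F' ≫ (snd X P).left := by
      have e : (φ ▷ P) ≫ snd Y P = snd X P := whiskerRight_snd _ _
      rw [← e, Over.comp_left]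
      exact pullback.condition_assoc _
    let y : Q ⟶ X ⊗ P := Over.homMk (z₂ ≫ F') (by
      show (z₂ ≫ F') ≫ (X ⊗ P).hom = pullback.fst _ _ ≫ (N ⊗ X).hom
      rw [← Over.w (fst X P), Category.assoc, reassoc_of% c2, ← Over.w (snd N X)]
      rfl)
    let y' : Q ⟶ X ⊗ P := Over.homMk (z₂ ≫ F) (by
      show (z₂ ≫ F) ≫ (X ⊗ P).hom = pullback.fst _ _ ≫ (N ⊗ X).hom
      rw [← Over.w (fst X P), Category.assoc, reassoc_of% c1, ← Over.w aN.act]
      rfl)
    let c : AlgGrp.Action N (X ⊗ P) := aN.prod (AlgGrp.Action.trivial N P)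
    let n : Q ⟶ N := u ≫ fst N X
    have ey : lift n y ≫ c.act = y' := by
      have e1 : y ≫ fst X P = u ≫ snd N X := Over.OverMorphism.ext ((Category.assoc _ _ _).trans c2)
      have e2 : y' ≫ fst X P = u ≫ aN.act := Over.OverMorphism.ext ((Category.assoc _ _ _).trans c1)
      have e3 : y' ≫ snd X P = y ≫ snd X P := Over.OverMorphism.ext (by
        show (z₂ ≫ F) ≫ (snd X P).left = (z₂ ≫ F') ≫ (snd X P).left
        rw [Category.assoc, c3, Category.assoc])
      have e : ∀ r : Q ⟶ X ⊗ P, r = lift (r ≫ fst X P) (r ≫ snd X P) := fun r => by simp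
      rw [e y, AlgGrp.Action.lift_prod_act, AlgGrp.Action.lift_trivial_act, e1, ← e3]
      conv_rhs => rw [e y', e2]
      congr 1
      rw [← comp_lift_assoc, lift_fst_snd, Category.id_comp]
    obtain ⟨r, hr1, -⟩ := Scheme.exists_preimage_of_isPullback
      (GrpSch.isPullback_whiskerLeft N (GIT.psi a x)) ((lift n y).left p) g (by
        rw [← Scheme.Hom.comp_apply, ← Over.comp_left, lift_snd]
        show F' (z₂ p) = (GIT.psi a x).left g
        rw [show z₂ p = w from hp2]
        exact hw2)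
    let mo : N ⊗ (G ⊗ P) ⟶ G ⊗ P := lift ((fst N (G ⊗ P) ≫ iN) * (snd N (G ⊗ P) ≫ fst G P)) (snd N (G ⊗ P) ≫ snd G P)
    have hN : ∀ {T : Over S} (n : T ⟶ N) (z : T ⟶ X), lift n z ≫ aN.act = lift (n ≫ iN) z ≫ a.act := fun n z => by
      rw [haN, lift_whiskerRight_assoc]
    have hm : mo ≫ GIT.psi a x = (N ◁ GIT.psi a x) ≫ c.act := AlgGrp.Action.hom_ext_lift₂ fun T n y => by
      have ey : y = lift (y ≫ fst G P) (y ≫ snd G P) := by simp
      rw [ey]
      simp only [mo, GIT.psi, comp_lift_assoc, comp_lift, lift_whiskerLeft_assoc, lift_whiskerLeft, lift_snd,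
        lift_fst_assoc, lift_snd_assoc, lift_fst, MonObj.comp_mul, Category.assoc, AlgGrp.Action.lift_prod_act, c,
        AlgGrp.Action.lift_trivial_act, hN, AlgGrp.Action.lift_mul_act]
    refine ⟨mo.left r, ?_⟩
    show (GIT.psi a x).left (mo.left r) = z
    rw [← Scheme.Hom.comp_apply, ← Over.comp_left, hm, Over.comp_left, Scheme.Hom.comp_apply, hr1,
      ← Scheme.Hom.comp_apply, ← Over.comp_left, ey]
    show F (z₂ p) = z
    rw [show z₂ p = w from hp2]
    exact hw1

include haN in
theorem isClosed_range_psi_iff (hequiv : (q ⊗ₘ φ) ≫ aY.act = a.act ≫ φ) [Surjective q.left]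
    (h : GIT.IsGeomQuot aN φ) {P : Over S} (x : P ⟶ X) :
    IsClosed (Set.range (GIT.psi a x).left.base) ↔ IsClosed (Set.range (GIT.psi aY (x ≫ φ)).left.base) := by
  rw [range_psi iN q a aN φ aY haN hequiv h x]
  have hq : Topology.IsQuotientMap (φ ▷ P).left.base :=
    h.subm _ _ _ (GrpSch.isPullback_whiskerRight φ P).flip.flip
  exact hq.isClosed_preimage

/-- A geometric point of the target of a surjection lifts. -/
theorem exists_lift_point {X Y T : Over S} (φ : X ⟶ Y) [Surjective φ.left] [LocallyOfFiniteType φ.left]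
    (Ω : Type u) [Field Ω] [IsAlgClosed Ω] (e : T.left ≅ Spec (CommRingCat.of Ω)) (f : T ⟶ Y) :
    ∃ g : T ⟶ X, g ≫ φ = f := by
  let π : pullback φ.left f.left ⟶ Spec (CommRingCat.of Ω) := pullback.snd φ.left f.left ≫ e.hom
  haveI : LocallyOfFiniteType (pullback.snd φ.left f.left) := MorphismProperty.pullback_snd _ _ inferInstance
  haveI : LocallyOfFiniteType π := inferInstance
  haveI : JacobsonSpace (pullback φ.left f.left : Scheme.{u}) := LocallyOfFiniteType.jacobsonSpace π
  haveI : Surjective (pullback.snd φ.left f.left) := MorphismProperty.pullback_snd _ _ inferInstance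
  obtain ⟨t⟩ : Nonempty T.left := ⟨e.inv (default : PrimeSpectrum Ω)⟩
  obtain ⟨w, -⟩ := (pullback.snd φ.left f.left).surjective t
  obtain ⟨c, -, hc⟩ := nonempty_inter_closedPoints (Z := Set.univ) ⟨w, trivial⟩ isClosed_univ.isLocallyClosed
  let s : T.left ⟶ pullback φ.left f.left := e.hom ≫ pointOfClosedPoint π c hc
  have hs : s ≫ pullback.snd φ.left f.left = 𝟙 T.left := by
    rw [← cancel_mono e.hom, Category.assoc, Category.assoc,
      show pointOfClosedPoint π c hc ≫ pullback.snd φ.left f.left ≫ e.hom = 𝟙 _ from pointOfClosedPoint_comp π c hc,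
      Category.comp_id, Category.id_comp]
  refine ⟨Over.homMk (s ≫ pullback.fst _ _) ?_, Over.OverMorphism.ext ?_⟩
  · show (s ≫ pullback.fst _ _) ≫ X.hom = T.hom
    rw [← Over.w φ, Category.assoc, pullback.condition_assoc, reassoc_of% hs, Over.w]
  · show (s ≫ pullback.fst _ _) ≫ φ.left = f.left
    rw [Category.assoc, pullback.condition, reassoc_of% hs]

end

end Groth.Agent.H60.StabQuot
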