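import Groth.Prelude.Def_W4bk4git07Quot
import Groth.Agent.Lib.DescAlg.FpqcCover
import Mathlib.AlgebraicGeometry.Sites.Fpqc

/-!
An invariant morphism with fpqc-local sections whose fibres are fpqc-locally single orbits on
points is a geometric quotient.
-/

set_option autoImplicit false
set_option backward.isDefEq.respectTransparency false
set_option backward.isDefEq.respectTransparency.types false

universe u

open CategoryTheory CategoryTheory.Limits AlgebraicGeometry MonoidalCategory CartesianMonoidalCategory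
open Groth.Agent.Lib

namespace Groth.Agent.H60.TorsorQuot

/-- Having sections on an fpqc covering is stable under base change. -/
theorem exists_sections_baseChange {X Y Y' : Scheme.{u}} (f : X ⟶ Y) (g : Y' ⟶ Y)
    (𝒰 : PreZeroHypercover.{u + 1} Y) (hmem : 𝒰.presieve₀ ∈ Scheme.fpqcPrecoverage Y)
    (s : ∀ i, 𝒰.X i ⟶ X) (hs : ∀ i, s i ≫ f = 𝒰.f i) :
    ∃ (P : 𝒰.I₀ → Scheme.{u}) (p : ∀ i, P i ⟶ Y') (t : ∀ i, P i ⟶ X),
      Presieve.ofArrows P p ∈ Scheme.fpqcPrecoverage Y' ∧ ∀ i, t i ≫ f = p i ≫ g :=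
  ⟨fun i ↦ pullback g (𝒰.f i), fun i ↦ pullback.fst _ _, fun i ↦ pullback.snd _ _ ≫ s i,
    Precoverage.mem_coverings_of_isPullback _ hmem g _ (fun i ↦ pullback.snd _ _)
      fun i ↦ IsPullback.of_hasPullback _ _,
    fun i ↦ by rw [Category.assoc, hs, ← pullback.condition]⟩

theorem isOpen_of_cover {Y : Scheme.{u}} {R : Presieve Y} (hR : R ∈ Scheme.fpqcPrecoverage Y)
    (W : Set Y) (h : ∀ ⦃Z : Scheme.{u}⦄ (f : Z ⟶ Y), R f → IsOpen (f ⁻¹' W)) : IsOpen W := by
  obtain ⟨𝒰, _, rfl⟩ := Scheme.mem_propQCPrecoverage_iff_exists_quasiCompactCover.mp hR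
  exact DescAlg.FpqcCover.isOpen_of_preimage 𝒰.toPreZeroHypercover (fun i ↦ 𝒰.map_prop i) W
    fun i ↦ h _ ⟨i⟩

theorem surjective_of_cover {Y : Scheme.{u}} {R : Presieve Y} (hR : R ∈ Scheme.fpqcPrecoverage Y)
    (y : Y) : ∃ (Z : Scheme.{u}) (f : Z ⟶ Y) (z : Z), R f ∧ f z = y := by
  obtain ⟨𝒰, _, rfl⟩ := Scheme.mem_propQCPrecoverage_iff_exists_quasiCompactCover.mp hR
  obtain ⟨z, hz⟩ := 𝒰.covers y
  exact ⟨_, _, z, ⟨𝒰.idx y⟩, hz⟩

/-- A morphism with sections on an fpqc covering is universally submersive. -/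
theorem isUnivSubmersive_of_sections {X Y : Scheme.{u}} (f : X ⟶ Y)
    {R : Presieve Y} (hR : R ∈ Scheme.fpqcPrecoverage Y)
    (hsec : ∀ ⦃Z : Scheme.{u}⦄ (g : Z ⟶ Y), R g → ∃ s : Z ⟶ X, s ≫ f = g) :
    GIT.IsUnivSubmersive f := by
  obtain ⟨𝒰, _, rfl⟩ := Scheme.mem_propQCPrecoverage_iff_exists_quasiCompactCover.mp hR
  choose s hs using fun i ↦ hsec (𝒰.f i) ⟨i⟩
  intro X' Y' i₁ i₂ f' sq
  obtain ⟨P, p, t, hP, ht⟩ := exists_sections_baseChange f i₂ 𝒰.toPreZeroHypercover hR s hs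
  have hlift : ∀ ⦃Z : Scheme.{u}⦄ (g : Z ⟶ Y'), Presieve.ofArrows P p g → ∃ σ : Z ⟶ X', σ ≫ f' = g := by
    rintro _ _ ⟨j⟩
    exact ⟨sq.lift (p j) (t j) (ht j).symm, sq.lift_fst _ _ _⟩
  change Topology.IsQuotientMap f'
  rw [Topology.isQuotientMap_iff, Topology.isCoinducing_iff]
  refine ⟨fun W ↦ ⟨fun hW ↦ ?_, fun hW ↦ hW.preimage f'.continuous⟩, fun y ↦ ?_⟩
  · refine isOpen_of_cover hP W fun Z g hg ↦ ?_
    obtain ⟨σ, rfl⟩ := hlift g hg
    rw [show ⇑(σ ≫ f') ⁻¹' W = σ ⁻¹' (f' ⁻¹' W) from rfl]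
    exact hW.preimage σ.continuous
  · obtain ⟨Z, g, z, hg, rfl⟩ := surjective_of_cover hP y
    obtain ⟨σ, rfl⟩ := hlift g hg
    exact ⟨σ z, (Scheme.Hom.comp_apply σ f' z).symm⟩

/-- The affine line over the integers. -/
noncomputable abbrev A : CommRingCat.{u} := CommRingCat.of (Polynomial (ULift.{u} ℤ))

/-- The function classified by a morphism to the affine line. -/
noncomputable def fn {T : Scheme.{u}} (m : T ⟶ Spec A.{u}) : Γ(T, ⊤) :=
  m.appTop ((Scheme.ΓSpecIso A.{u}).inv Polynomial.X)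

theorem fn_comp {T T' : Scheme.{u}} (h : T' ⟶ T) (m : T ⟶ Spec A.{u}) :
    fn (h ≫ m) = h.appTop (fn m) := rfl

theorem fn_injective {T : Scheme.{u}} {m m' : T ⟶ Spec A.{u}} (h : fn m = fn m') : m = m' := by
  refine ext_of_isAffine ?_
  rw [← cancel_epi (Scheme.ΓSpecIso A.{u}).inv]
  refine CommRingCat.hom_ext (Polynomial.ringHom_ext (fun a ↦ ?_) h)
  have := congrArg (fun F : ℤ →+* Γ(T, ⊤) ↦ F a.down) (Subsingleton.elim
    (((((Scheme.ΓSpecIso A.{u}).inv ≫ m.appTop).hom).comp Polynomial.C).comp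
      (ULift.ringEquiv.{0, u}.symm.toRingHom))
    (((((Scheme.ΓSpecIso A.{u}).inv ≫ m'.appTop).hom).comp Polynomial.C).comp
      (ULift.ringEquiv.{0, u}.symm.toRingHom)))
  exact this

theorem fn_surjective {T : Scheme.{u}} (f : Γ(T, ⊤)) : ∃ m : T ⟶ Spec A.{u}, fn m = f := by
  refine ⟨T.toSpecΓ ≫ Spec.map (CommRingCat.ofHom (Polynomial.eval₂RingHom
    ((Int.castRingHom Γ(T, ⊤)).comp (ULift.ringEquiv.{0, u}.toRingHom)) f)), ?_⟩
  rw [fn, Scheme.Hom.comp_appTop]
  have := Scheme.ΓSpecIso_inv_naturality (CommRingCat.ofHom (Polynomial.eval₂RingHom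
    ((Int.castRingHom Γ(T, ⊤)).comp (ULift.ringEquiv.{0, u}.toRingHom)) f))
  rw [← ConcreteCategory.comp_apply, ← Category.assoc, ← this, Category.assoc,
    Scheme.toSpecΓ_appTop]
  erw [Iso.inv_hom_id, Category.comp_id]
  exact Polynomial.eval₂_X _ _

theorem fn_comp_resLE {X Y : Scheme.{u}} (σ : X ⟶ Y) (W : Y.Opens) (O : X.Opens) (e : O ≤ σ ⁻¹ᵁ W)
    (m : W.toScheme ⟶ Spec A.{u}) :
    fn (σ.resLE W O e ≫ m) = O.topIso.inv (σ.appLE W O e (W.topIso.hom (fn m))) := by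
  rw [fn_comp, Scheme.Hom.appTop, Scheme.Hom.resLE_app_top]
  rfl

variable {S : Scheme.{u}} {G X Y : Over S} [GrpObj G]

/-- An invariant morphism with fpqc-local sections, two points with the same image being fpqc
locally in one orbit, is a geometric quotient. -/
theorem isGeomQuot_of_local (a : AlgGrp.Action G X) (φ : X ⟶ Y) (hinv : GIT.IsInvariant a φ)
    {R : Presieve Y.left} (hR : R ∈ Scheme.fpqcPrecoverage Y.left)
    (hsec : ∀ ⦃Z : Scheme.{u}⦄ (g : Z ⟶ Y.left), R g → ∃ s : Z ⟶ X.left, s ≫ φ.left = g)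
    (horb : ∀ (T : Over S) (x₁ x₂ : T ⟶ X), x₁ ≫ φ = x₂ ≫ φ →
      ∃ R' ∈ Scheme.fpqcPrecoverage T.left, ∀ ⦃T' : Scheme.{u}⦄ (f : T' ⟶ T.left), R' f →
        ∃ g : Over.mk (f ≫ T.hom) ⟶ G, (lift g (Over.homMk f ≫ x₂) ≫ a.act).left = f ≫ x₁.left) :
    GIT.IsGeomQuot a φ where
  inv := hinv
  surj y := by
    obtain ⟨Z, g, z, hg, rfl⟩ := surjective_of_cover hR y
    obtain ⟨s, rfl⟩ := hsec g hg
    exact ⟨s z, (Scheme.Hom.comp_apply s φ.left z).symm⟩
  orbit z := by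
    let T : Over S := Over.mk (pullback.fst φ.left φ.left ≫ X.hom)
    let x₁ : T ⟶ X := Over.homMk (pullback.fst φ.left φ.left) rfl
    let x₂ : T ⟶ X := Over.homMk (pullback.snd φ.left φ.left) (by
      change pullback.snd φ.left φ.left ≫ X.hom = pullback.fst φ.left φ.left ≫ X.hom
      rw [← Over.w φ, ← Category.assoc, ← pullback.condition, Category.assoc])
    obtain ⟨R', hR', hg'⟩ := horb T x₁ x₂ (by ext; exact pullback.condition)
    obtain ⟨T', f, t, hf, rfl⟩ := surjective_of_cover hR' z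
    obtain ⟨g, hg⟩ := hg' f hf
    refine ⟨(lift g (Over.homMk f ≫ x₂)).left t, ?_⟩
    have e : (lift g (Over.homMk f ≫ x₂)).left ≫ GIT.PsiY a φ hinv = f := by
      refine pullback.hom_ext ?_ ?_
      · rw [Category.assoc, GIT.PsiY, pullback.lift_fst, ← Over.comp_left, hg]
        rfl
      · rw [Category.assoc, GIT.PsiY, pullback.lift_snd, ← Over.comp_left, lift_snd]
        rfl
    exact congr($e t)
  subm := isUnivSubmersive_of_sections φ.left hR hsec
  sections U := by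
    obtain ⟨𝒰, _, rfl⟩ := Scheme.mem_propQCPrecoverage_iff_exists_quasiCompactCover.mp hR
    choose s hs using fun i ↦ hsec (𝒰.f i) ⟨i⟩
    obtain ⟨P, p, t, hP, ht⟩ := exists_sections_baseChange φ.left U.ι 𝒰.toPreZeroHypercover hR s hs
    let W : X.left.Opens := φ.left ⁻¹ᵁ U
    let q : W.toScheme ⟶ U.toScheme := φ.left.resLE U W le_rfl
    have hq : q ≫ U.ι = W.ι ≫ φ.left := Scheme.Hom.resLE_comp_ι _ _
    let t' : ∀ i, P i ⟶ W.toScheme := fun i ↦ IsOpenImmersion.lift W.ι (t i) (by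
      rw [Scheme.Opens.range_ι]
      rintro _ ⟨x, rfl⟩
      change φ.left (t i x) ∈ U
      rw [← Scheme.Hom.comp_apply, ht i, Scheme.Hom.comp_apply]
      exact (p i x).2)
    have ht' : ∀ i, t' i ≫ q = p i := fun i ↦ by
      rw [← cancel_mono U.ι, Category.assoc, hq, IsOpenImmersion.lift_fac_assoc, ht]
    have hsheaf : ∀ {T : Scheme.{u}} {R : Presieve T}, R ∈ Scheme.fpqcPrecoverage T →
        R.IsSheafFor (yoneda.obj (Spec A.{u})) := fun hR ↦
      (GrothendieckTopology.Subcanonical.isSheaf_of_isRepresentable _).isSheafFor _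
        (Precoverage.generate_mem_toGrothendieck hR)
    have hfn : ∀ m : U.toScheme ⟶ Spec A.{u},
        W.topIso.hom (fn (q ≫ m)) = φ.left.app U (U.topIso.hom (fn m)) := fun m ↦ by
      rw [fn_comp_resLE, ← ConcreteCategory.comp_apply, Iso.inv_hom_id, ConcreteCategory.id_apply,
        Scheme.Hom.app_eq_appLE]
    have hcomp : ∀ f : Γ(X.left, W), GIT.IsInvSection a φ U f → ∀ (m : W.toScheme ⟶ Spec A.{u}),
        W.topIso.hom (fn m) = f → ∀ {T : Scheme.{u}} (h₁ h₂ : T ⟶ W.toScheme),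
          h₁ ≫ q = h₂ ≫ q → h₁ ≫ m = h₂ ≫ m := by
      intro f hf m hm T h₁ h₂ h
      have h' : h₁ ≫ W.ι ≫ φ.left = h₂ ≫ W.ι ≫ φ.left := by
        rw [← hq, reassoc_of% h]
      let T₀ : Over S := Over.mk (h₁ ≫ W.ι ≫ X.hom)
      let x₁ : T₀ ⟶ X := Over.homMk (h₁ ≫ W.ι) (Category.assoc _ _ _)
      let x₂ : T₀ ⟶ X := Over.homMk (h₂ ≫ W.ι) (by
        change (h₂ ≫ W.ι) ≫ X.hom = h₁ ≫ W.ι ≫ X.hom
        rw [← Over.w φ, Category.assoc, ← reassoc_of% h'])
      obtain ⟨R', hR', hg'⟩ := horb T₀ x₁ x₂ (by ext; simpa [x₁, x₂, T₀] using h')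
      refine (hsheaf hR').isSeparatedFor.ext fun T' j hj ↦ ?_
      obtain ⟨g, hg⟩ := hg' j hj
      let e := lift g (Over.homMk j ≫ x₂)
      let O : (G ⊗ X).left.Opens := a.act.left ⁻¹ᵁ W ⊓ (snd G X).left ⁻¹ᵁ W
      have e1 : e.left ≫ a.act.left = j ≫ h₁ ≫ W.ι := hg
      have e2 : e.left ≫ (snd G X).left = j ≫ h₂ ≫ W.ι := by
        rw [← Over.comp_left, lift_snd]; rfl
      have hrange : Set.range e.left.base ⊆ Set.range O.ι.base := by
        rw [Scheme.Opens.range_ι]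
        rintro _ ⟨x, rfl⟩
        refine ⟨?_, ?_⟩
        · change a.act.left (e.left x) ∈ W
          rw [← Scheme.Hom.comp_apply, e1]
          exact ((j ≫ h₁) x).2
        · change (snd G X).left (e.left x) ∈ W
          rw [← Scheme.Hom.comp_apply, e2]
          exact ((j ≫ h₂) x).2
      let e' := IsOpenImmersion.lift O.ι e.left hrange
      have he' : e' ≫ O.ι = e.left := IsOpenImmersion.lift_fac _ _ _
      have f1 : e' ≫ a.act.left.resLE W O inf_le_left = j ≫ h₁ := by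
        rw [← cancel_mono W.ι, Category.assoc, Scheme.Hom.resLE_comp_ι, reassoc_of% he', e1,
          Category.assoc]
      have f2 : e' ≫ (snd G X).left.resLE W O inf_le_right = j ≫ h₂ := by
        rw [← cancel_mono W.ι, Category.assoc, Scheme.Hom.resLE_comp_ι, reassoc_of% he', e2,
          Category.assoc]
      have key : a.act.left.resLE W O inf_le_left ≫ m = (snd G X).left.resLE W O inf_le_right ≫ m := by
        refine fn_injective ?_
        rw [fn_comp_resLE, fn_comp_resLE, hm]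
        exact congrArg _ hf
      change j ≫ h₁ ≫ m = j ≫ h₂ ≫ m
      rw [← reassoc_of% f1, key, reassoc_of% f2]
    have hinjU : ∀ m m' : U.toScheme ⟶ Spec A.{u}, q ≫ m = q ≫ m' → m = m' := fun m m' h ↦ by
      refine (hsheaf hP).isSeparatedFor.ext ?_
      rintro _ _ ⟨i⟩
      change p i ≫ m = p i ≫ m'
      rw [← ht' i, Category.assoc, h, Category.assoc]
    have hmkU : ∀ b : Γ(Y.left, U), ∃ m : U.toScheme ⟶ Spec A.{u}, U.topIso.hom (fn m) = b :=
      fun b ↦ by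
        obtain ⟨m, hm⟩ := fn_surjective (U.topIso.inv b)
        exact ⟨m, by rw [hm, ← ConcreteCategory.comp_apply, Iso.inv_hom_id]; rfl⟩
    refine ⟨fun b₁ b₂ hb ↦ ?_, Set.Subset.antisymm ?_ fun f hf ↦ ?_⟩
    · obtain ⟨m₁, rfl⟩ := hmkU b₁
      obtain ⟨m₂, rfl⟩ := hmkU b₂
      rw [← hfn, ← hfn] at hb
      have hb' := congrArg W.topIso.inv hb
      simp only [← ConcreteCategory.comp_apply, Iso.hom_inv_id, ConcreteCategory.id_apply] at hb'
      rw [hinjU _ _ (fn_injective hb')]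
    · rintro _ ⟨b, rfl⟩
      change _ = _
      rw [← ConcreteCategory.comp_apply, ← ConcreteCategory.comp_apply, Scheme.Hom.app_eq_appLE,
        Scheme.Hom.appLE_comp_appLE, Scheme.Hom.appLE_comp_appLE]
      simp only [hinv.left]
    · obtain ⟨m, hm⟩ := fn_surjective (W.topIso.inv f)
      have hm' : W.topIso.hom (fn m) = f := by
        rw [hm, ← ConcreteCategory.comp_apply, Iso.inv_hom_id]; rfl
      obtain ⟨χ, hχ, -⟩ := (Presieve.isSheafFor_arrows_iff _ _).1 (hsheaf hP) (fun i ↦ t' i ≫ m)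
        fun i k T c d hcd ↦ by
          change c ≫ t' i ≫ m = d ≫ t' k ≫ m
          rw [← Category.assoc, ← Category.assoc]
          refine hcomp f hf m hm' _ _ ?_
          rw [Category.assoc, Category.assoc, ht', ht', hcd]
      refine ⟨U.topIso.hom (fn χ), ?_⟩
      have e : q ≫ χ = m := by
        have hP' : Presieve.ofArrows (fun i ↦ pullback q (p i)) (fun i ↦ pullback.fst q (p i)) ∈
            Scheme.fpqcPrecoverage W.toScheme :=
          Precoverage.mem_coverings_of_isPullback _ hP q _ (fun i ↦ pullback.snd _ _)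
            fun i ↦ IsPullback.of_hasPullback _ _
        refine (hsheaf hP').isSeparatedFor.ext ?_
        rintro _ _ ⟨i⟩
        change pullback.fst q (p i) ≫ q ≫ χ = pullback.fst q (p i) ≫ m
        rw [pullback.condition_assoc, show p i ≫ χ = t' i ≫ m from hχ i, ← Category.assoc]
        refine hcomp f hf m hm' _ _ ?_
        rw [Category.assoc, ht', pullback.condition]
      rw [← hfn, e, hm']

end Groth.Agent.H60.TorsorQuot
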