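import Groth.Agent.H60.SpecialExt
import Groth.Agent.H60.TorsorQuot
import Groth.Prelude.Def_GLinSh
import Mathlib.AlgebraicGeometry.Morphisms.Finite

/-!
Orbits and stabilisers along a torsor under a normal subgroup.
-/

set_option autoImplicit false
set_option backward.isDefEq.respectTransparency false
set_option backward.isDefEq.respectTransparency.types false

universe u

open CategoryTheory CategoryTheory.Limits AlgebraicGeometry MonoidalCategory CartesianMonoidalCategory MonObj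
open Groth.Agent.Lib

namespace Groth.Agent.H60.StabTors

noncomputable section

/-- A monomorphism with sections on an fpqc cover is an isomorphism. -/
theorem isIso_of_mono_of_loctriv {X Y : Scheme.{u}} (f : X ⟶ Y) [Mono f]
    (h : NonAbH1.IsLocallyTrivialFor Scheme.fpqcPrecoverage (Over.mk f : Over Y)) : IsIso f := by
  obtain ⟨R, hR, hsec⟩ := h
  obtain ⟨I, U, u, rfl⟩ := R.exists_eq_ofArrows
  have hs' : ∀ i, ∃ s : U i ⟶ X, s ≫ f = u i := fun i => hsec (u i) ⟨i⟩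
  choose s hs using hs'
  obtain ⟨χ, hχ, -⟩ := (Presieve.isSheafFor_arrows_iff _ _).1 (TorsorCat.isSheafFor hR X) s fun i j T c d hcd => by
    change c ≫ s i = d ≫ s j
    rw [← cancel_mono f, Category.assoc, Category.assoc, hs, hs, hcd]
  have h1 : χ ≫ f = 𝟙 Y := (TorsorCat.isSheafFor hR Y).isSeparatedFor.ext fun T g hg => by
    obtain ⟨i⟩ := hg
    change u i ≫ χ ≫ f = u i ≫ 𝟙 _
    rw [← Category.assoc, show u i ≫ χ = s i from hχ i, hs, Category.comp_id]
  exact ⟨χ, by rw [← cancel_mono f, Category.assoc, h1, Category.comp_id, Category.id_comp], h1⟩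

variable {S : Scheme.{u}} {G N H X Y P : Over S} [GrpObj G] [GrpObj N] [GrpObj H]
  (iN : N ⟶ G) [IsMonHom iN] (q : G ⟶ H) [IsMonHom q]
  (a : AlgGrp.Action G X) (φ : X ⟶ Y) (aY : AlgGrp.Action H Y) (x : P ⟶ X)

theorem psi_comm (hequiv : (q ⊗ₘ φ) ≫ aY.act = a.act ≫ φ) :
    GIT.psi a x ≫ (φ ▷ P) = (q ▷ P) ≫ GIT.psi aY (x ≫ φ) := by
  refine AlgGrp.Action.hom_ext_lift₂ fun T g t => ?_
  simp only [GIT.psi, comp_lift_assoc, lift_whiskerLeft_assoc, lift_snd, lift_whiskerRight_assoc,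
    lift_whiskerRight, comp_lift, Category.assoc]
  rw [← hequiv, lift_map_assoc]
  simp

theorem loctriv_whiskerRight {X Y : Over S} (f : X ⟶ Y) (P : Over S)
    (h : NonAbH1.IsLocallyTrivialFor Scheme.fpqcPrecoverage (Over.mk f.left : Over Y.left)) :
    NonAbH1.IsLocallyTrivialFor Scheme.fpqcPrecoverage (Over.mk (f ▷ P).left : Over (Y ⊗ P).left) :=
  SpecialExt.loctriv_of_isPullback (GrpSch.isPullback_whiskerRight f P).flip h

theorem isQuotientMap_of_loctriv {X Y : Scheme.{u}} (f : X ⟶ Y)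
    (h : NonAbH1.IsLocallyTrivialFor Scheme.fpqcPrecoverage (Over.mk f : Over Y)) :
    Topology.IsQuotientMap f.base := by
  obtain ⟨R, hR, hsec⟩ := h
  exact TorsorQuot.isUnivSubmersive_of_sections f hR hsec (𝟙 X) (𝟙 Y) f (IsPullback.of_vert_isIso ⟨by simp⟩)

/-- The orbit upstairs is the preimage of the orbit downstairs. -/
theorem range_psi (hequiv : (q ⊗ₘ φ) ≫ aY.act = a.act ≫ φ) [Surjective q.left]
    (hcart : IsPullback (a.restrict iN).act (snd N X) φ φ) :
    Set.range (GIT.psi a x).left.base =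
      (φ ▷ P).left.base ⁻¹' Set.range (GIT.psi aY (x ≫ φ)).left.base := by
  have hc := psi_comm q a φ aY x hequiv
  ext z
  constructor
  · rintro ⟨g, rfl⟩
    refine ⟨(q ▷ P).left g, ?_⟩
    show (GIT.psi aY (x ≫ φ)).left ((q ▷ P).left g) = (φ ▷ P).left ((GIT.psi a x).left g)
    rw [← Scheme.Hom.comp_apply, ← Scheme.Hom.comp_apply, ← Over.comp_left, ← Over.comp_left, hc]
  · rintro ⟨h, hh⟩
    have hqs : Surjective (q ▷ P).left :=
      MorphismProperty.of_isPullback (P := @Surjective) (GrpSch.isPullback_whiskerRight q P).flip ‹_›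
    obtain ⟨g, hg⟩ := hqs.surj h
    let c := (a.restrict iN).prod (AlgGrp.Action.trivial N P)
    have e : ∀ {T : Over S} (y : T ⟶ X ⊗ P), y = lift (y ≫ fst X P) (y ≫ snd X P) := fun y => by simp
    have hc' : IsPullback c.act (snd N (X ⊗ P)) (φ ▷ P) (φ ▷ P) := by
      refine TorsorComp.isPullback_of_points c _ ?_ ?_ ?_
      · refine AlgGrp.Action.hom_ext_lift₂ fun T n y => ?_
        rw [lift_snd_assoc, e y, ← Category.assoc, AlgGrp.Action.lift_prod_act, AlgGrp.Action.lift_trivial_act,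
          lift_whiskerRight, lift_whiskerRight, Category.assoc, hcart.w, lift_snd_assoc]
      · intro T y₁ y₂ hy
        rw [e y₁, e y₂, lift_whiskerRight, lift_whiskerRight] at hy
        have h1 := congrArg (· ≫ fst Y P) hy
        have h2 := congrArg (· ≫ snd Y P) hy
        simp only [lift_fst, lift_snd] at h1 h2
        obtain ⟨n, hn⟩ := TorsorGeom.exists_act (a.restrict iN) φ hcart T _ _ h1
        exact ⟨n, by rw [e y₂, AlgGrp.Action.lift_prod_act, AlgGrp.Action.lift_trivial_act, hn, ← h2, ← e]⟩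
      · intro T n n' y hy
        rw [e y, AlgGrp.Action.lift_prod_act, AlgGrp.Action.lift_prod_act] at hy
        exact TorsorComp.act_inj (a.restrict iN) φ hcart (by simpa using congrArg (· ≫ fst X P) hy)
    obtain ⟨p, hp1, hp2⟩ := Scheme.exists_preimage_of_isPullback (hc'.map (Over.forget S)) z
      ((GIT.psi a x).left g) (by
        show (φ ▷ P).left z = (φ ▷ P).left ((GIT.psi a x).left g)
        rw [← Scheme.Hom.comp_apply (GIT.psi a x).left, ← Over.comp_left, hc, Over.comp_left, Scheme.Hom.comp_apply, hg]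
        exact hh.symm)
    obtain ⟨r, hr1, -⟩ := Scheme.exists_preimage_of_isPullback (GrpSch.isPullback_whiskerLeft N (GIT.psi a x)) p g hp2
    let m : N ⊗ (G ⊗ P) ⟶ G ⊗ P := lift ((fst N (G ⊗ P) ≫ iN) * (snd N (G ⊗ P) ≫ fst G P)) (snd N (G ⊗ P) ≫ snd G P)
    have hm : m ≫ GIT.psi a x = (N ◁ GIT.psi a x) ≫ c.act := AlgGrp.Action.hom_ext_lift₂ fun T n y => by
      have ey : y = lift (y ≫ fst G P) (y ≫ snd G P) := by simp
      rw [ey]
      simp only [m, GIT.psi, comp_lift_assoc, comp_lift, lift_whiskerLeft_assoc, lift_whiskerLeft, lift_snd,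
        lift_fst_assoc, lift_snd_assoc, lift_fst, MonObj.comp_mul, Category.assoc, AlgGrp.Action.lift_prod_act, c,
        AlgGrp.Action.lift_trivial_act, AlgGrp.Action.lift_restrict_act, AlgGrp.Action.lift_mul_act]
    refine ⟨m.left r, ?_⟩
    show (GIT.psi a x).left (m.left r) = z
    rw [← Scheme.Hom.comp_apply, ← Over.comp_left, hm, Over.comp_left, Scheme.Hom.comp_apply, hr1]
    exact hp1

theorem isClosed_range_psi_iff (hequiv : (q ⊗ₘ φ) ≫ aY.act = a.act ≫ φ) [Surjective q.left]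
    (hcart : IsPullback (a.restrict iN).act (snd N X) φ φ)
    (hloc : NonAbH1.IsLocallyTrivialFor Scheme.fpqcPrecoverage (Over.mk φ.left : Over Y.left)) :
    IsClosed (Set.range (GIT.psi a x).left.base) ↔ IsClosed (Set.range (GIT.psi aY (x ≫ φ)).left.base) := by
  rw [range_psi iN q a φ aY x hequiv hcart]
  exact (isQuotientMap_of_loctriv _ (loctriv_whiskerRight φ P hloc)).isClosed_preimage

omit [GrpObj N] [GrpObj H] in
/-- The point under a stabiliser point. -/
theorem stab_fst_snd :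
    pullback.fst (GIT.psi a x).left (lift x (𝟙 P)).left ≫ (snd G P).left = GLinSh.stabTo a x := by
  have h1 : GIT.psi a x ≫ snd X P = snd G P := lift_snd _ _
  have h2 : lift x (𝟙 P) ≫ snd X P = 𝟙 P := lift_snd _ _
  rw [← h1, Over.comp_left]
  refine (pullback.condition_assoc _).trans ?_
  rw [← Over.comp_left, h2]
  exact Category.comp_id _

/-- The stabilisers upstairs and downstairs agree. -/
theorem exists_isIso_stab (hequiv : (q ⊗ₘ φ) ≫ aY.act = a.act ≫ φ) (hker : AlgGrp.IsKernel iN q)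
    (hql : NonAbH1.IsLocallyTrivialFor Scheme.fpqcPrecoverage (Over.mk q.left : Over H.left))
    (hcart : IsPullback (a.restrict iN).act (snd N X) φ φ) :
    ∃ ρ : GLinSh.stab a x ⟶ GLinSh.stab aY (x ≫ φ), IsIso ρ ∧ ρ ≫ GLinSh.stabTo aY (x ≫ φ) = GLinSh.stabTo a x := by
  have hc := psi_comm q a φ aY x hequiv
  have hd : lift x (𝟙 P) ≫ (φ ▷ P) = lift (x ≫ φ) (𝟙 P) := lift_whiskerRight _ _ _
  let ρ : GLinSh.stab a x ⟶ GLinSh.stab aY (x ≫ φ) := pullback.map _ _ _ _ (q ▷ P).left (𝟙 _) (φ ▷ P).left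
    (congrArg (fun r => Over.Hom.left r) hc)
    ((congrArg (fun r => Over.Hom.left r) hd).trans (Category.id_comp _).symm)
  have hρ2 : ρ ≫ GLinSh.stabTo aY (x ≫ φ) = GLinSh.stabTo a x :=
    (pullback.lift_snd _ _ _).trans (Category.comp_id _)
  refine ⟨ρ, ?_, hρ2⟩
  have hρ1 : ρ ≫ pullback.fst _ _ = pullback.fst _ _ ≫ (q ▷ P).left := pullback.lift_fst _ _ _
  have key : ∀ {T : Over S} (g : T ⟶ G) (z : T ⟶ X),
      (lift g z ≫ a.act) ≫ φ = lift (g ≫ q) (z ≫ φ) ≫ aY.act := fun g z => by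
    rw [Category.assoc, ← hequiv, lift_map_assoc]
  haveI : Mono ρ := ⟨fun {W} u₁ u₂ he => by
    have hs : u₁ ≫ GLinSh.stabTo a x = u₂ ≫ GLinSh.stabTo a x := by
      have := congrArg (· ≫ GLinSh.stabTo aY (x ≫ φ)) he
      simp only [Category.assoc, hρ2] at this
      exact this
    refine pullback.hom_ext ?_ hs
    let T : Over S := Over.mk ((u₁ ≫ pullback.fst _ _) ≫ (G ⊗ P).hom)
    let p₁ : T ⟶ G ⊗ P := Over.homMk (u₁ ≫ pullback.fst _ _) rfl
    have hw : ∀ u : W ⟶ GLinSh.stab a x, (u ≫ GLinSh.stabTo a x) ≫ P.hom = (u ≫ pullback.fst _ _) ≫ (G ⊗ P).hom :=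
      fun u => by
        rw [← stab_fst_snd a x, Category.assoc, Category.assoc, Category.assoc, Over.w]
    let t : T ⟶ P := Over.homMk (u₁ ≫ GLinSh.stabTo a x) (hw u₁)
    let p₂ : T ⟶ G ⊗ P := Over.homMk (u₂ ≫ pullback.fst _ _) (by
      show (u₂ ≫ pullback.fst _ _) ≫ (G ⊗ P).hom = (u₁ ≫ pullback.fst _ _) ≫ (G ⊗ P).hom
      rw [← hw, ← hw, hs])
    have h1 : p₁ ≫ GIT.psi a x = t ≫ lift x (𝟙 P) := Over.OverMorphism.ext (by
      show (u₁ ≫ pullback.fst _ _) ≫ _ = (u₁ ≫ GLinSh.stabTo a x) ≫ _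
      exact (Category.assoc _ _ _).trans ((congrArg (u₁ ≫ ·) pullback.condition).trans (Category.assoc _ _ _).symm))
    have h2 : p₂ ≫ GIT.psi a x = t ≫ lift x (𝟙 P) := Over.OverMorphism.ext (by
      show (u₂ ≫ pullback.fst _ _) ≫ _ = (u₁ ≫ GLinSh.stabTo a x) ≫ _
      rw [hs]
      exact (Category.assoc _ _ _).trans ((congrArg (u₂ ≫ ·) pullback.condition).trans (Category.assoc _ _ _).symm))
    have hq : p₁ ≫ (q ▷ P) = p₂ ≫ (q ▷ P) := Over.OverMorphism.ext (by
      show (u₁ ≫ pullback.fst _ _) ≫ _ = (u₂ ≫ pullback.fst _ _) ≫ _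
      rw [Category.assoc, Category.assoc, ← hρ1, reassoc_of% he])
    obtain ⟨g₁, t₁, hp₁⟩ : ∃ g t', p₁ = lift g t' := ⟨p₁ ≫ fst G P, p₁ ≫ snd G P, by simp⟩
    obtain ⟨g₂, t₂, hp₂⟩ : ∃ g t', p₂ = lift g t' := ⟨p₂ ≫ fst G P, p₂ ≫ snd G P, by simp⟩
    have a1 := congrArg (· ≫ fst X P) h1
    have b1 := congrArg (· ≫ snd X P) h1
    have a2 := congrArg (· ≫ fst X P) h2
    have b2 := congrArg (· ≫ snd X P) h2
    simp [hp₁, hp₂, GIT.psi] at a1 b1 a2 b2
    rw [b1] at a1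
    rw [b2] at a2
    rw [b1] at hp₁
    rw [b2] at hp₂
    rw [hp₁, hp₂, lift_whiskerRight, lift_whiskerRight] at hq
    have hgq := congrArg (· ≫ fst H P) hq
    simp only [lift_fst] at hgq
    obtain ⟨n, hn, -⟩ := hker.exists_lift (g₂⁻¹ * g₁) (toUnit T) (by
      rw [MonObj.mul_comp, GrpObj.inv_comp, hgq, inv_mul_cancel, Hom.one_def])
    have hn1 : n = 1 := TorsorComp.act_inj (a.restrict iN) φ hcart (x := t ≫ x) (by
      rw [AlgGrp.Action.lift_restrict_act, AlgGrp.Action.lift_restrict_act, hn, MonObj.one_comp,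
        AlgGrp.Action.lift_one_act, AlgGrp.Action.lift_mul_act, a1]
      conv_lhs => rw [← a2, ← AlgGrp.Action.lift_mul_act, inv_mul_cancel, AlgGrp.Action.lift_one_act])
    rw [hn1, MonObj.one_comp] at hn
    have : p₁ = p₂ := by rw [hp₁, hp₂, inv_mul_eq_one.mp hn.symm]
    exact congrArg (fun r => Over.Hom.left r) this⟩
  refine isIso_of_mono_of_loctriv ρ ?_
  let f₀ : GLinSh.stab aY (x ≫ φ) ⟶ (H ⊗ P).left := pullback.fst _ _
  obtain ⟨R, hR, hsec⟩ := SpecialExt.loctriv_of_isPullback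
    (IsPullback.of_hasPullback (q ▷ P).left f₀) (loctriv_whiskerRight q P hql)
  refine ⟨R, hR, fun V c hcR => ?_⟩
  obtain ⟨s, hs⟩ := hsec c hcR
  change s ≫ pullback.snd (q ▷ P).left f₀ = c at hs
  let T : Over S := Over.mk ((s ≫ pullback.fst _ _) ≫ (G ⊗ P).hom)
  let p : T ⟶ G ⊗ P := Over.homMk (s ≫ pullback.fst _ _) rfl
  have e0 : (s ≫ pullback.fst _ _) ≫ (q ▷ P).left = c ≫ f₀ := by
    rw [Category.assoc, pullback.condition, reassoc_of% hs]
  let t : T ⟶ P := Over.homMk (c ≫ pullback.snd _ _) (by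
    show (c ≫ GLinSh.stabTo aY (x ≫ φ)) ≫ P.hom = (s ≫ pullback.fst _ _) ≫ (G ⊗ P).hom
    rw [← stab_fst_snd aY (x ≫ φ), ← Over.w (q ▷ P), ← Category.assoc (s ≫ pullback.fst _ _), e0]
    simp only [Category.assoc, Over.w]
    rfl)
  have h1 : p ≫ (q ▷ P) ≫ GIT.psi aY (x ≫ φ) = t ≫ lift (x ≫ φ) (𝟙 P) := Over.OverMorphism.ext
    (((Category.assoc _ _ _).symm.trans (congrArg (· ≫ (GIT.psi aY (x ≫ φ)).left) e0)).trans
      ((Category.assoc _ _ _).trans ((congrArg (c ≫ ·) pullback.condition).trans (Category.assoc _ _ _).symm)))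
  obtain ⟨g, t', hp⟩ : ∃ g t', p = lift g t' := ⟨p ≫ fst G P, p ≫ snd G P, by simp⟩
  have a1 := congrArg (· ≫ fst Y P) h1
  have b1 := congrArg (· ≫ snd Y P) h1
  simp [hp, GIT.psi] at a1 b1
  rw [b1] at hp a1
  obtain ⟨n, hn⟩ := TorsorGeom.exists_act (a.restrict iN) φ hcart T (t ≫ x) (lift g (t ≫ x) ≫ a.act)
    (by rw [key]; simpa using a1.symm)
  rw [AlgGrp.Action.lift_restrict_act, ← AlgGrp.Action.lift_mul_act] at hn
  let p' : T ⟶ G ⊗ P := lift ((n ≫ iN) * g) t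
  have h2 : p' ≫ GIT.psi a x = t ≫ lift x (𝟙 P) := by
    simp [p', GIT.psi, hn]
  have hn0 : n ≫ iN ≫ q = (1 : T ⟶ H) := by
    rw [hker.w, ← Category.assoc, Hom.one_def, toUnit_unique (n ≫ toUnit N) (toUnit T)]
  have h3 : p' ≫ (q ▷ P) = p ≫ (q ▷ P) := by
    simp [p', hp, MonObj.mul_comp, hn0]
  refine ⟨pullback.lift p'.left (c ≫ pullback.snd _ _) ?_, ?_⟩
  · rw [← Over.comp_left, h2, Over.comp_left]
    rfl
  · refine pullback.hom_ext ?_ ?_
    · show (pullback.lift _ _ _ ≫ ρ) ≫ pullback.fst _ _ = c ≫ f₀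
      rw [Category.assoc, hρ1, pullback.lift_fst_assoc, ← Over.comp_left, h3, ← e0]
      rfl
    · show (pullback.lift _ _ _ ≫ ρ) ≫ pullback.snd _ _ = _
      rw [Category.assoc, show ρ ≫ pullback.snd _ _ = pullback.snd _ _ from hρ2, pullback.lift_snd]

end

end Groth.Agent.H60.StabTors
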