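import Groth.Agent.H60.StabLocus
import Groth.Agent.Lib.Comod.Alg

/-! Stable subalgebras and translations. -/

set_option autoImplicit false
set_option linter.unusedSectionVars false
set_option linter.style.haveILetI false
universe u v w

open TensorProduct
open Groth.Agent.Lib.Comod.Basic Groth.Agent.Lib.Comod.Reynolds

namespace Groth.Agent.H60.SubAlg

noncomputable section

variable {k : Type u} [Field k] {A : Type u} [CommRing A] [HopfAlgebra k A]
variable {R : Type u} [CommRing R] [Algebra k R] [HopfRep.Comod k A R] [GLin.IsCoactAlg k A R]

/-- Translation by a rational point of the group. -/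
def transR (g : A →ₐ[k] k) : R →ₐ[k] R :=
  ((Algebra.TensorProduct.rid k k R).toAlgHom.comp (Algebra.TensorProduct.map (AlgHom.id k R) g)).comp
    (GLin.coactAlgHom k A R)

theorem transR_apply (g : A →ₐ[k] k) (r : R) : transR g r = dact R g.toLinearMap r := by
  simp only [transR, AlgHom.comp_apply, GLin.coactAlgHom_apply, dact_apply]
  induction HopfRep.Comod.coact (k := k) (A := A) r using TensorProduct.induction_on with
  | zero => simp
  | tmul a b => simp
  | add y z hy hz => simp only [map_add, hy, hz]

/-- The coaction on a stable subalgebra. -/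
@[reducible] def algComod (B : Subalgebra k R)
    (hB : HopfRep.IsSubcomod (k := k) (A := A) (Subalgebra.toSubmodule B)) : HopfRep.Comod k A B :=
  subComod (Subalgebra.toSubmodule B) hB

theorem isComodHom_val (B : Subalgebra k R)
    (hB : HopfRep.IsSubcomod (k := k) (A := A) (Subalgebra.toSubmodule B)) :
    letI := algComod B hB
    Hoch.IsComodHom A B.val.toLinearMap := by
  exact isComodHom_subtype hB

theorem coact_val (B : Subalgebra k R)
    (hB : HopfRep.IsSubcomod (k := k) (A := A) (Subalgebra.toSubmodule B)) (b : B) :
    letI := algComod B hB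
    HopfRep.Comod.coact (k := k) (A := A) (B.val b) =
      Algebra.TensorProduct.map B.val (AlgHom.id k A) (HopfRep.Comod.coact (k := k) (A := A) b) := by
  letI := algComod B hB
  have h := LinearMap.congr_fun (isComodHom_val B hB) b
  simp only [LinearMap.comp_apply, AlgHom.toLinearMap_apply] at h
  rw [h]
  induction HopfRep.Comod.coact (k := k) (A := A) b using TensorProduct.induction_on with
  | zero => simp
  | tmul _ _ => simp
  | add y z hy hz => simp only [map_add, hy, hz]

theorem isCoactAlg (B : Subalgebra k R)
    (hB : HopfRep.IsSubcomod (k := k) (A := A) (Subalgebra.toSubmodule B)) :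
    letI := algComod B hB
    GLin.IsCoactAlg k A B := by
  letI := algComod B hB
  have hinj : Function.Injective (Algebra.TensorProduct.map B.val (AlgHom.id k A)) :=
    (Module.Flat.rTensor_preserves_injective_linearMap (M := A) B.val.toLinearMap Subtype.val_injective)
  refine ⟨hinj ?_, fun a b => hinj ?_⟩
  · rw [← coact_val B hB]; simp [GLin.IsCoactAlg.coact_one (k := k) (A := A)]
  · rw [← coact_val B hB]; simp only [map_mul]; rw [← coact_val B hB, ← coact_val B hB, GLin.IsCoactAlg.coact_mul (k := k) (A := A)]

variable [IsAlgClosed k] [Algebra.FiniteType k A] [IsReduced A]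

/-- A subalgebra generated by a set stable under translations is stable. -/
theorem isSubcomod_adjoin {S : Type u} [CommRing S] [Algebra k S] [HopfRep.Comod k A S]
    [GLin.IsCoactAlg k A S] [Algebra S R] [IsScalarTower k S R]
    (hS : Hoch.IsComodHom A (IsScalarTower.toAlgHom k S R).toLinearMap) {W : Submodule k R}
    (hW : HopfRep.IsSubcomod (k := k) (A := A) W) :
    HopfRep.IsSubcomod (k := k) (A := A)
      (Subalgebra.toSubmodule ((Algebra.adjoin S (W : Set R)).restrictScalars k)) := by
  refine StabLocus.isSubcomod_of_forall_pt fun g r hr => ?_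
  change r ∈ Algebra.adjoin S (W : Set R) at hr
  change dact R g.toLinearMap r ∈ Algebra.adjoin S (W : Set R)
  rw [← transR_apply]
  induction hr using Algebra.adjoin_induction with
  | mem w hw => rw [transR_apply]; exact Algebra.subset_adjoin (dact_mem hW _ hw)
  | algebraMap s =>
    rw [transR_apply]
    have h := map_dact hS g.toLinearMap s
    simp only [AlgHom.toLinearMap_apply, IsScalarTower.toAlgHom_apply] at h
    exact h ▸ Subalgebra.algebraMap_mem _ _
  | add a b _ _ ha hb => rw [map_add]; exact add_mem ha hb
  | mul a b _ _ ha hb => rw [map_mul]; exact mul_mem ha hb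

/-- The integral closure of an equivariant algebra is stable. -/
theorem isSubcomod_integralClosure {S : Type u} [CommRing S] [Algebra k S] [HopfRep.Comod k A S]
    [GLin.IsCoactAlg k A S] [Algebra S R] [IsScalarTower k S R]
    (hS : Hoch.IsComodHom A (IsScalarTower.toAlgHom k S R).toLinearMap) :
    HopfRep.IsSubcomod (k := k) (A := A)
      (Subalgebra.toSubmodule ((integralClosure S R).restrictScalars k)) := by
  refine StabLocus.isSubcomod_of_forall_pt fun g r hr => ?_
  change IsIntegral S r at hr
  change IsIntegral S (dact R g.toLinearMap r)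
  rw [← transR_apply]
  obtain ⟨p, hp, hpr⟩ := hr
  refine ⟨p.map (transR g : S →ₐ[k] S).toRingHom, hp.map _, ?_⟩
  have hcomp : (algebraMap S R).comp (transR g : S →ₐ[k] S).toRingHom =
      (transR g : R →ₐ[k] R).toRingHom.comp (algebraMap S R) := RingHom.ext fun s => by
    have h := map_dact hS g.toLinearMap s
    simp only [AlgHom.toLinearMap_apply, IsScalarTower.toAlgHom_apply] at h
    simp [transR_apply, h]
  have h1 : (transR g : R →ₐ[k] R).toRingHom (Polynomial.eval₂ (algebraMap S R) r p) = 0 := by
    rw [hpr, map_zero]
  rw [Polynomial.eval₂_map, hcomp]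
  rw [Polynomial.hom_eval₂] at h1
  exact h1

end

end Groth.Agent.H60.SubAlg
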