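import Mathlib

/-!
# Tails of weighted sums
-/

set_option autoImplicit false
universe u
namespace Groth.Agent.H60.ThetaTilde

variable {ι : Type u} {θ : ι → ℚ} {h h' : ι → ℕ} (hle : ∀ i, h' i ≤ h i)
include hle

theorem mul_ratio (i : ι) : (θ i : ℝ) * (h' i : ℝ) = (θ i : ℝ) * (h i : ℝ) * ((h' i : ℝ) / (h i : ℝ)) := by
  by_cases hh : h i = 0
  · simp [hh, Nat.le_zero.1 (hh ▸ hle i)]
  · field_simp

theorem ratio_le_one (i : ι) : (h' i : ℝ) / (h i : ℝ) ≤ 1 := by
  rcases Nat.eq_zero_or_pos (h i) with hh | hh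
  · simp [hh]
  · rw [div_le_one (by exact_mod_cast hh)]
    exact_mod_cast hle i

theorem summable_sub (hsum : Summable (fun i => (θ i : ℝ) * (h i : ℝ))) :
    Summable (fun i => (θ i : ℝ) * (h' i : ℝ)) :=
  Summable.of_norm_bounded hsum.norm fun i => by
    rw [norm_mul, norm_mul]
    refine mul_le_mul_of_nonneg_left ?_ (norm_nonneg _)
    simp only [RCLike.norm_natCast]
    exact_mod_cast hle i

omit hle in
theorem tsum_eq_sum_add [DecidableEq ι] {a : ι → ℝ} (ha : Summable a) (D : Finset ι) :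
    ∑' i, a i = ∑ i ∈ D, a i + ∑' i, if i ∈ D then (0 : ℝ) else a i := by
  have h1 : Summable fun i => if i ∈ D then (0 : ℝ) else a i :=
    Summable.of_norm_bounded ha.norm fun i => by split_ifs <;> simp
  have h2 : Summable fun i => if i ∈ D then a i else 0 :=
    summable_of_ne_finset_zero (s := D) fun i hi => if_neg hi
  have h3 : (∑' i, if i ∈ D then a i else 0) = ∑ i ∈ D, a i := by
    rw [tsum_eq_sum (s := D) fun i hi => if_neg hi]
    exact Finset.sum_congr rfl fun i hi => if_pos hi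
  rw [← h3, ← h2.tsum_add h1]
  exact tsum_congr fun i => by split_ifs <;> simp

end Groth.Agent.H60.ThetaTilde
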