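import Groth.Agent.H60.StabTors

/-!
An equivariant map of torsors is a base change.
-/

set_option autoImplicit false
set_option backward.isDefEq.respectTransparency false
set_option backward.isDefEq.respectTransparency.types false

universe u

open CategoryTheory CategoryTheory.Limits AlgebraicGeometry MonoidalCategory CartesianMonoidalCategory MonObj
open Groth.Agent.Lib

namespace Groth.Agent.H60.TorsMap

noncomputable section

variable {S : Scheme.{u}} {G A B A' B' : Over S} [GrpObj G]
  (a : AlgGrp.Action G A) (b : AlgGrp.Action G B)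
  (qA : A ⟶ A') (qB : B ⟶ B') (f : A ⟶ B) (fG : A' ⟶ B')

/-- An equivariant map of torsors is a base change of the induced map of quotients. -/
theorem isPullback_of_torsors (hA : IsPullback a.act (snd G A) qA qA) (hB : IsPullback b.act (snd G B) qB qB)
    (hl : NonAbH1.IsLocallyTrivialFor Scheme.fpqcPrecoverage (Over.mk qA.left : Over A'.left))
    (hf : a.act ≫ f = (G ◁ f) ≫ b.act) (w : f ≫ qB = qA ≫ fG) :
    IsPullback f.left qA.left qB.left fG.left := by
  have w' : f.left ≫ qB.left = qA.left ≫ fG.left := by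
    rw [← Over.comp_left, ← Over.comp_left, w]
  let c : A.left ⟶ pullback qB.left fG.left := pullback.lift f.left qA.left w'
  have hmove : ∀ {T : Over S} (g : T ⟶ G) (z : T ⟶ A), (lift g z ≫ a.act) ≫ f = lift g (z ≫ f) ≫ b.act :=
    fun g z => by rw [Category.assoc, hf, lift_whiskerLeft_assoc]
  haveI : Mono c := ⟨fun {W} u₁ u₂ he => by
    have hq : u₁ ≫ qA.left = u₂ ≫ qA.left := by
      simpa [c] using congrArg (· ≫ pullback.snd qB.left fG.left) he
    have hf' : u₁ ≫ f.left = u₂ ≫ f.left := by
      simpa [c] using congrArg (· ≫ pullback.fst qB.left fG.left) he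
    let T : Over S := Over.mk (u₁ ≫ A.hom)
    let z₁ : T ⟶ A := Over.homMk u₁ rfl
    let z₂ : T ⟶ A := Over.homMk u₂ (by
      show u₂ ≫ A.hom = u₁ ≫ A.hom
      rw [← Over.w qA, reassoc_of% hq])
    have e : z₁ ≫ f = z₂ ≫ f := Over.OverMorphism.ext hf'
    obtain ⟨g, hg⟩ := TorsorGeom.exists_act a qA hA T z₁ z₂ (Over.OverMorphism.ext hq)
    have hg1 : g = 1 := TorsorComp.act_inj b qB hB (x := z₂ ≫ f) (by
      rw [← hmove, hg, e, AlgGrp.Action.lift_one_act])
    rw [hg1, AlgGrp.Action.lift_one_act] at hg
    exact congrArg (fun r => Over.Hom.left r) hg.symm⟩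
  haveI : IsIso c := by
    refine StabTors.isIso_of_mono_of_loctriv c ?_
    obtain ⟨R, hR, hsec⟩ := SpecialExt.loctriv_of_isPullback
      (IsPullback.of_hasPullback qA.left (pullback.snd qB.left fG.left)) hl
    refine ⟨R, hR, fun V d hd => ?_⟩
    obtain ⟨s, hs⟩ := hsec d hd
    change s ≫ pullback.snd qA.left (pullback.snd qB.left fG.left) = d at hs
    let z := s ≫ pullback.fst qA.left (pullback.snd qB.left fG.left)
    have hz : z ≫ qA.left = d ≫ pullback.snd qB.left fG.left := by
      simp only [z, Category.assoc, pullback.condition, reassoc_of% hs]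
    let T : Over S := Over.mk (z ≫ A.hom)
    let zT : T ⟶ A := Over.homMk z rfl
    have hy : (d ≫ pullback.fst qB.left fG.left) ≫ qB.left = (z ≫ qA.left) ≫ fG.left := by
      rw [Category.assoc, pullback.condition, ← Category.assoc, hz]
    let yT : T ⟶ B := Over.homMk (d ≫ pullback.fst qB.left fG.left) (by
      show (d ≫ pullback.fst qB.left fG.left) ≫ B.hom = z ≫ A.hom
      rw [← Over.w qB, ← Category.assoc, hy, Category.assoc, Category.assoc, Over.w fG, Over.w qA])
    have e : yT ≫ qB = (zT ≫ f) ≫ qB := Over.OverMorphism.ext (by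
      show (d ≫ pullback.fst qB.left fG.left) ≫ qB.left = (z ≫ f.left) ≫ qB.left
      rw [hy, Category.assoc z f.left, w', Category.assoc])
    obtain ⟨g, hg⟩ := TorsorGeom.exists_act b qB hB T yT (zT ≫ f) e
    refine ⟨(lift g zT ≫ a.act).left, ?_⟩
    refine pullback.hom_ext ?_ ?_
    · show ((lift g zT ≫ a.act).left ≫ c) ≫ pullback.fst _ _ = d ≫ pullback.fst _ _
      rw [Category.assoc, pullback.lift_fst, ← Over.comp_left, hmove, hg]
      rfl
    · show ((lift g zT ≫ a.act).left ≫ c) ≫ pullback.snd _ _ = d ≫ pullback.snd _ _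
      rw [Category.assoc, pullback.lift_snd, ← Over.comp_left, Category.assoc,
        show a.act ≫ qA = snd G A ≫ qA from hA.w, lift_snd_assoc, Over.comp_left]
      exact hz
  exact IsPullback.of_iso_pullback ⟨w'⟩ (asIso c) (pullback.lift_fst _ _ _) (pullback.lift_snd _ _ _)

end

end Groth.Agent.H60.TorsMap
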